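import Cfsg.Agent.Lib.TwoRadGen.Basic

/-!
# An element fixed by two non-commuting members and their neighbourhoods
-/

set_option autoImplicit false
set_option linter.unusedSectionVars false
set_option linter.unusedVariables false

namespace CfsgLib.TwoRadGen

open Cfsg CfsgLib.ThreeTrans CfsgLib.TwoRadical

universe u

variable {G : Type u} [Group G] [Finite G] {D : Set G}

theorem s4_perp (hc : ConjClosed D) {e x c : G} (he : e ∈ D) (hx : x ∈ D) (hcD : c ∈ D)
    (hce : ¬ Commute c e) (hxe : ¬ Commute x e) (hxc : Commute x c) :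
    Commute (c * (e * x * e) * c) e ∧ e * ((c * (e * x * e) * c) * x * (c * (e * x * e) * c)) * e = c := by
  have hs := hc.set
  have cc := mul_self hs hcD
  have ee := mul_self hs he
  have xx := mul_self hs hx
  have b1 : e * x * e = x * e * x := braid hs he hx fun k => hxe k.symm
  have b2 : c * e * c = e * c * e := braid hs hcD he hce
  constructor
  · have h := (Commute.conj_iff e).mpr hxc
    rw [inv_eq hs he, ← b2] at h
    have h2 := (Commute.conj_iff c).mpr h
    rw [inv_eq hs hcD] at h2
    rwa [show c * (c * e * c) * c = e by simp [mul_assoc, cc, mul_self_mul hs hcD]] at h2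
  · have pxp : (e * x * e) * x * (e * x * e) = e := by
      rw [b1]
      calc x * e * x * x * (x * e * x) = x * (e * x * e) * x := by simp [mul_assoc, mul_self_mul hs hx, xx]
        _ = e := by rw [b1]; simp [mul_assoc, mul_self_mul hs hx, xx]
    generalize e * x * e = p at pxp ⊢
    have hxc' : c * x * c = x := by rw [mul_assoc, hxc.eq, ← mul_assoc, cc, one_mul]
    calc e * (c * p * c * x * (c * p * c)) * e = e * (c * (p * (c * x * c) * p) * c) * e := by
          simp [mul_assoc]
      _ = e * (c * e * c) * e := by rw [hxc', pxp]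
      _ = c := by rw [b2]; simp [mul_assoc, mul_self_mul hs he, ee]

/-- A normal elementary abelian subgroup of the 2-core. -/
structure Sect (M : Subgroup G) : Prop where
  normal : M.Normal
  le : M ≤ pCore 2 G
  sq : ∀ m ∈ M, m * m = 1

namespace Sect

variable {M : Subgroup G} (S : Sect M)
include S

theorem conj (g : G) {m : G} (hm : m ∈ M) : g * m * g⁻¹ ∈ M := S.normal.conj_mem m hm g

theorem conjD (hs : IsThreeTranspositionSet D) {d : G} (hd : d ∈ D) {m : G} (hm : m ∈ M) : d * m * d ∈ M := by
  have := S.conj d hm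
  rwa [inv_eq hs hd] at this

theorem inv_eq {m : G} (hm : m ∈ M) : m⁻¹ = m := inv_eq_of_mul_eq_one_right (S.sq m hm)

theorem comm {a b : G} (ha : a ∈ M) (hb : b ∈ M) : Commute a b := by
  show a * b = b * a
  calc a * b = (a * b)⁻¹ := (S.inv_eq (mul_mem ha hb)).symm
    _ = b⁻¹ * a⁻¹ := _root_.mul_inv_rev a b
    _ = b * a := by rw [S.inv_eq ha, S.inv_eq hb]

/-- The sum over the powers of an element of order three is fixed. -/
theorem sum_fixed {t : G} (ht : t ^ 3 = 1) {w : G} (hw : w ∈ M) :
    Commute t (w * (t * w * t⁻¹) * (t * (t * w * t⁻¹) * t⁻¹)) := by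
  have h1 := S.conj t hw
  have h2 := S.conj t h1
  have e3 : t * (t * (t * w * t⁻¹) * t⁻¹) * t⁻¹ = w := by
    have e : t * (t * (t * w * t⁻¹) * t⁻¹) * t⁻¹ = t ^ 3 * w * (t ^ 3)⁻¹ := by
      simp [pow_succ, mul_assoc]
    rw [e, ht]; simp
  show t * _ = _ * t
  rw [← mul_inv_eq_iff_eq_mul]
  have hmul : ∀ x y, t * (x * y) * t⁻¹ = (t * x * t⁻¹) * (t * y * t⁻¹) := fun x y => by simp [mul_assoc]
  rw [hmul, hmul, e3]
  exact ((S.comm hw (mul_mem h1 h2)).eq.symm).trans (mul_assoc w _ _).symm

end Sect

namespace Hyp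

variable (H : Hyp D) {M : Subgroup G} (S : Sect M)
include H S

/-- A product `w · ewe` fixed by a member not commuting with `e` is trivial. -/
theorem fix_zero {e d w : G} (he : e ∈ D) (hd : d ∈ D) (hed : ¬ Commute e d) (hw : w ∈ M)
    (h : Commute d (w * (e * w * e))) : w * (e * w * e) = 1 := by
  have hs := H.set
  have ee := mul_self hs he
  have hwe := S.conjD hs he hw
  set i := w * (e * w * e) with hi
  have hiM : i ∈ M := mul_mem hw hwe
  have hie : Commute e i := by
    show e * i = i * e
    rw [hi, (S.comm hw hwe).eq]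
    calc e * (e * w * e * w) = w * e * w := by simp [mul_assoc, mul_self_mul hs he]
      _ = e * w * e * w * e := by
        have h' := (S.comm hw hwe).eq
        calc w * e * w = w * (e * w * e) * e := by simp [mul_assoc, ee]
          _ = e * w * e * w * e := by rw [h']
  set t := e * d with ht
  have ht3 : t ^ 3 = 1 := pow_three_of_not_commute hs he hd hed
  have hti : Commute t i := hie.mul_left h
  -- sums over the powers of `t`
  set t' := d * e with ht'
  have htinv : t⁻¹ = t' := by rw [ht, mul_inv_rev, ThreeTrans.inv_eq hs hd, ThreeTrans.inv_eq hs he]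
  have key : ∀ x, t * (e * x * e) * t⁻¹ = e * (t⁻¹ * x * t) * e := fun x => by
    rw [htinv, ht]; simp [mul_assoc, ht']
  have t2 : ∀ x, t * (t * x * t⁻¹) * t⁻¹ = t⁻¹ * x * t := fun x => by
    have e2 : t * t = t⁻¹ := eq_inv_of_mul_eq_one_left (by rw [← pow_two, ← pow_succ, ht3])
    calc t * (t * x * t⁻¹) * t⁻¹ = (t * t) * x * (t * t)⁻¹ := by simp [mul_assoc]
      _ = t⁻¹ * x * t := by rw [e2, inv_inv]
  set N := w * (t * w * t⁻¹) * (t * (t * w * t⁻¹) * t⁻¹) with hN
  have hNM : N ∈ M := mul_mem (mul_mem hw (S.conj t hw)) (S.conj t (S.conj t hw))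
  have hNt : Commute t N := S.sum_fixed ht3 hw
  have hNe : Commute e N := H.commute_of_commute_prod (S.le hNM) he hd hed hNt
  have hsum : i = N * (e * N * e) := by
    have a1 := S.conj t hw
    have a2 := S.conj t a1
    have h3 : i = i * (t * i * t⁻¹) * (t * (t * i * t⁻¹) * t⁻¹) := by
      rw [mul_inv_eq_iff_eq_mul.mpr hti.eq, mul_inv_eq_iff_eq_mul.mpr hti.eq, mul_assoc, S.sq i hiM, mul_one]
    have eN : e * N * e = (e * w * e) * (t * (e * w * e) * t⁻¹) * (t * (t * (e * w * e) * t⁻¹) * t⁻¹) := by
      rw [t2 (e * w * e), key w, hN, t2 w]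
      have q1 : t⁻¹ * (e * w * e) * t = e * (t * w * t⁻¹) * e := by
        rw [htinv, ht]; simp [mul_assoc, ht', mul_self_mul hs he, ee]
      rw [q1]
      have c1 := S.comm (S.conj t hw) (show t⁻¹ * w * t ∈ M by simpa using S.conj t⁻¹ hw)
      calc e * (w * (t * w * t⁻¹) * (t⁻¹ * w * t)) * e = e * (w * ((t⁻¹ * w * t) * (t * w * t⁻¹))) * e := by
            rw [mul_assoc w, c1.eq]
        _ = _ := by simp [mul_assoc, mul_self_mul hs he]
    rw [eN, h3, hi, hN]
    have b0 := hwe
    have b1 := S.conj t hwe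
    have b2 := S.conj t b1
    have e1 : t * (w * (e * w * e)) * t⁻¹ = (t * w * t⁻¹) * (t * (e * w * e) * t⁻¹) := by simp [mul_assoc]
    have e2 : t * ((t * w * t⁻¹) * (t * (e * w * e) * t⁻¹)) * t⁻¹ =
        (t * (t * w * t⁻¹) * t⁻¹) * (t * (t * (e * w * e) * t⁻¹) * t⁻¹) := by simp [mul_assoc]
    rw [e1, e2, (S.comm hwe a1).mul_mul_mul_comm, (S.comm (mul_mem b0 b1) a2).mul_mul_mul_comm]
  rw [hsum, mul_assoc e, ← hNe.eq, ← mul_assoc e, ← mul_assoc, ee, mul_one, S.sq N hNM]

omit S in
/-- An element fixed by `e`, its neighbours and `x` is fixed by the neighbours of `x`. -/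
theorem fixed_nbr {m e x : G} (he : e ∈ D) (hx : x ∈ D) (hex : ¬ Commute e x) (hme : Commute m e)
    (hmC : ∀ c ∈ D, Commute c e → Commute m c) (hmx : Commute m x) {c : G} (hc : c ∈ D) (hxc : Commute x c) :
    Commute m c := by
  by_cases hce : Commute c e
  · exact hmC c hc hce
  obtain ⟨hperp, heq⟩ := s4_perp H.closed he hx hc hce (fun k => hex k.symm) hxc
  set h := c * (e * x * e) * c with hh
  have hhD : h ∈ D := conj_mem_left H.closed hc (conj_mem_left H.closed he hx)
  have hmh := hmC h hhD hperp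
  rw [← heq]
  exact (hme.mul_right ((hmh.mul_right hmx).mul_right hmh)).mul_right hme

/-- The part along `e` of an element fixed by `e`. -/
theorem decomp {m e x : G} (hm : m ∈ M) (he : e ∈ D) (hx : x ∈ D) (hex : ¬ Commute e x)
    (hme : Commute m e) (hmC : ∀ c ∈ D, Commute c e → Commute m c) (hmx : ¬ Commute m x) :
    ∃ i ∈ M, i ≠ 1 ∧ Commute (m * i) e ∧ Commute (m * i) x ∧
      (∀ c ∈ D, Commute c e → Commute (m * i) c) ∧ ∀ d ∈ D, ¬ Commute e d → ¬ Commute i d := by
  have hs := H.set
  have ee := mul_self hs he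
  have xx := mul_self hs hx
  set w := x * m * x with hw
  have hwM : w ∈ M := S.conjD hs hx hm
  set i := w * (e * w * e) with hi
  have hiM : i ∈ M := mul_mem hwM (S.conjD hs he hwM)
  set t := e * x with ht
  have ht3 : t ^ 3 = 1 := pow_three_of_not_commute hs he hx hex
  have e1 : t * m * t⁻¹ = e * w * e := by
    rw [ht, mul_inv_rev, ThreeTrans.inv_eq hs hx, ThreeTrans.inv_eq hs he, hw]; simp [mul_assoc]
  have hb : e * x * e = x * e * x := braid hs he hx hex
  have e2 : t * (t * m * t⁻¹) * t⁻¹ = w := by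
    rw [e1, ht, mul_inv_rev, ThreeTrans.inv_eq hs hx, ThreeTrans.inv_eq hs he]
    calc e * x * (e * w * e) * (x * e) = (e * x * e) * w * (e * x * e) := by simp [mul_assoc]
      _ = x * e * x * (x * m * x) * (x * e * x) := by rw [hb, hw]
      _ = x * (e * m * e) * x := by simp [mul_assoc, mul_self_mul hs hx]
      _ = w := by rw [← hme.eq, mul_assoc m, ee, mul_one, hw]
  have hmi : m * i = m * (t * m * t⁻¹) * (t * (t * m * t⁻¹) * t⁻¹) := by
    rw [e1] at e2 ⊢
    rw [e2, hi, (S.comm hwM (S.conjD hs he hwM)).eq]; simp [mul_assoc]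
  have hfix : Commute t (m * i) := by rw [hmi]; exact S.sum_fixed ht3 hm
  have hQ : m * i ∈ pCore 2 G := S.le (mul_mem hm hiM)
  have hA : i ∈ A D e := by
    have h' := H.commutator_mem_A (S.le hwM) he
    rw [S.inv_eq hwM] at h'
    rwa [hi, show w * (e * w * e) = w * e * w * e by simp [mul_assoc]]
  have hi1 : i ≠ 1 := by
    intro h
    rw [h, mul_one] at hfix hQ
    exact hmx (H.commute_of_commute_prod' hQ he hx hex hfix).symm
  refine ⟨i, hiM, hi1, (H.commute_of_commute_prod hQ he hx hex hfix).symm,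
    (H.commute_of_commute_prod' hQ he hx hex hfix).symm,
    fun c hc hce => (hmC c hc hce).mul_left (H.A_comm_member hc he hce hA).symm, fun d hd hed h => hi1 ?_⟩
  exact H.fix_zero S he hd hed hwM h.symm

omit S in
/-- Outside the centraliser of such an element, common neighbours are forced. -/
theorem perp_forced {m u v x c : G} (hu : u ∈ D) (hv : v ∈ D) (huv : ¬ Commute u v)
    (hmu : Commute m u) (hmv : Commute m v) (hmC : ∀ c ∈ D, Commute c u → Commute m c)
    (hx : x ∈ D) (hmx : ¬ Commute m x) (hc : c ∈ D) (hcu : Commute c u) (hcx : Commute c x) :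
    Commute c v := by
  by_contra hcv
  apply hmx
  have hs := H.set
  have hmc := hmC c hc hcu
  set g := v * c with hg
  have hgc : g⁻¹ * c * g = v := by
    rw [hg, mul_inv_rev, ThreeTrans.inv_eq hs hc, ThreeTrans.inv_eq hs hv]
    calc c * v * c * (v * c) = c * (v * c * v) * c := by simp [mul_assoc]
      _ = v := by
        rw [← braid hs hc hv hcv]; simp [mul_assoc, mul_self hs hc, mul_self_mul hs hc]
  have h1 : Commute v (g⁻¹ * x * g) := by
    rw [← hgc]
    have := (Commute.conj_iff g⁻¹).mpr hcx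
    rwa [inv_inv] at this
  have h2 := H.fixed_nbr hu hv huv hmu hmC hmv (H.closed.conj' g hx) h1
  have h3 : Commute m g := hmv.mul_right hmc
  have h4 := (h3.mul_right h2).mul_right h3.inv_right
  rwa [show g * (g⁻¹ * x * g) * g⁻¹ = x by group] at h4

/-- If such an element is not central, common neighbours of a member and a far member do not depend on
the far member. -/
theorem common_const {m u v x : G} (hm : m ∈ M) (hu : u ∈ D) (hv : v ∈ D) (huv : ¬ Commute u v)
    (hmu : Commute m u) (hmv : Commute m v) (hmC : ∀ c ∈ D, Commute c u → Commute m c)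
    (hx : x ∈ D) (hmx : ¬ Commute m x) {y : G} (hy : y ∈ D) (huy : ¬ Commute u y)
    {c : G} (hc : c ∈ D) (hcu : Commute c u) : Commute c y ↔ Commute c v := by
  have outside : ∀ x ∈ D, ¬ Commute m x → ¬ Commute u x ∧ ∀ c ∈ D, Commute c u →
      (Commute c x ↔ Commute c v) := by
    intro x hx hmx
    have hux : ¬ Commute u x := fun k => hmx (hmC x hx k.symm)
    refine ⟨hux, fun c hc hcu => ⟨H.perp_forced hu hv huv hmu hmv hmC hx hmx hc hcu, fun hcv => ?_⟩⟩
    obtain ⟨i, hi, hi1, h1, h2, h3, h4⟩ := H.decomp S hm hu hx hux hmu hmC hmx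
    refine H.perp_forced hu hx hux h1 h2 h3 hv (fun k => h4 v hv huv ?_) hc hcu hcv
    have := hmv.mul_left k
    rwa [← mul_assoc, S.sq m hm, one_mul] at this
  by_cases hmy : Commute m y
  · obtain ⟨hux, hout⟩ := outside x hx hmx
    rw [← hout c hc hcu]
    obtain ⟨i, hi, hi1, h1, h2, h3, h4⟩ := H.decomp S hm hu hx hux hmu hmC hmx
    refine ⟨fun k => H.perp_forced hu hx hux h1 h2 h3 hy (fun k' => h4 y hy huy ?_) hc hcu k,
      fun k => H.perp_forced hu hy huy hmu hmy hmC hx hmx hc hcu k⟩
    have := hmy.mul_left k'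
    rwa [← mul_assoc, S.sq m hm, one_mul] at this
  · exact (outside y hy hmy).2 c hc hcu

omit S in
/-- Commuting transitive classes have width one modulo the 2-core. -/
theorem same_of_transitive (hT : ∀ a ∈ D, ∀ b ∈ D, ∀ y ∈ D, Commute a b → ¬ Commute a y → ¬ Commute b y)
    {a b : G} (ha : a ∈ D) (hb : b ∈ D) (hab : Commute a b) : Same a b := by
  have hs := H.set
  set S₀ : Set G := {z | ∃ p ∈ D, ∃ q ∈ D, Commute p q ∧ z = p * q} with hS
  set N := Subgroup.closure S₀ with hN
  have hNn : N.Normal := ⟨fun z hz g => by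
    induction hz using Subgroup.closure_induction with
    | mem z hz =>
      obtain ⟨p, hp, q, hq, hpq, rfl⟩ := hz
      exact Subgroup.subset_closure ⟨_, H.closed.conj g p hp, _, H.closed.conj g q hq,
        (Commute.conj_iff g).mpr hpq, by group⟩
    | one => simp
    | mul x y _ _ ihx ihy => simpa [mul_assoc] using mul_mem ihx ihy
    | inv x _ ih => simpa [mul_assoc] using inv_mem ih⟩
  let P : G → Subgroup G := fun y =>
    Subgroup.closure {z | ∃ p ∈ D, ∃ q ∈ D, Commute p y ∧ Commute q y ∧ z = p * q}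
  have clique : ∀ y ∈ D, ∀ p ∈ D, ∀ q ∈ D, Commute p y → Commute q y → Commute p q := by
    intro y hy p hp q hq h1 h2
    by_contra hpq
    exact hT p hp y hy q hq h1 hpq h2.symm
  have hPN : ∀ y ∈ D, P y ≤ N := fun y hy => (Subgroup.closure_le _).2 fun z ⟨p, hp, q, hq, h1, h2, hz⟩ =>
    Subgroup.subset_closure ⟨p, hp, q, hq, clique y hy p hp q hq h1 h2, hz⟩
  have hP2 : ∀ y ∈ D, ∀ z ∈ P y, z * z = 1 := by
    intro y hy
    have hcomm : ∀ z ∈ P y, ∀ r ∈ D, Commute r y → Commute z r := by
      intro z hz r hr hry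
      induction hz using Subgroup.closure_induction with
      | mem z hz =>
        obtain ⟨p, hp, q, hq, h1, h2, rfl⟩ := hz
        exact (clique y hy p hp r hr h1 hry).mul_left (clique y hy q hq r hr h2 hry)
      | one => exact Commute.one_left r
      | mul x y _ _ ihx ihy => exact ihx.mul_left ihy
      | inv x _ ih => exact ih.inv_left
    have hab' : ∀ z ∈ P y, ∀ z' ∈ P y, Commute z z' := by
      intro z hz z' hz'
      induction hz' using Subgroup.closure_induction with
      | mem z' hz' =>
        obtain ⟨p, hp, q, hq, h1, h2, rfl⟩ := hz'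
        exact (hcomm z hz p hp h1).mul_right (hcomm z hz q hq h2)
      | one => exact Commute.one_right z
      | mul x y _ _ ihx ihy => exact ihx.mul_right ihy
      | inv x _ ih => exact ih.inv_right
    intro z hz
    induction hz using Subgroup.closure_induction with
    | mem z hz =>
      obtain ⟨p, hp, q, hq, h1, h2, rfl⟩ := hz
      rw [(clique y hy p hp q hq h1 h2).symm.mul_mul_mul_comm, mul_self hs hp, mul_self hs hq, one_mul]
    | one => rw [one_mul]
    | mul x x' hx hx' ihx ihx' => rw [(hab' x' hx' x hx).mul_mul_mul_comm, ihx, ihx', one_mul]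
    | inv x _ ih => rw [← _root_.mul_inv_rev, ih, inv_one]
  have hnorm : ∀ y ∈ D, ∀ g ∈ N, ∀ z ∈ P y, g * z * g⁻¹ ∈ P y := by
    intro y hy
    have key : ∀ p ∈ D, ∀ q ∈ D, Commute p q → Commute (p * q * y * (p * q)⁻¹) y := by
      intro p hp q hq hpq
      rw [mul_inv_rev, ThreeTrans.inv_eq hs hp, ThreeTrans.inv_eq hs hq]
      by_cases hpy : Commute p y
      · have hqy : Commute q y := by
          by_contra k
          exact hT q hq p hp y hy hpq.symm k hpy
        rw [(hpy.mul_left hqy).eq]
        simp [mul_assoc, mul_self hs hp, mul_self_mul hs hq]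
      · have hqy : ¬ Commute q y := hT p hp q hq y hy hpq hpy
        have h := (Commute.conj_iff y).mpr hpq.symm
        rw [ThreeTrans.inv_eq hs hy, ← braid hs hp hy hpy, ← braid hs hq hy hqy] at h
        have h2 := (Commute.conj_iff p).mpr h
        rw [ThreeTrans.inv_eq hs hp, show p * (p * y * p) * p = y by simp [mul_assoc, mul_self hs hp, mul_self_mul hs hp],
          show p * (q * y * q) * p = p * q * y * (q * p) by simp [mul_assoc]] at h2
        exact h2
    have hcl : ∀ g ∈ N, Commute (g * y * g⁻¹) y := by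
      intro g hg
      rw [hN, ← Subgroup.mem_toSubmonoid, Subgroup.closure_toSubmonoid_of_finite] at hg
      induction hg using Submonoid.closure_induction with
      | mem g hg =>
        obtain ⟨p, hp, q, hq, hpq, rfl⟩ := hg
        exact key p hp q hq hpq
      | one => simp
      | mul g g' _ _ ih ih' =>
        have h1 : Commute (g * g' * y * (g * g')⁻¹) (g * y * g⁻¹) := by
          rw [show g * g' * y * (g * g')⁻¹ = g * (g' * y * g'⁻¹) * g⁻¹ by group]
          exact (Commute.conj_iff g).mpr ih'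
        exact clique _ (H.closed.conj g y hy) _ (H.closed.conj (g * g') y hy) y hy h1 ih.symm
    intro g hg z hz
    induction hz using Subgroup.closure_induction with
    | mem z hz =>
      obtain ⟨p, hp, q, hq, h1, h2, rfl⟩ := hz
      have hg' := hcl g hg
      refine Subgroup.subset_closure ⟨_, H.closed.conj g p hp, _, H.closed.conj g q hq,
        clique _ (H.closed.conj g y hy) _ (H.closed.conj g p hp) y hy ((Commute.conj_iff g).mpr h1) hg'.symm,
        clique _ (H.closed.conj g y hy) _ (H.closed.conj g q hq) y hy ((Commute.conj_iff g).mpr h2) hg'.symm,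
        by group⟩
    | one => simp
    | mul x x' _ _ ihx ihx' => simpa [mul_assoc] using mul_mem ihx ihx'
    | inv x _ ih => simpa [mul_assoc] using inv_mem ih
  have : Fact (Nat.Prime 2) := ⟨Nat.prime_two⟩
  have hN2 : IsPGroup 2 N := by
    have htop : pCore 2 N = ⊤ := by
      refine top_unique fun g _ => ?_
      have : (g : G) ∈ (pCore 2 N).map N.subtype := by
        refine (Subgroup.closure_le _).2 ?_ g.2
        rintro z ⟨p, hp, q, hq, hpq, rfl⟩
        have hz : p * q ∈ P q := Subgroup.subset_closure ⟨p, hp, q, hq, hpq, Commute.refl q, rfl⟩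
        have hn : ((P q).subgroupOf N).Normal := ⟨fun z hz g => hnorm q hq g g.2 z hz⟩
        have hp2 : IsPGroup 2 ((P q).subgroupOf N) := fun z => ⟨1, Subtype.ext (Subtype.ext (by
          rw [pow_one, pow_two]; exact hP2 q hq _ z.2))⟩
        exact ⟨⟨p * q, hPN q hq hz⟩, CfsgLib.PCore.le_pCore hn hp2 hz, rfl⟩
      obtain ⟨g', hg', e⟩ := this
      rwa [← Subtype.ext e]
    have h := CfsgLib.PCore.pCore_isPGroup (G := N) (p := 2)
    rw [htop] at h
    exact h.of_equiv Subgroup.topEquiv
  have hmem : a * b ∈ pCore 2 G :=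
    CfsgLib.PCore.le_pCore hNn hN2 (Subgroup.subset_closure ⟨a, ha, b, hb, hab, rfl⟩)
  rw [← QuotientGroup.eq_one_iff, QuotientGroup.mk_mul] at hmem
  rw [Same, mul_eq_one_iff_eq_inv.mp hmem, ← QuotientGroup.mk_inv, ThreeTrans.inv_eq hs hb]

/-- An element of a section fixed by two non-commuting members and their neighbours: either it is central
or the class has width one modulo the 2-core. -/
theorem same_of_fixed {m u v : G} (hm : m ∈ M) (hm1 : m ≠ 1) (hu : u ∈ D) (hv : v ∈ D)
    (huv : ¬ Commute u v) (hmu : Commute m u) (hmv : Commute m v)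
    (hmC : ∀ c ∈ D, Commute c u → Commute m c) {a b : G} (ha : a ∈ D) (hb : b ∈ D) (hab : Commute a b) :
    Same a b := by
  have hs := H.set
  obtain ⟨x, hx, hmx⟩ : ∃ x ∈ D, ¬ Commute m x := by
    by_contra h
    push Not at h
    have := mem_center_of_commute H.cls.2.2 h
    rw [H.center, Subgroup.mem_bot] at this
    exact hm1 this
  have hconst : ∀ y ∈ D, ¬ Commute u y → ∀ c ∈ D, Commute c u → (Commute c y ↔ Commute c v) :=
    fun y hy huy c hc hcu => H.common_const S hm hu hv huv hmu hmv hmC hx hmx hy huy hc hcu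
  set C₁ : Set G := {c | c ∈ D ∧ Commute c u ∧ Commute c v} with hC₁
  have hstep : ∀ s ∈ D, ∀ c ∈ C₁, s * c * s⁻¹ ∈ C₁ := by
    rintro s hs' c ⟨hc, hcu, hcv⟩
    by_cases hsc : Commute s c
    · rw [hsc.eq, mul_inv_cancel_right]; exact ⟨hc, hcu, hcv⟩
    rw [ThreeTrans.inv_eq hs hs']
    have hsu : Commute s u := by
      by_contra k
      exact hsc ((hconst s hs' (fun k' => k k'.symm) c hc hcu).mpr hcv).symm
    have h1 : Commute (s * c * s) u := (hsu.mul_left hcu).mul_left hsu
    refine ⟨conj_mem_left H.closed hs' hc, h1, ?_⟩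
    by_cases hsv : Commute s v
    · exact (hsv.mul_left hcv).mul_left hsv
    have huy : ¬ Commute u (s * v * s) := fun k => huv (by
      have := (Commute.conj_iff s).mpr k
      rw [ThreeTrans.inv_eq hs hs', hsu.eq, mul_assoc u, mul_self hs hs', mul_one] at this
      simpa [mul_assoc, mul_self hs hs', mul_self_mul hs hs'] using this)
    have := (Commute.conj_iff s).mpr ((hconst _ (conj_mem_left H.closed hs' hv) huy c hc hcu).mpr hcv)
    rw [ThreeTrans.inv_eq hs hs'] at this
    simpa [mul_assoc, mul_self hs hs', mul_self_mul hs hs'] using this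
  have hall : ∀ g : G, ∀ c ∈ C₁, g * c * g⁻¹ ∈ C₁ := by
    intro g
    have hg : g ∈ Submonoid.closure D := by
      rw [← Subgroup.closure_toSubmonoid_of_finite, H.cls.2.2]; exact Subgroup.mem_top g
    induction hg using Submonoid.closure_induction with
    | mem s hs' => exact hstep s hs'
    | one => simp
    | mul p q _ _ ihp ihq =>
      intro c hc
      rw [show p * q * c * (p * q)⁻¹ = p * (q * c * q⁻¹) * p⁻¹ by group]
      exact ihp _ (ihq c hc)
  have hemp : ∀ c ∈ D, Commute c u → ¬ Commute c v := by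
    intro c hc hcu hcv
    obtain ⟨g, hg⟩ := class_conj H.cls hc hv
    have := hall g c ⟨hc, hcu, hcv⟩
    rw [hg] at this
    exact huv this.2.1.symm
  refine H.same_of_transitive (fun a ha b hb y hy hab hay hby => ?_) ha hb hab
  obtain ⟨g, hg⟩ := class_conj H.cls ha hu
  have h1 : Commute (g * b * g⁻¹) u := hg ▸ (Commute.conj_iff g).mpr hab.symm
  have h2 : ¬ Commute u (g * y * g⁻¹) := fun k => hay ((Commute.conj_iff g).mp (by rwa [hg]))
  exact hemp _ (H.closed.conj g b hb) h1
    ((hconst _ (H.closed.conj g y hy) h2 _ (H.closed.conj g b hb) h1).mp ((Commute.conj_iff g).mpr hby))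

end Hyp

end CfsgLib.TwoRadGen
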