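import Mathlib
import Cfsg.Agent.Lib.TwoRadGen.Width
import Cfsg.Agent.Lib.TwoRadical.Frattini

/-!
# The subgroups attached to non-commuting members meet trivially
-/

set_option autoImplicit false
set_option linter.unusedSectionVars false

namespace CfsgLib.TwoRadGen

open Cfsg CfsgLib.ThreeTrans CfsgLib.TwoRadical

universe u

variable {G : Type u} [Group G] [Finite G] {D : Set G}

set_option synthInstance.maxSize 2000 in
set_option synthInstance.maxHeartbeats 200000 in
theorem three_involutions : ∀ a b c : Equiv.Perm (Fin 3),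
    a * a = 1 → a ≠ 1 → b * b = 1 → b ≠ 1 → c * c = 1 → c ≠ 1 → a ≠ b → c = a ∨ c = b ∨ c = a * b * a := by
  decide +kernel

/-- The subgroup generated by all products of members with the same image. -/
def R (D : Set G) : Subgroup G := Subgroup.closure {x | ∃ d ∈ D, x ∈ A D d}

/-- The width one exception. -/
def ExcThree (G : Type u) [Group G] : Prop := Nonempty (T54 ≃* G ⧸ pCore 2 G)

/-- Subgroups of non-commuting members meet trivially. -/
def Meets (D : Set G) : Prop :=
  ∀ u ∈ D, ∀ v ∈ D, ¬ Commute u v → ∀ z ∈ A D u, z ∈ A D v → z = 1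

namespace Hyp

variable (H : Hyp D)
include H

theorem A_le_R {d : G} (hd : d ∈ D) : A D d ≤ R D := fun _ hx => Subgroup.subset_closure ⟨d, hd, hx⟩

theorem R_le : R D ≤ pCore 2 G := (Subgroup.closure_le _).2 fun _ ⟨d, _, hx⟩ => H.A_le d hx

theorem R_normal : (R D).Normal := ⟨fun x hx g => by
  induction hx using Subgroup.closure_induction with
  | mem x hx =>
    obtain ⟨d, hd, hx⟩ := hx
    exact H.A_le_R (H.closed.conj g d hd) (H.conj_A g hx)
  | one => simp
  | mul a b _ _ iha ihb => simpa [mul_assoc] using mul_mem iha ihb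
  | inv a _ ih => simpa [mul_assoc] using inv_mem ih⟩

theorem central_section : ∃ M : Subgroup G, Sect M ∧
    ∀ m, m ∈ R D → m * m = 1 → (∀ x ∈ D, ∀ a ∈ A D x, Commute m a) → m ∈ M := by
  have comm : ∀ m, (∀ x ∈ D, ∀ a ∈ A D x, Commute m a) → ∀ r ∈ R D, Commute m r := by
    intro m hm r hr
    induction hr using Subgroup.closure_induction with
    | mem r hr => obtain ⟨x, hx, ha⟩ := hr; exact hm x hx r ha
    | one => exact Commute.one_right m
    | mul a b _ _ iha ihb => exact iha.mul_right ihb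
    | inv a _ ih => exact ih.inv_right
  let M : Subgroup G :=
    { carrier := {m | m ∈ R D ∧ m * m = 1 ∧ ∀ x ∈ D, ∀ a ∈ A D x, Commute m a}
      one_mem' := ⟨one_mem _, one_mul 1, fun _ _ a _ => Commute.one_left a⟩
      mul_mem' := fun {a b} ha hb => ⟨mul_mem ha.1 hb.1, by
        rw [(comm b hb.2.2 a ha.1).mul_mul_mul_comm, ha.2.1, hb.2.1, one_mul],
        fun x hx c hc => (ha.2.2 x hx c hc).mul_left (hb.2.2 x hx c hc)⟩
      inv_mem' := fun {a} ha => by rw [inv_eq_of_mul_eq_one_right ha.2.1]; exact ha }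
  refine ⟨M, ⟨⟨fun m hm g => ⟨H.R_normal.conj_mem m hm.1 g, ?_, fun x hx a ha => ?_⟩⟩,
    fun m hm => H.R_le hm.1, fun m hm => hm.2.1⟩, fun m h1 h2 h3 => ⟨h1, h2, h3⟩⟩
  · rw [show g * m * g⁻¹ * (g * m * g⁻¹) = g * (m * m) * g⁻¹ by group, hm.2.1, mul_one, mul_inv_cancel]
  · have h := (Commute.conj_iff g).mpr (hm.2.2 _ (H.closed.conj g⁻¹ x hx) _ (H.conj_A g⁻¹ ha))
    simpa [mul_assoc] using h

/-- The subgroups of non-commuting members meet trivially, unless the quotient is the group of order 54. -/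
theorem meets_or_exc : Meets D ∨ ExcThree G := by
  rw [or_iff_not_imp_right]
  intro hexc u₀ hu₀ v₀ hv₀ hn₀ z₀ hz₀u hz₀v
  by_contra hz₀
  let T : G → Set G := fun z => {w | w ∈ D ∧ z ∈ A D w}
  let S : Set G := {z | z ≠ 1 ∧ ∃ u ∈ D, ∃ v ∈ D, ¬ Commute u v ∧ z ∈ A D u ∧ z ∈ A D v}
  obtain ⟨z, ⟨hz1, u, hu, v, hv, huv, hzu, hzv⟩, hmax⟩ :=
    Set.exists_max_image S (fun z => (T z).ncard) (Set.toFinite _)
      ⟨z₀, hz₀, u₀, hu₀, v₀, hv₀, hn₀, hz₀u, hz₀v⟩
  have hzQ : z ∈ pCore 2 G := H.A_le u hzu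
  have hzR : ∀ x ∈ D, ∀ a ∈ A D x, Commute z a := by
    intro x hx a ha
    by_contra hza
    set c := z * a * z⁻¹ * a⁻¹ with hc
    have hcT : ∀ w ∈ T z, c ∈ A D w := fun w hw => by
      rw [hc, show z * a * z⁻¹ * a⁻¹ = z * (a * z⁻¹ * a⁻¹) by group]
      exact mul_mem hw.2 (H.conj_A_of_mem (H.A_le x ha) (inv_mem hw.2))
    have hcx : c ∈ A D x := mul_mem (H.conj_A_of_mem hzQ ha) (inv_mem ha)
    have hc1 : c ≠ 1 := fun h => hza (by
      rw [hc, mul_inv_eq_one, mul_inv_eq_iff_eq_mul] at h; exact h)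
    have hS : c ∈ S := ⟨hc1, u, hu, v, hv, huv, hcT u ⟨hu, hzu⟩, hcT v ⟨hv, hzv⟩⟩
    have hxT : x ∉ T z := fun h => hza (H.A_comm hx hx (Commute.refl x) h.2 ha)
    have hlt : (T z).ncard < (T c).ncard := Set.ncard_lt_ncard
      ⟨fun w hw => ⟨hw.1, hcT w hw⟩, fun h => hxT (h ⟨hx, hcx⟩)⟩ (Set.toFinite _)
    exact absurd (hmax c hS) (by omega)
  obtain ⟨M, hM, hmem⟩ := H.central_section
  have hzM : z ∈ M := hmem z (H.A_le_R hu hzu) (H.A_sq hu hzu) hzR
  have hmu : Commute z u := (H.A_comm_member hu hu (Commute.refl u) hzu).symm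
  have hmv : Commute z v := (H.A_comm_member hv hv (Commute.refl v) hzv).symm
  have hmC : ∀ c ∈ D, Commute c u → Commute z c := fun c hc h => (H.A_comm_member hc hu h hzu).symm
  have far : ∀ x ∈ imgClass D, ∀ y ∈ imgClass D, Commute x y → x = y := by
    rintro _ ⟨a, ha, rfl⟩ _ ⟨b, hb, rfl⟩ hab
    exact H.same_of_fixed hM hzM hz1 hu hv huv hmu hmv hmC ha hb (commute_of_mk H.cls ha hb hab)
  rcases quotient_width_one H.cls H.two H.cent far with ⟨⟨e⟩⟩ | h
  · -- three images only
    have hs := H.set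
    set w := u * v * u with hw
    have hwD : w ∈ D := conj_mem_left H.closed hu hv
    have hzw : z ∈ A D w := by
      have h := H.conj_A u hzv
      rwa [ThreeTrans.inv_eq hs hu, ← hmu.eq, mul_assoc z, mul_self hs hu, mul_one, ← hw] at h
    have hall : ∀ d ∈ D, Same d u ∨ Same d v ∨ Same d w := by
      intro d hd
      have hcls := class_imgClass H.cls H.two
      have key := three_involutions
      have sq : ∀ x ∈ D, e (QuotientGroup.mk x) * e (QuotientGroup.mk x) = 1 ∧ e (QuotientGroup.mk x) ≠ 1 :=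
        fun x hx => ⟨by rw [← map_mul, mul_self hcls.1 ⟨x, hx, rfl⟩, map_one],
          fun h => ne_one hcls.1 ⟨x, hx, rfl⟩ (e.injective (h.trans (map_one e).symm))⟩
      rcases key _ _ _ (sq u hu).1 (sq u hu).2 (sq v hv).1 (sq v hv).2 (sq d hd).1 (sq d hd).2
        (fun h => huv (H.commute_same hu hv (e.injective h) (Commute.refl u))) with h | h | h
      · exact Or.inl (e.injective h)
      · exact Or.inr (Or.inl (e.injective h))
      · refine Or.inr (Or.inr (e.injective ?_))
        rw [h, ← map_mul, ← map_mul, ← QuotientGroup.mk_mul, ← QuotientGroup.mk_mul]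
    refine hz1 ?_
    have := mem_center_of_commute H.cls.2.2 (x := z) (fun d hd => by
      rcases hall d hd with h | h | h
      · exact (H.A_comm_member hd hu (H.commute_same hu hd h.symm (Commute.refl u)).symm hzu).symm
      · exact (H.A_comm_member hd hv (H.commute_same hv hd h.symm (Commute.refl v)).symm hzv).symm
      · exact (H.A_comm_member hd hwD (H.commute_same hwD hd h.symm (Commute.refl w)).symm hzw).symm)
    rwa [H.center, Subgroup.mem_bot] at this
  · exact hexc h

end Hyp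

end CfsgLib.TwoRadGen
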