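import Mathlib
import Cfsg.Agent.Lib.TwoRadGen.Meet
import Cfsg.Agent.Lib.TwoRadical.Module

/-!
# The module spanned by the products of members with the same image
-/

set_option autoImplicit false
set_option linter.unusedSectionVars false

namespace CfsgLib.TwoRadGen

open Cfsg CfsgLib.ThreeTrans CfsgLib.TwoRadical

universe u

variable {G : Type u} [Group G] [Finite G] {D : Set G}

/-- A 2-module which is a copy of the subgroup `R D` with the action by conjugation. -/
structure Space (D : Set G) (V : Type u) [AddCommGroup V] [DistribMulAction G V] where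
  hyp : Hyp D
  meets : Meets D
  mod : IsMod V D
  fin : Finite V
  ι : V → G
  ι_inj : Function.Injective ι
  ι_add : ∀ v w, ι (v + w) = ι v * ι w
  ι_smul : ∀ (g : G) (v : V), ι (g • v) = g * ι v * g⁻¹
  ι_range : ∀ x, x ∈ R D ↔ ∃ v, ι v = x
  mem_A : ∀ d ∈ D, ∀ x, x ∈ A D d ↔ ∃ v ∈ img V d, ι v = x
  span : ∀ S : AddSubgroup V, (∀ d ∈ D, img V d ≤ S) → S = ⊤

namespace Hyp

variable (H : Hyp D)
include H

theorem R_comm (hM : Meets D) {x y : G} (hx : x ∈ R D) (hy : y ∈ R D) : Commute x y := by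
  have key : ∀ a ∈ D, ∀ b ∈ D, ∀ p ∈ A D a, ∀ q ∈ A D b, Commute p q := by
    intro a ha b hb p hp q hq
    by_cases hab : Commute a b
    · exact H.A_comm ha hb hab hp hq
    show p * q = q * p
    rw [← mul_inv_eq_iff_eq_mul, ← mul_inv_eq_one]
    refine hM a ha b hb hab _ ?_ (mul_mem (H.conj_A_of_mem (H.A_le a hp) hq) (inv_mem hq))
    rw [show p * q * p⁻¹ * q⁻¹ = p * (q * p⁻¹ * q⁻¹) by group]
    exact mul_mem hp (H.conj_A_of_mem (H.A_le b hq) (inv_mem hp))
  have k2 : ∀ a ∈ D, ∀ p ∈ A D a, Commute p y := by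
    intro a ha p hp
    induction hy using Subgroup.closure_induction with
    | mem q hq => obtain ⟨b, hb, hq⟩ := hq; exact key a ha b hb p hp q hq
    | one => exact Commute.one_right p
    | mul a b _ _ iha ihb => exact iha.mul_right ihb
    | inv a _ ih => exact ih.inv_right
  induction hx using Subgroup.closure_induction with
  | mem q hq => obtain ⟨b, hb, hq⟩ := hq; exact k2 b hb q hq
  | one => exact Commute.one_left y
  | mul a b _ _ iha ihb => exact iha.mul_left ihb
  | inv a _ ih => exact ih.inv_left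

theorem R_sq (hM : Meets D) {x : G} (hx : x ∈ R D) : x * x = 1 := by
  induction hx using Subgroup.closure_induction with
  | mem q hq => obtain ⟨b, hb, hq⟩ := hq; exact H.A_sq hb hq
  | one => exact one_mul 1
  | mul a b ha hb iha ihb => rw [(H.R_comm hM hb ha).mul_mul_mul_comm, iha, ihb, one_mul]
  | inv a _ ih => rw [← _root_.mul_inv_rev, ih, inv_one]

theorem exists_not_commute {d : G} (hd : d ∈ D) : ∃ e ∈ D, ¬ Commute d e := by
  by_contra h
  push Not at h
  have := mem_center_of_commute H.cls.2.2 h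
  rw [H.center, Subgroup.mem_bot] at this
  exact ne_one H.set hd this

theorem exists_space (hM : Meets D) :
    ∃ (V : Type u) (_ : AddCommGroup V) (_ : DistribMulAction G V), Nonempty (Space D V) := by
  have hn := H.R_normal
  letI : CommGroup (R D) :=
    { (inferInstance : Group (R D)) with mul_comm := fun a b => Subtype.ext (H.R_comm hM a.2 b.2).eq }
  let act : G →* MulAut (R D) := MulAut.conjNormal
  letI : DistribMulAction G (Additive (R D)) :=
    { smul := fun h v => Additive.ofMul (act h v.toMul)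
      one_smul := fun v => by
        show Additive.ofMul (act 1 v.toMul) = v
        rw [map_one]; rfl
      mul_smul := fun g h v => by
        show Additive.ofMul (act (g * h) v.toMul) = Additive.ofMul (act g (act h v.toMul))
        rw [map_mul]; rfl
      smul_zero := fun h => by
        show Additive.ofMul (act h 1) = 0
        rw [map_one]; rfl
      smul_add := fun h v w => by
        show Additive.ofMul (act h (v.toMul * w.toMul)) = _
        rw [map_mul]; rfl }
  let ι : Additive (R D) → G := fun v => ((v.toMul : R D) : G)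
  have ι_inj : Function.Injective ι := fun v w h => Additive.toMul.injective (Subtype.ext h)
  have ι_add : ∀ v w, ι (v + w) = ι v * ι w := fun v w => rfl
  have ι_smul : ∀ (g : G) v, ι (g • v) = g * ι v * g⁻¹ := fun g v => by
    show ((act g v.toMul : R D) : G) = _
    exact MulAut.conjNormal_apply g _
  have hfix : ∀ {g : G} {v : Additive (R D)}, g • v = v ↔ Commute g (ι v) := fun {g v} => by
    rw [← ι_inj.eq_iff, ι_smul, mul_inv_eq_iff_eq_mul]; rfl
  have hs := H.set
  have himgA : ∀ d ∈ D, ∀ v : Additive (R D), v ∈ img (Additive (R D)) d → ι v ∈ A D d := by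
    intro d hd v hv
    obtain ⟨w, rfl⟩ := mem_img.mp hv
    rw [ι_add, ι_smul, ThreeTrans.inv_eq hs hd]
    have hwR : ι w ∈ R D := (Additive.toMul w).2
    have h := H.commutator_mem_A (H.R_le hwR) hd
    rwa [inv_eq_of_mul_eq_one_right (H.R_sq hM hwR), mul_assoc (ι w * d) (ι w) d, mul_assoc (ι w) d,
      ← mul_assoc d (ι w) d] at h
  have mod : IsMod (Additive (R D)) D := by
    refine ⟨H.closed, fun v => ι_inj (by
        rw [ι_add, H.R_sq hM (Additive.toMul v).2]; rfl), ?_, ?_⟩
    · intro d hd e he hne v hv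
      rw [hfix] at hv ⊢
      exact H.commute_of_commute_prod (H.R_le (Additive.toMul v).2) hd he hne hv
    · intro d hd e he hc v
      rw [hfix]
      exact H.A_comm_member he hd hc.symm (himgA d hd _ (mem_img.mpr ⟨v, rfl⟩))
  have hAimg : ∀ d ∈ D, ∀ x ∈ A D d, ∃ v ∈ img (Additive (R D)) d, ι v = x := by
    intro d hd x hx
    let v : Additive (R D) := Additive.ofMul ⟨x, H.A_le_R hd hx⟩
    obtain ⟨e, he, hde⟩ := H.exists_not_commute hd
    have hdv : d • v = v := hfix.mpr (H.A_comm_member hd hd (Commute.refl d) hx)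
    have h1 := mod.add_nrm_mem hd he hde hdv
    set n := nrm (d * e) v with hn'
    have hn1 : ι n ∈ A D d := by
      have h2 : v + (v + n) = n := by rw [← add_assoc, mod.add_self, zero_add]
      rw [← h2, ι_add]
      exact mul_mem hx (himgA d hd _ h1)
    have hen : e • n = n := (mod.fix_both hd he hde (smul_nrm (mod.cube hd he hde) v)).2
    have hn2 : ι n ∈ A D (e * d * e⁻¹) := by
      have h := H.conj_A e hn1
      rwa [← ι_smul, hen] at h
    have hnc : ¬ Commute d (e * d * e⁻¹) := by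
      rw [ThreeTrans.inv_eq hs he, braid hs he hd fun k => hde k.symm]
      intro k
      have h := (Commute.conj_iff d).mpr k
      rw [ThreeTrans.inv_eq hs hd] at h
      simp [mul_assoc, mul_self hs hd, mul_self_mul hs hd] at h
      exact hde h
    have hn0 : n = 0 := ι_inj (hM d hd _ (H.closed.conj e d hd) hnc (ι n) hn1 hn2)
    rw [hn0, add_zero] at h1
    exact ⟨v, h1, rfl⟩
  refine ⟨Additive (R D), inferInstance, inferInstance,
    ⟨⟨H, hM, mod, inferInstanceAs (Finite (R D)), ι, ι_inj, ι_add, ι_smul, fun x => ?_, fun d hd x => ?_, ?_⟩⟩⟩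
  · exact ⟨fun hx => ⟨Additive.ofMul ⟨x, hx⟩, rfl⟩, fun ⟨v, hv⟩ => hv ▸ (Additive.toMul v).2⟩
  · exact ⟨hAimg d hd x, fun ⟨v, hv, e⟩ => e ▸ himgA d hd v hv⟩
  · intro S hS
    refine top_unique fun v _ => ?_
    have key : ∀ x ∈ R D, ∃ w ∈ S, ι w = x := by
      intro x hx
      induction hx using Subgroup.closure_induction with
      | mem x hx =>
        obtain ⟨d, hd, hx⟩ := hx
        obtain ⟨w, hw, rfl⟩ := hAimg d hd x hx
        exact ⟨w, hS d hd hw, rfl⟩
      | one => exact ⟨0, zero_mem S, rfl⟩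
      | mul a b _ _ iha ihb =>
        obtain ⟨p, hp, rfl⟩ := iha
        obtain ⟨q, hq, rfl⟩ := ihb
        exact ⟨p + q, add_mem hp hq, ι_add p q⟩
      | inv a _ ih =>
        obtain ⟨p, hp, rfl⟩ := ih
        exact ⟨-p, neg_mem hp, rfl⟩
    obtain ⟨w, hw, e⟩ := key (ι v) (Additive.toMul v).2
    exact ι_inj e ▸ hw

end Hyp

namespace Space

variable {V : Type u} [AddCommGroup V] [DistribMulAction G V] (W : Space D V)
include W

theorem fix_iff {g : G} {v : V} : g • v = v ↔ Commute g (W.ι v) := by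
  rw [← W.ι_inj.eq_iff, W.ι_smul, mul_inv_eq_iff_eq_mul]; rfl

theorem act_R {r : G} (hr : r ∈ R D) (v : V) : r • v = v :=
  W.fix_iff.mpr (W.hyp.R_comm W.meets hr ((W.ι_range _).mpr ⟨v, rfl⟩))

theorem smul_same {d e : G} (hd : d ∈ D) (he : e ∈ D) (h : Same d e) (v : V) : d • v = e • v := by
  have h1 : d * e ∈ R D := W.hyp.A_le_R he (W.hyp.mul_mem_A hd he h rfl)
  rw [← W.act_R h1 (e • v), ← mul_smul, mul_assoc, mul_self W.hyp.set he, mul_one]

theorem eq_zero_of_fixed {v : V} (h : ∀ d ∈ D, d • v = v) : v = 0 := by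
  have hc := mem_center_of_commute W.hyp.cls.2.2 (x := W.ι v) (fun d hd => (W.fix_iff.mp (h d hd)).symm)
  rw [W.hyp.center, Subgroup.mem_bot] at hc
  refine W.ι_inj (hc.trans ?_)
  have h0 := W.ι_add 0 0
  rw [add_zero] at h0
  exact (left_eq_mul.mp h0).symm

theorem ι_zero : W.ι 0 = 1 := by
  have h0 := W.ι_add 0 0
  rw [add_zero] at h0
  exact left_eq_mul.mp h0

/-- The action is faithful modulo the 2-core. -/
theorem mem_core_of_trivial {g : G} (hg : ∀ v : V, g • v = v) : g ∈ pCore 2 G := by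
  have H := W.hyp
  have : Fact (Nat.Prime 2) := ⟨Nat.prime_two⟩
  let K : Subgroup G :=
    { carrier := {g | ∀ v : V, g • v = v}
      one_mem' := one_smul G
      mul_mem' := fun {a b} ha hb v => by rw [mul_smul, hb v, ha v]
      inv_mem' := fun {a} ha v => by rw [inv_smul_eq_iff, ha v] }
  have hKn : K.Normal := ⟨fun a ha b v => by rw [mul_smul, mul_smul, ha, smul_inv_smul]⟩
  refine CfsgLib.PCore.le_pCore hKn ?_ (show g ∈ K from hg)
  rintro ⟨k, hk⟩
  obtain ⟨j, m, hm, hjm⟩ := Nat.exists_eq_two_pow_mul_odd (orderOf_pos k).ne'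
  refine ⟨j, Subtype.ext ?_⟩
  show k ^ 2 ^ j = 1
  set a := k ^ 2 ^ j with ha
  have ham : a ^ m = 1 := by rw [ha, ← pow_mul, ← hjm, pow_orderOf_eq_one]
  have haK : a ∈ K := pow_mem hk _
  have hfix : ∀ r ∈ R D, Commute a r := fun r hr => by
    obtain ⟨v, rfl⟩ := (W.ι_range r).mp hr
    exact W.fix_iff.mp (haK v)
  have hR := H.R_normal
  have hq : ∀ q ∈ pCore 2 G, ∀ x : G, x * q * x⁻¹ * q⁻¹ ∈ R D := by
    intro q hq x
    have hx : x ∈ Subgroup.closure D := by rw [H.cls.2.2]; exact Subgroup.mem_top x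
    induction hx using Subgroup.closure_induction generalizing q with
    | mem d hd =>
      have h := inv_mem (H.A_le_R hd (H.commutator_mem_A hq hd))
      simpa [mul_assoc, ThreeTrans.inv_eq H.set hd] using h
    | one => simp
    | mul x y _ _ ihx ihy =>
      have e : x * y * q * (x * y)⁻¹ * q⁻¹ = x * (y * q * y⁻¹ * q⁻¹) * x⁻¹ * (x * q * x⁻¹ * q⁻¹) := by group
      rw [e]
      exact mul_mem (hR.conj_mem _ (ihy q hq) x) (ihx q hq)
    | inv x _ ih =>
      have h := ih (x⁻¹ * q * x) (by simpa using (pCore_normal 2 G).conj_mem q hq x⁻¹)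
      have e : x⁻¹ * q * x⁻¹⁻¹ * q⁻¹ = (x * (x⁻¹ * q * x) * x⁻¹ * (x⁻¹ * q * x)⁻¹)⁻¹ := by group
      rw [e]
      exact inv_mem h
  have hcen : a ∈ Subgroup.centralizer (pCore 2 G : Set G) := Subgroup.mem_centralizer_iff.2 fun q hq' => by
    set r := a * q * a⁻¹ * q⁻¹ with hr
    have hrR : r ∈ R D := hq q hq' a
    have hpow : ∀ n : ℕ, a ^ n * q * (a ^ n)⁻¹ = r ^ n * q := by
      intro n
      induction n with
      | zero => simp
      | succ n ih =>
        rw [pow_succ' a, show a * a ^ n * q * (a * a ^ n)⁻¹ = a * (a ^ n * q * (a ^ n)⁻¹) * a⁻¹ by group, ih,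
          show a * (r ^ n * q) * a⁻¹ = a * r ^ n * a⁻¹ * (a * q * a⁻¹) by group,
          ((hfix r hrR).pow_right n).eq, mul_inv_cancel_right,
          show a * q * a⁻¹ = r * q by simp only [hr]; group, pow_succ]
        simp only [hr]; group
    have h2 := hpow m
    rw [ham] at h2
    simp only [one_mul, inv_one, mul_one] at h2
    have hr1 : r ^ m = 1 := mul_eq_right.mp h2.symm
    obtain ⟨c, hc⟩ := hm
    rw [hc, pow_succ, pow_mul, pow_two, H.R_sq W.meets hrR, one_pow, one_mul] at hr1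
    rw [hr, mul_inv_eq_one, mul_inv_eq_iff_eq_mul] at hr1
    exact hr1.symm
  obtain ⟨n, hn⟩ := CfsgLib.PCore.pCore_isPGroup (G := G) (p := 2) ⟨a, H.cent hcen⟩
  have hn' : a ^ 2 ^ n = 1 := congrArg Subtype.val hn
  have hco : Nat.Coprime (2 ^ n) m := (Nat.coprime_two_left.mpr hm).pow_left n
  rw [← pow_one a, ← hco]
  exact pow_gcd_eq_one.mpr ⟨hn', ham⟩

theorem exists_ne {d : G} (hd : d ∈ D) : ∃ v ∈ img V d, v ≠ 0 := by
  by_contra h
  push Not at h
  refine not_mem_pCore W.hyp.cls W.hyp.two d hd (W.mem_core_of_trivial fun v => ?_)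
  have := h (v + d • v) (mem_img.mpr ⟨v, rfl⟩)
  exact (W.mod.eq_of_add this).symm

theorem inter_zero {d e : G} (hd : d ∈ D) (he : e ∈ D) (hde : ¬ Commute d e) {v : V} (h1 : v ∈ img V d)
    (h2 : v ∈ img V e) : v = 0 :=
  W.ι_inj ((W.meets d hd e he hde _ ((W.mem_A d hd _).mpr ⟨v, h1, rfl⟩)
    ((W.mem_A e he _).mpr ⟨v, h2, rfl⟩)).trans W.ι_zero.symm)

/-- If the 2-core centralises the module then it is elementary abelian. -/
theorem elementary (htriv : ∀ q ∈ pCore 2 G, ∀ v : V, q • v = v) : IsElementaryAbelian 2 (pCore 2 G) := by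
  have H := W.hyp
  have hs := H.set
  have key : ∀ q ∈ pCore 2 G, ∀ d ∈ D, ∃ a ∈ A D d, q * d * q⁻¹ = a * d ∧ ∀ p ∈ pCore 2 G, p * a * p⁻¹ = a := by
    intro q hq d hd
    refine ⟨q * d * q⁻¹ * d, H.commutator_mem_A hq hd, by rw [mul_assoc (q * d * q⁻¹) d d, mul_self hs hd, mul_one],
      fun p hp => ?_⟩
    obtain ⟨v, -, e⟩ := (W.mem_A d hd _).mp (H.commutator_mem_A hq hd)
    rw [← e, ← W.ι_smul, htriv p hp]
  refine ⟨⟨⟨fun ⟨p, hp⟩ ⟨q, hq⟩ => Subtype.ext ?_⟩⟩, fun q hq => ?_⟩
  · show p * q = q * p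
    have hc := mem_center_of_commute H.cls.2.2 (x := (q * p)⁻¹ * (p * q)) (fun d hd => by
      obtain ⟨a, ha, ea, hfa⟩ := key q hq d hd
      obtain ⟨b, hb, eb, hfb⟩ := key p hp d hd
      have e1 : p * q * d * (p * q)⁻¹ = a * b * d := by
        rw [show p * q * d * (p * q)⁻¹ = p * (q * d * q⁻¹) * p⁻¹ by group, ea,
          show p * (a * d) * p⁻¹ = p * a * p⁻¹ * (p * d * p⁻¹) by group, hfa p hp, eb, mul_assoc]
      have e2 : q * p * d * (q * p)⁻¹ = a * b * d := by
        rw [show q * p * d * (q * p)⁻¹ = q * (p * d * p⁻¹) * q⁻¹ by group, eb,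
          show q * (b * d) * q⁻¹ = q * b * q⁻¹ * (q * d * q⁻¹) by group, hfb q hq, ea, ← mul_assoc,
          (H.A_comm hd hd (Commute.refl d) hb ha).eq]
      refine mul_inv_eq_iff_eq_mul.mp ?_
      rw [show (q * p)⁻¹ * (p * q) * d * ((q * p)⁻¹ * (p * q))⁻¹ =
        (q * p)⁻¹ * (p * q * d * (p * q)⁻¹) * (q * p) by group, e1, ← e2]
      group)
    rw [H.center, Subgroup.mem_bot, inv_mul_eq_one] at hc
    exact hc.symm
  · rw [pow_two]
    have hc := mem_center_of_commute H.cls.2.2 (x := q * q) (fun d hd => by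
      obtain ⟨a, ha, ea, hfa⟩ := key q hq d hd
      refine mul_inv_eq_iff_eq_mul.mp ?_
      rw [show q * q * d * (q * q)⁻¹ = q * (q * d * q⁻¹) * q⁻¹ by group, ea,
        show q * (a * d) * q⁻¹ = q * a * q⁻¹ * (q * d * q⁻¹) by group, hfa q hq, ea, ← mul_assoc,
        H.A_sq hd ha, one_mul])
    rwa [H.center, Subgroup.mem_bot] at hc

end Space

end CfsgLib.TwoRadGen
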