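import Mathlib
import Cfsg.Agent.Lib.TwoRadGen.Space

/-!
# The maps `1 + d` and their words
-/

set_option autoImplicit false
set_option linter.unusedSectionVars false

namespace CfsgLib.TwoRadGen

open Cfsg CfsgLib.ThreeTrans CfsgLib.TwoRadical

universe u

/-- The map `v ↦ v + d • v`. -/
def eps {G : Type*} [Monoid G] (V : Type*) [AddCommGroup V] [DistribMulAction G V] (d : G) : V →+ V :=
  AddMonoidHom.id V + DistribSMul.toAddMonoidHom V d

theorem eps_apply {G : Type*} [Monoid G] {V : Type*} [AddCommGroup V] [DistribMulAction G V] (d : G) (v : V) :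
    eps V d v = v + d • v := rfl

theorem eps_mem {G : Type*} [Group G] {V : Type*} [AddCommGroup V] [DistribMulAction G V] (d : G) (v : V) :
    eps V d v ∈ img V d := mem_img.mpr ⟨v, rfl⟩

variable {G : Type u} [Group G] [Finite G] {D : Set G}

namespace Space

variable {V : Type u} [AddCommGroup V] [DistribMulAction G V] (W : Space D V)
include W

local notation "ε" => eps V

theorem smul_eq (d : G) (v : V) : d • v = v + ε d v := by
  rw [eps_apply, ← add_assoc, W.mod.add_self, zero_add]

theorem eps_img_self {d : G} (hd : d ∈ D) {x : V} (hx : x ∈ img V d) : ε d x = 0 := by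
  rw [eps_apply, W.mod.smul_img hd hx, W.mod.add_self]

theorem eps_perp {d e : G} (hd : d ∈ D) (he : e ∈ D) (h : Commute d e) {x : V} (hx : x ∈ img V d) :
    ε e x = 0 := by
  rw [eps_apply, W.mod.img_fix hd he h hx, W.mod.add_self]

theorem eps_braid {d e : G} (hd : d ∈ D) (he : e ∈ D) (h : ¬ Commute d e) {x : V} (hx : x ∈ img V d) :
    ε d (ε e x) = x := by
  have hn := W.mod.nrm_img hd he h hx
  have hb : d * e * d = e * d * e := braid W.hyp.set hd he h
  have h2 : (d * e) • ((d * e) • x) = e • x := by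
    rw [← mul_smul, show d * e * (d * e) = d * e * d * e by simp [mul_assoc], hb, mul_assoc _ e e,
      mul_self W.hyp.set he, mul_one, mul_smul, W.mod.smul_img hd hx]
  rw [nrm, h2, mul_smul] at hn
  rw [eps_apply, eps_apply, smul_add, W.mod.smul_img hd hx]
  calc x + e • x + (x + d • e • x) = x + (x + d • e • x + e • x) := by abel
    _ = x := by rw [hn, add_zero]

theorem eps_inj {d e : G} (hd : d ∈ D) (he : e ∈ D) (h : ¬ Commute d e) {x : V} (hx : x ∈ img V d)
    (h0 : ε e x = 0) : x = 0 := by
  rw [← W.eps_braid hd he h hx, h0, map_zero]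

theorem eps_conj {x y : G} (hx : x ∈ D) (v : V) :
    ε (x * y * x) v = ε y v + ε x (ε y v) + ε y (ε x v) + ε x (ε y (ε x v)) := by
  rw [eps_apply (x * y * x), mul_smul, mul_smul, W.smul_eq x v, W.smul_eq y, W.smul_eq x]
  simp only [map_add, show ε x (ε x v) = 0 from W.eps_img_self hx (eps_mem x v), add_zero]
  calc v + (v + ε x v + (ε y v + ε y (ε x v)) + (ε x v + (ε x (ε y v) + ε x (ε y (ε x v))))) =
      ε y v + ε x (ε y v) + ε y (ε x v) + ε x (ε y (ε x v)) + ((v + v) + (ε x v + ε x v)) := by abel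
    _ = _ := by rw [W.mod.add_self, W.mod.add_self, add_zero, add_zero]

theorem eps_conj_braid {x y : G} (hx : x ∈ D) (hy : y ∈ D) (h : ¬ Commute x y) (v : V) :
    ε (x * y * x) v = ε x v + ε y v + ε x (ε y v) + ε y (ε x v) := by
  rw [W.eps_conj hx, W.eps_braid hx hy h (eps_mem x v)]
  abel

theorem eps_congr {d e : G} (hd : d ∈ D) (he : e ∈ D) (h : Same d e) (v : V) : ε d v = ε e v := by
  rw [eps_apply, eps_apply, W.smul_same hd he h]

theorem eps_smul {z d : G} (v : V) : z • ε d v = ε (z * d * z⁻¹) (z • v) := by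
  simp only [eps_apply, smul_add, ← mul_smul, inv_mul_cancel_right]

theorem core_eps {q d : G} (hq : q ∈ pCore 2 G) (hd : d ∈ D) (v : V) : q • ε d v = ε d (q • v) := by
  rw [W.eps_smul, W.eps_congr (W.hyp.closed.conj q d hd) hd (W.hyp.same_conj_of_mem hq d)]

/-! ### Two steps away from a base member -/

section corner

variable {o x y : G} (ho : o ∈ D) (hx : x ∈ D) (hy : y ∈ D) {v : V} (hv : v ∈ img V o)
include ho hx hy hv

theorem corner_mul (hox : ¬ Commute o x) (hoy : ¬ Commute o y) (hxy : ¬ Commute x y) :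
    ε o (ε x (ε y (ε o (ε y (ε x v))))) = v := by
  rw [W.eps_braid hy ho (fun k => hoy k.symm) (eps_mem y (ε x v)),
    W.eps_braid hx hy hxy (eps_mem x v), W.eps_braid ho hx hox hv]

theorem corner_line (hox : ¬ Commute o x) (hoy : ¬ Commute o y) (h : Commute y (o * x * o)) :
    ε o (ε y (ε x v)) = v := by
  have hz : o * x * o ∈ D := conj_mem_left W.hyp.closed ho hx
  have h1 := W.eps_perp hz hy h.symm (eps_mem (o * x * o) v)
  rw [W.eps_conj_braid ho hx hox, W.eps_img_self ho hv, map_zero, zero_add, add_zero,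
    W.eps_braid ho hx hox hv, map_add] at h1
  rw [W.mod.eq_of_add h1, W.eps_braid ho hy hoy hv]

theorem corner_sum (hox : ¬ Commute o x) (hoy : ¬ Commute o y) (hxy : ¬ Commute x y)
    (h : ¬ Commute y (o * x * o)) : ε o (ε x (ε y v)) + ε o (ε y (ε x v)) = v := by
  have hz : o * x * o ∈ D := conj_mem_left W.hyp.closed ho hx
  have h1 := W.eps_braid hy hz h (eps_mem y v)
  rw [W.eps_conj_braid ho hx hox, map_add, map_add, map_add, W.eps_braid hy hx (fun k => hxy k.symm) (eps_mem y v),
    W.eps_braid hy ho (fun k => hoy k.symm) (eps_mem y v), W.mod.add_self, zero_add,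
    W.eps_braid ho hy hoy hv] at h1
  have h2 := congrArg (ε o) h1
  rw [map_add, W.eps_braid ho hy hoy hv, W.eps_braid ho hy hoy (eps_mem o _)] at h2
  exact h2

end corner

end Space

end CfsgLib.TwoRadGen
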