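import Mathlib
import Cfsg.Agent.Lib.TwoRadGen.Corner
import Cfsg.Agent.Lib.TwoRadicalSU.Geom

/-!
# Members with the commutation pattern of a tree with one affine triangle

Their maps `1 + d` act on the span of their images as unitary transvections over the field of four elements.
-/

set_option autoImplicit false
set_option linter.unusedSectionVars false

namespace CfsgLib.TwoRadGen

open Cfsg CfsgLib.ThreeTrans CfsgLib.TwoRadical
open CfsgLib.TwoRadicalSU (Vec hf tv hf_add_left hf_smul_left hf_symm hf_zero_left hf_zero_symm)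

universe u

/-- Isotropic vectors whose Gram matrix is that of a tree with one affine triangle. -/
structure Pattern (m n : ℕ) where
  p : Fin m → Vec n
  par : Fin m → Fin m
  three : 3 ≤ m
  iso : ∀ i, hf (p i) (p i) = 0
  tri : hf (p ⟨1, by omega⟩) (p ⟨0, by omega⟩) = 1 ∧ hf (p ⟨2, by omega⟩) (p ⟨0, by omega⟩) = 1 ∧
    hf (p ⟨2, by omega⟩) (p ⟨1, by omega⟩) = GF4.w
  tree : ∀ i : Fin m, 3 ≤ i.1 → (par i).1 < i.1 ∧ hf (p i) (p (par i)) = 1
  other : ∀ i j : Fin m, 3 ≤ i.1 → j.1 < i.1 → j ≠ par i → hf (p i) (p j) = 0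

namespace Pattern

variable {m n : ℕ} (P : Pattern m n)

/-- The root. -/
def o : Fin m := ⟨0, lt_of_lt_of_le (by norm_num) P.three⟩
/-- The second vertex of the triangle. -/
def e₁ : Fin m := ⟨1, lt_of_lt_of_le (by norm_num) P.three⟩
/-- The third vertex of the triangle. -/
def e₂ : Fin m := ⟨2, lt_of_lt_of_le (by norm_num) P.three⟩

/-- The parent, the root for the vertices of the triangle. -/
def up (i : Fin m) : Fin m := if 3 ≤ i.1 then P.par i else P.o

theorem up_lt {i : Fin m} (hi : i ≠ P.o) : (P.up i).1 < i.1 := by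
  unfold up
  split_ifs with h
  · exact (P.tree i h).1
  · have : i.1 ≠ 0 := fun k => hi (Fin.ext k)
    exact Nat.pos_of_ne_zero this

theorem hf_up {i : Fin m} (hi : i ≠ P.o) : hf (P.p i) (P.p (P.up i)) = 1 := by
  unfold up
  split_ifs with h
  · exact (P.tree i h).2
  · have h0 : i.1 ≠ 0 := fun k => hi (Fin.ext k)
    rcases (show i.1 = 1 ∨ i.1 = 2 by omega) with h1 | h1
    · rw [show i = P.e₁ from Fin.ext h1]; exact P.tri.1
    · rw [show i = P.e₂ from Fin.ext h1]; exact P.tri.2.1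

/-- The possible pairs. -/
theorem pair_cases (i j : Fin m) : hf (P.p j) (P.p i) = 0 ∨
    (i ≠ P.o ∧ j = P.up i) ∨ (j ≠ P.o ∧ i = P.up j) ∨ (i = P.e₁ ∧ j = P.e₂) ∨ (i = P.e₂ ∧ j = P.e₁) := by
  have key : ∀ i j : Fin m, j.1 < i.1 → hf (P.p i) (P.p j) = 0 ∨ (i ≠ P.o ∧ j = P.up i) ∨
      (i = P.e₂ ∧ j = P.e₁) := by
    intro i j hji
    have hi0 : i ≠ P.o := fun k => by rw [k] at hji; exact Nat.not_lt_zero _ hji
    by_cases h : 3 ≤ i.1
    · by_cases hj : j = P.par i
      · exact Or.inr (Or.inl ⟨hi0, by rw [up, if_pos h, hj]⟩)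
      · exact Or.inl (P.other i j h hji hj)
    · by_cases hj0 : j = P.o
      · exact Or.inr (Or.inl ⟨hi0, by rw [up, if_neg h, hj0]⟩)
      · have : j.1 ≠ 0 := fun k => hj0 (Fin.ext k)
        exact Or.inr (Or.inr ⟨Fin.ext (show i.1 = 2 by omega), Fin.ext (show j.1 = 1 by omega)⟩)
  rcases lt_trichotomy i.1 j.1 with h | h | h
  · rcases key j i h with k | ⟨k1, k2⟩ | ⟨k1, k2⟩
    · exact Or.inl k
    · exact Or.inr (Or.inr (Or.inl ⟨k1, k2⟩))
    · exact Or.inr (Or.inr (Or.inr (Or.inl ⟨k2, k1⟩)))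
  · rw [Fin.ext h]; exact Or.inl (P.iso j)
  · rcases key i j h with k | ⟨k1, k2⟩ | ⟨k1, k2⟩
    · exact Or.inl (hf_zero_symm k)
    · exact Or.inr (Or.inl ⟨k1, k2⟩)
    · exact Or.inr (Or.inr (Or.inr (Or.inr ⟨k1, k2⟩)))

end Pattern

/-- Members realising a pattern. -/
structure Real {G : Type u} [Group G] (D : Set G) {m n : ℕ} (P : Pattern m n) (d : Fin m → G) : Prop where
  mem : ∀ i, d i ∈ D
  comm : ∀ i j, Commute (d i) (d j) ↔ hf (P.p i) (P.p j) = 0
  affine : ¬ Commute (d P.e₂) (d P.o * d P.e₁ * d P.o)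

variable {G : Type u} [Group G] [Finite G] {D : Set G}

/-- The action of `GF4` given by an affine corner. -/
def sm {G : Type*} [Monoid G] (V : Type*) [AddCommGroup V] [DistribMulAction G V] (o x y : G) (c : GF4) :
    V →+ V :=
  (if c.x = 1 then AddMonoidHom.id V else 0) + (if c.y = 1 then (eps V o).comp ((eps V x).comp (eps V y)) else 0)

/-- An affine corner. -/
structure Aff {G : Type*} [Group G] (D : Set G) (o x y : G) : Prop where
  mo : o ∈ D
  mx : x ∈ D
  my : y ∈ D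
  ox : ¬ Commute o x
  oy : ¬ Commute o y
  xy : ¬ Commute x y
  off : ¬ Commute y (o * x * o)

namespace Space

variable {V : Type u} [AddCommGroup V] [DistribMulAction G V] (W : Space D V)
include W

local notation "ε" => eps V

theorem sm_add (o x y : G) (c d : GF4) (v : V) : sm V o x y (c + d) v = sm V o x y c v + sm V o x y d v := by
  have key : ∀ p q : ZMod 2, ∀ f : V →+ V, (if p + q = 1 then f else 0) v =
      (if p = 1 then f else 0) v + (if q = 1 then f else 0) v := by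
    intro p q f
    have : ∀ p : ZMod 2, p = 0 ∨ p = 1 := by decide
    rcases this p with rfl | rfl <;> rcases this q with rfl | rfl <;>
      simp [W.mod.add_self, show (1 : ZMod 2) + 1 = 0 from by decide]
  show ((if (c + d).x = 1 then _ else _) + (if (c + d).y = 1 then _ else _) : V →+ V) v = _
  simp only [sm, AddMonoidHom.add_apply, show (c + d).x = c.x + d.x from rfl, show (c + d).y = c.y + d.y from rfl,
    key]
  abel

theorem sm_zero (o x y : G) (v : V) : sm V o x y 0 v = 0 := by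
  simp [sm, show (0 : GF4).x = 0 from rfl, show (0 : GF4).y = 0 from rfl]

theorem sm_one (o x y : G) (v : V) : sm V o x y 1 v = v := by
  simp [sm, show (1 : GF4).x = 1 from rfl, show (1 : GF4).y = 0 from rfl]

theorem sm_w (o x y : G) (v : V) : sm V o x y GF4.w v = ε o (ε x (ε y v)) := by
  simp [sm, show GF4.w.x = 0 from rfl, show GF4.w.y = 1 from rfl]

theorem sm_sum (o x y : G) {ι : Type*} (s : Finset ι) (c : ι → GF4) (v : V) :
    sm V o x y (∑ i ∈ s, c i) v = ∑ i ∈ s, sm V o x y (c i) v := by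
  classical
  induction s using Finset.induction_on with
  | empty => simp [W.sm_zero]
  | insert k s hk ih => rw [Finset.sum_insert hk, Finset.sum_insert hk, W.sm_add, ih]

variable {o x y : G}

theorem sm_mem (h : Aff D o x y) (c : GF4) {v : V} (hv : v ∈ img V o) : sm V o x y c v ∈ img V o := by
  simp only [sm, AddMonoidHom.add_apply]
  refine add_mem ?_ ?_ <;> split_ifs
  · exact hv
  · exact zero_mem _
  · exact eps_mem o _
  · exact zero_mem _

theorem sm_sq (h : Aff D o x y) {v : V} (hv : v ∈ img V o) :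
    sm V o x y (GF4.w ^ 2) v = ε o (ε y (ε x v)) := by
  have hsum := W.corner_sum h.mo h.mx h.my hv h.ox h.oy h.xy h.off
  rw [show GF4.w ^ 2 = 1 + GF4.w by decide +kernel, W.sm_add, W.sm_one, W.sm_w]
  calc v + ε o (ε x (ε y v)) = ε o (ε x (ε y v)) + ε o (ε y (ε x v)) + ε o (ε x (ε y v)) := by rw [hsum]
    _ = ε o (ε y (ε x v)) + (ε o (ε x (ε y v)) + ε o (ε x (ε y v))) := by abel
    _ = _ := by rw [W.mod.add_self, add_zero]

theorem sm_mul (h : Aff D o x y) (c d : GF4) {v : V} (hv : v ∈ img V o) :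
    sm V o x y c (sm V o x y d v) = sm V o x y (c * d) v := by
  have hw : ∀ d : GF4, sm V o x y GF4.w (sm V o x y d v) = sm V o x y (GF4.w * d) v := by
    intro d
    have h2 : sm V o x y GF4.w (sm V o x y (GF4.w ^ 2) v) = v := by
      rw [W.sm_sq h hv, W.sm_w, W.corner_mul h.mo h.mx h.my hv h.ox h.oy h.xy]
    rcases TwoRadicalSU.K.cases d with rfl | rfl | rfl | rfl
    · rw [mul_zero, W.sm_zero, map_zero]
    · rw [mul_one, W.sm_one]
    · rw [show GF4.w ^ 2 = 1 + GF4.w by decide +kernel, W.sm_add, W.sm_one, map_add] at h2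
      rw [show GF4.w * GF4.w = 1 + GF4.w by decide +kernel, W.sm_add, W.sm_one]
      generalize sm V o x y GF4.w v = A at h2 ⊢
      conv_rhs => rw [← h2, add_comm A (sm V o x y GF4.w A), add_assoc, W.mod.add_self, add_zero]
    · rw [h2, show GF4.w * GF4.w ^ 2 = 1 by decide +kernel, W.sm_one]
  rcases TwoRadicalSU.K.cases c with rfl | rfl | rfl | rfl
  · rw [zero_mul, W.sm_zero, W.sm_zero]
  · rw [one_mul, W.sm_one]
  · exact hw d
  · rw [show GF4.w ^ 2 = 1 + GF4.w by decide +kernel, W.sm_add, W.sm_one, hw, add_mul, one_mul, W.sm_add]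

theorem sm_eq_zero (h : Aff D o x y) {c : GF4} (hc : c ≠ 0) {v : V} (hv : v ∈ img V o)
    (h0 : sm V o x y c v = 0) : v = 0 := by
  rw [← W.sm_one o x y v, ← inv_mul_cancel₀ hc, ← W.sm_mul h c⁻¹ c hv, h0, map_zero]

end Space

/-- The standing data: a space and members realising a pattern. -/
structure Framed {G : Type u} [Group G] (D : Set G) (V : Type u) [AddCommGroup V] [DistribMulAction G V]
    (m n : ℕ) where
  W : Space D V
  P : Pattern m n
  d : Fin m → G
  real : Real D P d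

namespace Framed

variable {V : Type u} [AddCommGroup V] [DistribMulAction G V] {m n : ℕ} (F : Framed D V m n)

local notation "ε" => eps V
local notation "o'" => F.d F.P.o

theorem aff : Aff D o' (F.d F.P.e₁) (F.d F.P.e₂) := by
  have h := F.real
  refine ⟨h.mem _, h.mem _, h.mem _, fun k => ?_, fun k => ?_, fun k => ?_, h.affine⟩
  · exact one_ne_zero (F.P.tri.1.symm.trans (hf_zero_symm ((h.comm _ _).mp k)))
  · exact one_ne_zero (F.P.tri.2.1.symm.trans (hf_zero_symm ((h.comm _ _).mp k)))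
  · exact TwoRadicalSU.K.w_ne.1 (F.P.tri.2.2.symm.trans (hf_zero_symm ((h.comm _ _).mp k)))

/-- The scalars. -/
abbrev sc (c : GF4) : V →+ V := sm V o' (F.d F.P.e₁) (F.d F.P.e₂) c

theorem exists_gauge : ∃ φ : Fin m → V →+ V, φ F.P.o = AddMonoidHom.id V ∧
    ∀ i, i ≠ F.P.o → φ i = (ε (F.d i)).comp (φ (F.P.up i)) := by
  suffices h : ∀ k, ∃ φ : Fin m → V →+ V, φ F.P.o = AddMonoidHom.id V ∧
      ∀ i : Fin m, i.1 < k → i ≠ F.P.o → φ i = (ε (F.d i)).comp (φ (F.P.up i)) by
    obtain ⟨φ, h1, h2⟩ := h m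
    exact ⟨φ, h1, fun i => h2 i i.2⟩
  intro k
  induction k with
  | zero => exact ⟨fun _ => AddMonoidHom.id V, rfl, fun i hi => absurd hi (Nat.not_lt_zero _)⟩
  | succ k ih =>
    obtain ⟨φ, h1, h2⟩ := ih
    refine ⟨fun i => if i.1 = k ∧ i ≠ F.P.o then (ε (F.d i)).comp (φ (F.P.up i)) else φ i, ?_, fun i hi hio => ?_⟩
    · simp [h1]
    · have hup : ¬((F.P.up i).1 = k ∧ F.P.up i ≠ F.P.o) := fun hh => by
        have := F.P.up_lt hio; omega
      simp only [if_neg hup]
      by_cases hk : i.1 = k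
      · rw [if_pos ⟨hk, hio⟩]
      · rw [if_neg fun hh => hk hh.1]
        exact h2 i (by omega) hio

/-- The maps from the root image to the others. -/
noncomputable def φ : Fin m → V →+ V := F.exists_gauge.choose

theorem φ_root : F.φ F.P.o = AddMonoidHom.id V := F.exists_gauge.choose_spec.1

theorem φ_up {i : Fin m} (hi : i ≠ F.P.o) (v : V) : F.φ i v = ε (F.d i) (F.φ (F.P.up i) v) := by
  rw [φ, F.exists_gauge.choose_spec.2 i hi]; rfl

theorem φ_mem (i : Fin m) {v : V} (hv : v ∈ img V o') : F.φ i v ∈ img V (F.d i) := by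
  by_cases hi : i = F.P.o
  · subst hi; rw [F.φ_root]; exact hv
  · rw [F.φ_up hi]; exact eps_mem _ _

theorem not_commute_up {i : Fin m} (hi : i ≠ F.P.o) : ¬ Commute (F.d i) (F.d (F.P.up i)) := fun k =>
  one_ne_zero ((F.P.hf_up hi).symm.trans ((F.real.comm _ _).mp k))

theorem φ_inj (i : Fin m) {v : V} (hv : v ∈ img V o') (h : F.φ i v = 0) : v = 0 := by
  induction' hk : i.1 using Nat.strong_induction_on with k ih generalizing i
  by_cases hi : i = F.P.o
  · subst hi; rwa [F.φ_root] at h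
  · refine ih _ (hk ▸ F.P.up_lt hi) _ ?_ rfl
    rw [F.φ_up hi] at h
    exact F.W.eps_inj (F.real.mem _) (F.real.mem _) (fun k => F.not_commute_up hi k.symm) (F.φ_mem _ hv) h

theorem φ_e₁ (v : V) : F.φ F.P.e₁ v = ε (F.d F.P.e₁) v := by
  rw [F.φ_up (by simp [Pattern.e₁, Pattern.o, Fin.ext_iff]),
    show F.P.up F.P.e₁ = F.P.o from if_neg (by simp [Pattern.e₁]), F.φ_root]; rfl

theorem φ_e₂ (v : V) : F.φ F.P.e₂ v = ε (F.d F.P.e₂) v := by
  rw [F.φ_up (by simp [Pattern.e₂, Pattern.o, Fin.ext_iff]),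
    show F.P.up F.P.e₂ = F.P.o from if_neg (by simp [Pattern.e₂]), F.φ_root]; rfl

/-- How each map acts on each image. -/
theorem eps_φ (i j : Fin m) {v : V} (hv : v ∈ img V o') :
    ε (F.d i) (F.φ j v) = F.φ i (F.sc (hf (F.P.p j) (F.P.p i)) v) := by
  have hA := F.aff
  rcases F.P.pair_cases i j with h | ⟨hi, rfl⟩ | ⟨hj, rfl⟩ | ⟨rfl, rfl⟩ | ⟨rfl, rfl⟩
  · rw [h, sc, F.W.sm_zero, map_zero]
    exact F.W.eps_perp (F.real.mem j) (F.real.mem i) ((F.real.comm _ _).mpr h) (F.φ_mem _ hv)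
  · rw [hf_symm, F.P.hf_up hi, one_pow, sc, F.W.sm_one, ← F.φ_up hi]
  · rw [F.P.hf_up hj, sc, F.W.sm_one, F.φ_up hj]
    exact F.W.eps_braid (F.real.mem _) (F.real.mem _) (fun k => F.not_commute_up hj k.symm) (F.φ_mem _ hv)
  · rw [show hf (F.P.p F.P.e₂) (F.P.p F.P.e₁) = GF4.w from F.P.tri.2.2, sc, F.W.sm_w, F.φ_e₁, F.φ_e₂,
      F.W.eps_braid hA.mx hA.mo (fun k => hA.ox k.symm) (eps_mem _ _)]
  · rw [hf_symm, show hf (F.P.p F.P.e₂) (F.P.p F.P.e₁) = GF4.w from F.P.tri.2.2, sc, F.W.sm_sq hA hv, F.φ_e₁,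
      F.φ_e₂, F.W.eps_braid hA.my hA.mo (fun k => hA.oy k.symm) (eps_mem _ _)]

/-- The combination with coefficients `f`. -/
noncomputable def comb (f : Fin m → GF4) (v : V) : V := ∑ i, F.φ i (F.sc (f i) v)

theorem eps_comb (i : Fin m) (f : Fin m → GF4) {v : V} (hv : v ∈ img V o') :
    ε (F.d i) (F.comb f v) = F.φ i (F.sc (hf (∑ j, f j • F.P.p j) (F.P.p i)) v) := by
  have hA := F.aff
  have hsum : hf (∑ j, f j • F.P.p j) (F.P.p i) = ∑ j, f j * hf (F.P.p j) (F.P.p i) := by
    induction (Finset.univ : Finset (Fin m)) using Finset.induction_on with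
    | empty => simp [hf_zero_left]
    | insert k s hk ih => rw [Finset.sum_insert hk, Finset.sum_insert hk, hf_add_left, hf_smul_left, ih]
  rw [comb, map_sum, hsum, sc, F.W.sm_sum, map_sum]
  refine Finset.sum_congr rfl fun j _ => ?_
  rw [F.eps_φ i j (F.W.sm_mem hA _ hv), sc, F.W.sm_mul hA _ _ hv, mul_comm]

end Framed

end CfsgLib.TwoRadGen
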