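import Mathlib
import Cfsg.Agent.Lib.TwoRadGen.Frame

/-!
# Elements acting as matrices, and elements central modulo the 2-core
-/

set_option autoImplicit false
set_option linter.unusedSectionVars false

namespace CfsgLib.TwoRadGen

open Cfsg CfsgLib.ThreeTrans CfsgLib.TwoRadical
open CfsgLib.TwoRadicalSU (Vec hf tv hf_add_left hf_smul_left)

universe u

variable {G : Type u} [Group G] [Finite G] {D : Set G}

/-- Central modulo the 2-core, on members. -/
def Central (D : Set G) (z : G) : Prop := ∀ e ∈ D, Same (z * e * z⁻¹) e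

theorem Hyp.central_of_mem (H : Hyp D) {q : G} (hq : q ∈ pCore 2 G) : Central D q := fun e _ =>
  H.same_conj_of_mem hq e

namespace Space

variable {V : Type u} [AddCommGroup V] [DistribMulAction G V] (W : Space D V)
include W

theorem central_eps {z e : G} (hz : Central D z) (he : e ∈ D) (v : V) :
    z • eps V e v = eps V e (z • v) := by
  rw [W.eps_smul, W.eps_congr (W.hyp.closed.conj z e he) he (hz e he)]

/-- The same for one member only. -/
theorem central_eps' {z e : G} (hz : Same (z * e * z⁻¹) e) (he : e ∈ D) (v : V) :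
    z • eps V e v = eps V e (z • v) := by
  rw [W.eps_smul, W.eps_congr (W.hyp.closed.conj z e he) he hz]

/-- An element agreeing with `k` on the images agrees with `k` everywhere. -/
theorem act_of_class {K : Subgroup G} (hK : ∀ e ∈ D, ∃ k ∈ K, ∀ v : V, e • v = k • v) (g : G) :
    ∃ k ∈ K, ∀ v : V, g • v = k • v := by
  have hg : g ∈ Submonoid.closure D := by
    rw [← Subgroup.closure_toSubmonoid_of_finite, W.hyp.cls.2.2]; exact Subgroup.mem_top g
  induction hg using Submonoid.closure_induction with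
  | mem e he => exact hK e he
  | one => exact ⟨1, one_mem K, fun _ => rfl⟩
  | mul a b _ _ iha ihb =>
    obtain ⟨k, hk, hka⟩ := iha
    obtain ⟨l, hl, hlb⟩ := ihb
    exact ⟨k * l, mul_mem hk hl, fun v => by rw [mul_smul, hlb, hka, mul_smul]⟩

end Space

namespace Framed

variable {V : Type u} [AddCommGroup V] [DistribMulAction G V] {m n : ℕ} (F : Framed D V m n)

local notation "o'" => F.d F.P.o

/-- `g` acts as `M` on combinations. -/
def Acts (g : G) (M : Vec n → Vec n) : Prop :=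
  ∀ f : Fin m → GF4, ∃ f' : Fin m → GF4, ∑ j, f' j • F.P.p j = M (∑ j, f j • F.P.p j) ∧
    ∀ v ∈ img V o', g • F.comb f v = F.comb f' v

theorem comb_add (f f' : Fin m → GF4) (v : V) : F.comb (f + f') v = F.comb f v + F.comb f' v := by
  simp only [comb, Pi.add_apply, sc, F.W.sm_add, map_add, Finset.sum_add_distrib]

theorem comb_single (i : Fin m) (c : GF4) (v : V) : F.comb (Pi.single i c) v = F.φ i (F.sc c v) := by
  rw [comb, Finset.sum_eq_single i]
  · rw [Pi.single_eq_same]
  · intro j _ hj; rw [Pi.single_eq_of_ne hj, sc, F.W.sm_zero, map_zero]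
  · simp

theorem acts_gen (i : Fin m) : F.Acts (F.d i) (tv (F.P.p i)) := by
  classical
  intro f
  set c := hf (∑ j, f j • F.P.p j) (F.P.p i) with hc
  refine ⟨f + Pi.single i c, ?_, fun v hv => ?_⟩
  · simp only [Pi.add_apply, add_smul, Finset.sum_add_distrib, TwoRadicalSU.tv, ← hc]
    congr 1
    rw [Finset.sum_eq_single i]
    · rw [Pi.single_eq_same]
    · intro j _ hj; rw [Pi.single_eq_of_ne hj, zero_smul]
    · simp
  · rw [F.W.smul_eq, F.eps_comb i f hv, ← hc, F.comb_add, F.comb_single]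

theorem acts_mul {g g' : G} {M M' : Vec n → Vec n} (h : F.Acts g M) (h' : F.Acts g' M') :
    F.Acts (g * g') (M ∘ M') := by
  intro f
  obtain ⟨f₁, e₁, h₁⟩ := h' f
  obtain ⟨f₂, e₂, h₂⟩ := h f₁
  exact ⟨f₂, by rw [e₂, e₁]; rfl, fun v hv => by rw [mul_smul, h₁ v hv, h₂ v hv]⟩

theorem acts_one : F.Acts 1 id := fun f => ⟨f, rfl, fun v _ => one_smul G _⟩

theorem acts_list (l : List (Fin m)) :
    F.Acts (l.map F.d).prod (fun x => l.foldr (fun i y => tv (F.P.p i) y) x) := by
  induction l with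
  | nil => exact F.acts_one
  | cons i l ih => rw [List.map_cons, List.prod_cons]; exact F.acts_mul (F.acts_gen i) ih

theorem exists_list {k : G} (hk : k ∈ Subgroup.closure (Set.range F.d)) :
    ∃ l : List (Fin m), (l.map F.d).prod = k := by
  rw [← Subgroup.mem_toSubmonoid, Subgroup.closure_toSubmonoid_of_finite] at hk
  induction hk using Submonoid.closure_induction with
  | mem x hx => obtain ⟨i, rfl⟩ := hx; exact ⟨[i], by simp⟩
  | one => exact ⟨[], rfl⟩
  | mul a b _ _ iha ihb =>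
    obtain ⟨l, rfl⟩ := iha
    obtain ⟨l', rfl⟩ := ihb
    exact ⟨l ++ l', by simp⟩

theorem exists_root_ne : ∃ v ∈ img V o', v ≠ 0 := F.W.exists_ne (F.real.mem _)

theorem sc_inj {c c' : GF4} {v : V} (hv : v ∈ img V o') (hv0 : v ≠ 0) (h : F.sc c v = F.sc c' v) : c = c' := by
  by_contra hne
  refine hv0 (F.W.sm_eq_zero F.aff (c := c + c') ?_ hv ?_)
  · intro k
    exact hne (by rw [← add_zero c, ← TwoRadicalSU.K.add_self c', ← add_assoc, k, zero_add])
  · rw [F.W.sm_add, show sm V o' (F.d F.P.e₁) (F.d F.P.e₂) c v = F.sc c v from rfl, h, F.W.mod.add_self]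

/-- An element acting as a matrix and fixing the members modulo the 2-core is a scalar on the span of the images. -/
theorem central_scalar_local {z : G} {M : Vec n → Vec n} (hz : ∀ i, Same (z * F.d i * z⁻¹) (F.d i)) (hM : F.Acts z M) :
    ∃ ζ : GF4, (∀ i, hf (M (F.P.p F.P.o)) (F.P.p i) = ζ * hf (F.P.p F.P.o) (F.P.p i)) ∧
      ∀ i, ∀ v ∈ img V o', z • F.φ i v = F.φ i (F.sc ζ v) := by
  classical
  have hA := F.aff
  obtain ⟨f, hfM, hzf⟩ := hM (Pi.single F.P.o 1)
  have hpo : ∑ j, (Pi.single F.P.o (1 : GF4) : Fin m → GF4) j • F.P.p j = F.P.p F.P.o := by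
    rw [Finset.sum_eq_single F.P.o]
    · rw [Pi.single_eq_same, one_smul]
    · intro j _ hj; rw [Pi.single_eq_of_ne hj, zero_smul]
    · simp
  rw [hpo] at hfM
  have hroot : ∀ v ∈ img V o', z • v = F.comb f v := fun v hv => by
    rw [← hzf v hv, F.comb_single, sc, F.W.sm_one, F.φ_root]; rfl
  set ζ := hf (M (F.P.p F.P.o)) (F.P.p F.P.e₁) with hζ
  have h0 : ∀ v ∈ img V o', z • v = F.sc ζ v := by
    intro v hv
    have h1 : eps V o' (eps V (F.d F.P.e₁) (z • v)) = z • v := by
      rw [← F.W.central_eps' (hz F.P.e₁) hA.mx, ← F.W.central_eps' (hz F.P.o) hA.mo, F.W.eps_braid hA.mo hA.mx hA.ox hv]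
    rw [← h1, hroot v hv, F.eps_comb _ f hv, hfM, ← hζ, F.φ_e₁,
      F.W.eps_braid hA.mo hA.mx hA.ox (F.W.sm_mem hA _ hv)]
  have hall : ∀ k, ∀ i : Fin m, i.1 < k → ∀ v ∈ img V o', z • F.φ i v = F.φ i (F.sc ζ v) := by
    intro k
    induction k with
    | zero => exact fun i hi => absurd hi (Nat.not_lt_zero _)
    | succ k ih =>
      intro i hi v hv
      by_cases hio : i = F.P.o
      · subst hio
        rw [F.φ_root]
        exact h0 v hv
      · have := F.P.up_lt hio
        rw [F.φ_up hio, F.φ_up hio, F.W.central_eps' (hz i) (F.real.mem i), ih _ (by omega) v hv]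
  refine ⟨ζ, fun i => ?_, fun i v hv => hall _ i i.2 v hv⟩
  obtain ⟨v, hv, hv0⟩ := F.exists_root_ne
  have e1 : eps V (F.d i) (z • v) = F.φ i (F.sc (hf (M (F.P.p F.P.o)) (F.P.p i)) v) := by
    rw [hroot v hv, F.eps_comb i f hv, hfM]
  have e2 : eps V (F.d i) (z • v) = F.φ i (F.sc (hf (F.P.p F.P.o) (F.P.p i) * ζ) v) := by
    rw [h0 v hv]
    have := F.eps_φ i F.P.o (F.W.sm_mem hA ζ hv)
    rw [F.φ_root] at this
    refine this.trans ?_
    rw [sc, F.W.sm_mul hA _ _ hv]
  refine F.sc_inj hv hv0 (F.W.mod.eq_of_add (F.φ_inj i ?_ ?_)) |>.trans (mul_comm _ _)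
  · exact add_mem (F.W.sm_mem hA _ hv) (F.W.sm_mem hA _ hv)
  · rw [map_add, ← e1, ← e2, F.W.mod.add_self]

/-- A central element acting as a matrix is a scalar on the span of the images. -/
theorem central_scalar {z : G} {M : Vec n → Vec n} (hz : Central D z) (hM : F.Acts z M) :
    ∃ ζ : GF4, (∀ i, hf (M (F.P.p F.P.o)) (F.P.p i) = ζ * hf (F.P.p F.P.o) (F.P.p i)) ∧
      ∀ i, ∀ v ∈ img V o', z • F.φ i v = F.φ i (F.sc ζ v) :=
  F.central_scalar_local (fun i => hz _ (F.real.mem i)) hM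

/-- The members generate modulo the 2-core. -/
def Gen : Prop := ∀ e ∈ D, ∃ k ∈ Subgroup.closure (Set.range F.d), Same e (k * o' * k⁻¹)

theorem gen_of_sup (h : Subgroup.closure (Set.range F.d) ⊔ pCore 2 G = ⊤) : F.Gen := by
  intro e he
  obtain ⟨g, hg⟩ := class_conj F.W.hyp.cls (F.real.mem F.P.o) he
  have hQ : (pCore 2 G).Normal := pCore_normal 2 G
  have hmem : g ∈ ((Subgroup.closure (Set.range F.d) ⊔ pCore 2 G : Subgroup G) : Set G) := by
    rw [h]; exact Subgroup.mem_top g
  rw [Subgroup.sup_eq_closure_mul, ← Subgroup.sup_eq_closure_mul, SetLike.mem_coe, Subgroup.mem_sup_of_normal_right] at hmem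
  obtain ⟨k, hk, q, hq, rfl⟩ := hmem
  refine ⟨k, hk, ?_⟩
  rw [← hg]
  simp only [Same, QuotientGroup.mk_mul, QuotientGroup.mk_inv, (QuotientGroup.eq_one_iff q).mpr hq, mul_one]

variable (hG : F.Gen)
include hG

theorem same_act (g : G) : ∃ k ∈ Subgroup.closure (Set.range F.d), ∀ v : V, g • v = k • v := by
  refine F.W.act_of_class (fun e he => ?_) g
  obtain ⟨k, hk, hsame⟩ := hG e he
  exact ⟨k * o' * k⁻¹, mul_mem (mul_mem hk (Subgroup.subset_closure ⟨_, rfl⟩)) (inv_mem hk),
    F.W.smul_same he (F.W.hyp.closed.conj k _ (F.real.mem _)) hsame⟩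

theorem span : ∀ u : V, u ∈ AddSubgroup.closure {x | ∃ i, ∃ v ∈ img V o', x = F.φ i v} := by
  set S := AddSubgroup.closure {x | ∃ i, ∃ v ∈ img V o', x = F.φ i v} with hS
  have hinv : ∀ k ∈ Subgroup.closure (Set.range F.d), ∀ x ∈ S, k • x ∈ S := by
    intro k hk
    obtain ⟨l, rfl⟩ := F.exists_list hk
    induction l with
    | nil => simp
    | cons i l ih =>
      intro x hx
      rw [List.map_cons, List.prod_cons, mul_smul]
      have hxS : (l.map F.d).prod • x ∈ S :=
        ih (Subgroup.list_prod_mem _ fun y hy => by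
          obtain ⟨j, -, rfl⟩ := List.mem_map.mp hy; exact Subgroup.subset_closure ⟨j, rfl⟩) x hx
      generalize (l.map F.d).prod • x = y at hxS ⊢
      induction hxS using AddSubgroup.closure_induction with
      | mem y hy =>
        obtain ⟨j, v, hv, rfl⟩ := hy
        rw [F.W.smul_eq]
        refine add_mem (AddSubgroup.subset_closure ⟨j, v, hv, rfl⟩) ?_
        rw [F.eps_φ i j hv]
        exact AddSubgroup.subset_closure ⟨i, _, F.W.sm_mem F.aff _ hv, rfl⟩
      | zero => rw [smul_zero]; exact zero_mem S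
      | add a b _ _ iha ihb => rw [smul_add]; exact add_mem iha ihb
      | neg a _ iha => rw [smul_neg]; exact neg_mem iha
  have := F.W.span S (fun e he x hx => ?_)
  · intro u; rw [this]; exact AddSubgroup.mem_top u
  obtain ⟨k, hk, hsame⟩ := hG e he
  obtain ⟨w, rfl⟩ := mem_img.mp hx
  have hmem := F.W.hyp.closed.conj k _ (F.real.mem F.P.o)
  rw [← eps_apply e w, F.W.eps_congr he hmem hsame, ← smul_inv_smul k w, ← F.W.eps_smul]
  refine hinv k hk _ (AddSubgroup.subset_closure ⟨F.P.o, eps V o' (k⁻¹ • w), eps_mem _ _, ?_⟩)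
  rw [F.φ_root]; rfl

theorem eps_image (i : Fin m) (u : V) : ∃ w ∈ img V o', eps V (F.d i) u = F.φ i w := by
  induction F.span hG u using AddSubgroup.closure_induction with
  | mem y hy =>
    obtain ⟨j, v, hv, rfl⟩ := hy
    exact ⟨_, F.W.sm_mem F.aff _ hv, F.eps_φ i j hv⟩
  | zero => exact ⟨0, zero_mem _, by rw [map_zero, map_zero]⟩
  | add a b _ _ iha ihb =>
    obtain ⟨p, hp, ep⟩ := iha
    obtain ⟨q, hq, eq⟩ := ihb
    exact ⟨p + q, add_mem hp hq, by rw [map_add, map_add, ep, eq]⟩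
  | neg a _ iha =>
    obtain ⟨p, hp, ep⟩ := iha
    exact ⟨-p, neg_mem hp, by rw [map_neg, map_neg, ep]⟩

theorem central_all {z : G} (hz : Central D z) :
    ∃ ζ : GF4, ∀ i, ∀ v ∈ img V o', z • F.φ i v = F.φ i (F.sc ζ v) := by
  obtain ⟨k, hk, hzk⟩ := F.same_act hG z
  obtain ⟨l, rfl⟩ := F.exists_list hk
  have hM : F.Acts z (fun x => l.foldr (fun i y => tv (F.P.p i) y) x) := fun f => by
    obtain ⟨f', e, h⟩ := F.acts_list l f
    exact ⟨f', e, fun v hv => by rw [hzk, h v hv]⟩
  obtain ⟨ζ, -, h⟩ := F.central_scalar hz hM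
  exact ⟨ζ, h⟩

theorem trivial_of_scalar_one {z : G} (h : ∀ i, ∀ v ∈ img V o', z • F.φ i v = F.φ i (F.sc 1 v)) (u : V) :
    z • u = u := by
  induction F.span hG u using AddSubgroup.closure_induction with
  | mem y hy =>
    obtain ⟨j, v, hv, rfl⟩ := hy
    rw [h j v hv, sc, F.W.sm_one]
  | zero => exact smul_zero z
  | add a b _ _ iha ihb => rw [smul_add, iha, ihb]
  | neg a _ iha => rw [smul_neg, iha]

/-- A central element acts trivially or without fixed points. -/
theorem central_dichotomy {z : G} (hz : Central D z) :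
    (∀ u : V, z • u = u) ∨ ∀ u : V, z • u = u → u = 0 := by
  obtain ⟨ζ, h⟩ := F.central_all hG hz
  by_cases h1 : ζ = 1
  · exact Or.inl (F.trivial_of_scalar_one hG (h1 ▸ h))
  refine Or.inr fun u hu => ?_
  have hfix : ∀ i, eps V (F.d i) u = 0 := by
    intro i
    obtain ⟨w, hw, ew⟩ := F.eps_image hG i u
    have e2 : z • eps V (F.d i) u = eps V (F.d i) u := by rw [F.W.central_eps hz (F.real.mem i), hu]
    rw [ew, h i w hw] at e2
    rw [ew]
    have : F.sc ζ w + F.sc 1 w = 0 := F.φ_inj i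
      (add_mem (F.W.sm_mem F.aff _ hw) (F.W.sm_mem F.aff _ hw)) (by
        rw [map_add, e2, sc, F.W.sm_one, F.W.mod.add_self])
    rw [← F.W.sm_add] at this
    rw [F.W.sm_eq_zero F.aff (fun k => h1 (by
      rw [← add_zero ζ, ← TwoRadicalSU.K.add_self (1 : GF4), ← add_assoc, k, zero_add])) hw this, map_zero]
  refine F.W.eq_zero_of_fixed fun e he => ?_
  obtain ⟨k, hk, hek⟩ := F.same_act hG e
  rw [hek]
  obtain ⟨l, rfl⟩ := F.exists_list hk
  clear hk hek
  induction l with
  | nil => simp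
  | cons i l ih => rw [List.map_cons, List.prod_cons, mul_smul, ih, F.W.smul_eq, hfix, add_zero]

/-- The 2-core acts trivially. -/
theorem core_trivial {q : G} (hq : q ∈ pCore 2 G) (u : V) : q • u = u := by
  have : Fact (Nat.Prime 2) := ⟨Nat.prime_two⟩
  obtain ⟨ζ, h⟩ := F.central_all hG (F.W.hyp.central_of_mem hq)
  obtain ⟨k, hk⟩ := CfsgLib.PCore.pCore_isPGroup (G := G) (p := 2) ⟨q, hq⟩
  have hk' : q ^ 2 ^ k = 1 := congrArg Subtype.val hk
  obtain ⟨v, hv, hv0⟩ := F.exists_root_ne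
  have hpow : ∀ j : ℕ, ∀ w ∈ img V o', q ^ j • F.φ F.P.o w = F.φ F.P.o (F.sc (ζ ^ j) w) := by
    intro j
    induction j with
    | zero => intro w _; rw [pow_zero, pow_zero, one_smul, sc, F.W.sm_one]
    | succ j ih =>
      intro w hw
      rw [pow_succ, mul_smul, h _ w hw, ih _ (F.W.sm_mem F.aff _ hw), sc, F.W.sm_mul F.aff _ _ hw, ← pow_succ]
  have hone : ζ ^ 2 ^ k = 1 := F.sc_inj hv hv0 (by
    have h' := hpow (2 ^ k) v hv
    rw [hk', one_smul, F.φ_root] at h'
    rw [sc, sc, F.W.sm_one]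
    exact h'.symm)
  have hsq : ∀ a : GF4, a ^ 2 = 1 → a = 1 := by decide +kernel
  have : ζ = 1 := by
    clear hk hk'
    induction k with
    | zero => simpa using hone
    | succ k ih => exact ih (hsq _ (by rw [← pow_mul, ← pow_succ]; exact hone))
  exact F.trivial_of_scalar_one hG (this ▸ h) u

theorem elementary : IsElementaryAbelian 2 (pCore 2 G) :=
  F.W.elementary fun _ hq => F.core_trivial hG hq

end Framed

end CfsgLib.TwoRadGen
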