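import Mathlib
import Cfsg.Agent.Lib.TwoRadGen.FrameAct

/-!
# Classes without affine triangles
-/

set_option autoImplicit false
set_option linter.unusedSectionVars false

namespace CfsgLib.TwoRadGen

open Cfsg CfsgLib.ThreeTrans CfsgLib.TwoRadical

universe u

variable {G : Type u} [Group G] [Finite G] {D : Set G}

/-- No three members generate a group with nine transpositions. -/
def NoAffine (D : Set G) : Prop := ∀ a ∈ D, ∀ b ∈ D, ∀ c ∈ D,
  ¬ Commute a b → ¬ Commute a c → ¬ Commute b c → Commute c (a * b * a)

namespace Space

variable {V : Type u} [AddCommGroup V] [DistribMulAction G V] (W : Space D V)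
include W

local notation "ε" => eps V

/-- A word of maps. -/
def word {G : Type*} [Monoid G] (V : Type*) [AddCommGroup V] [DistribMulAction G V] (l : List G) (v : V) : V :=
  l.foldr (fun x w => eps V x w) v

/-- Closed words are zero or one. -/
theorem word_value (hN : NoAffine D) : ∀ (l : List G), (∀ x ∈ l, x ∈ D) → ∀ o ∈ D,
    ∃ b : Bool, ∀ v ∈ img V o, ε o (word V l v) = if b then v else 0 := by
  intro l
  induction' hk : l.length using Nat.strong_induction_on with k ih generalizing l
  intro hl o ho
  match l, hl with
  | [], _ => exact ⟨false, fun v hv => by simp [word, W.eps_img_self ho hv]⟩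
  | [x], hl =>
    have hx := hl x List.mem_cons_self
    by_cases hc : Commute o x
    · exact ⟨false, fun v hv => by simp [word, W.eps_perp hx ho hc.symm (eps_mem x v)]⟩
    · exact ⟨true, fun v hv => by simp [word, W.eps_braid ho hx hc hv]⟩
  | x :: y :: r, hl =>
    have hx := hl x List.mem_cons_self
    have hy := hl y (by simp)
    have hr : ∀ z ∈ r, z ∈ D := fun z hz => hl z (by simp [hz])
    simp only [List.length_cons] at hk
    by_cases hox : Commute o x
    · exact ⟨false, fun v hv => by
        simp [word, W.eps_perp hx ho hox.symm (eps_mem x _)]⟩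
    by_cases hxy : Commute x y
    · exact ⟨false, fun v hv => by
        simp [word, W.eps_perp hy hx hxy.symm (eps_mem y _)]⟩
    by_cases hoy : Commute o y
    · -- replace the two letters by two single ones
      have hz : y * x * y ∈ D := conj_mem_left W.hyp.closed hy hx
      obtain ⟨b₁, h₁⟩ := ih _ (show r.length + 1 < k by omega) ((y * x * y) :: r) (by simp)
        (by simpa [hz] using hr) o ho
      obtain ⟨b₂, h₂⟩ := ih _ (show r.length + 1 < k by omega) (x :: r) (by simp) (by simpa [hx] using hr) o ho
      refine ⟨xor b₁ b₂, fun v hv => ?_⟩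
      have h1 := h₁ v hv
      have h2 := h₂ v hv
      simp only [word, List.foldr_cons] at h1 h2 ⊢
      generalize List.foldr (fun x w => eps V x w) v r = u at h1 h2 ⊢
      rw [W.eps_conj_braid hy hx (fun k => hxy k.symm), map_add, map_add, map_add,
        W.eps_perp hy ho hoy.symm (eps_mem y u), W.eps_perp hy ho hoy.symm (eps_mem y (ε x u)), h2,
        zero_add, add_zero] at h1
      have : ε o (ε x (ε y u)) = (if b₁ then v else 0) + if b₂ then v else 0 := by
        rw [← h1]
        cases b₂ <;> simp [← add_assoc, W.mod.add_self, add_comm]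
      rw [this]
      cases b₁ <;> cases b₂ <;> simp [W.mod.add_self]
    · -- insert the base member
      obtain ⟨b, hb⟩ := ih _ (show r.length + 1 < k by omega) (y :: r) (by simp) (by simpa [hy] using hr) o ho
      refine ⟨b, fun v hv => ?_⟩
      have h := hb v hv
      simp only [word, List.foldr_cons] at h ⊢
      generalize List.foldr (fun x w => eps V x w) v r = u at h ⊢
      rw [← W.eps_braid hy ho (fun k => hoy k.symm) (eps_mem y u),
        W.corner_line ho hy hx (eps_mem o _) hoy hox (hN o ho y hy x hx hoy hox fun k => hxy k.symm)]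
      exact h

/-- Words after any element. -/
theorem act_value (hN : NoAffine D) (g : G) : ∀ (l : List G), (∀ x ∈ l, x ∈ D) → ∀ o ∈ D,
    ∃ b : Bool, ∀ v ∈ img V o, ε o (word V l (g • v)) = if b then v else 0 := by
  have hg : g ∈ Submonoid.closure D := by
    rw [← Subgroup.closure_toSubmonoid_of_finite, W.hyp.cls.2.2]; exact Subgroup.mem_top g
  have key : ∀ g' : G, g' ∈ Submonoid.closure D → ∀ l : List G, (∀ x ∈ l, x ∈ D) → ∀ o ∈ D,
      ∃ b : Bool, ∀ v ∈ img V o, ε o (word V l (g' • v)) = if b then v else 0 := by
    intro g' hg'
    induction hg' using Submonoid.closure_induction_left with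
    | one => intro l hl o ho; simpa using W.word_value hN l hl o ho
    | mul_left e he g' _ ih =>
      intro l hl o ho
      obtain ⟨b₁, h₁⟩ := ih l hl o ho
      obtain ⟨b₂, h₂⟩ := ih (l ++ [e]) (by simp only [List.mem_append, List.mem_singleton]; rintro x (h | rfl); exacts [hl x h, he]) o ho
      refine ⟨xor b₁ b₂, fun v hv => ?_⟩
      have hadd : ∀ (l : List G) (a b : V), word V l (a + b) = word V l a + word V l b := by
        intro l a b
        induction l with
        | nil => rfl
        | cons z l ihl => simp only [word, List.foldr_cons] at ihl ⊢; rw [ihl, map_add]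
      have e2 : word V (l ++ [e]) (g' • v) = word V l (ε e (g' • v)) := by simp [word]
      rw [mul_smul, W.smul_eq, hadd, map_add, h₁ v hv, ← e2, h₂ v hv]
      cases b₁ <;> cases b₂ <;> simp [W.mod.add_self]
  exact key g hg

/-- Elements central modulo the 2-core act trivially. -/
theorem noAffine_trivial (hN : NoAffine D) {z : G} (hz : Central D z) (u : V) : z • u = u := by
  let S : AddSubgroup V :=
    { carrier := {u | z • u = u}
      zero_mem' := smul_zero z
      add_mem' := fun {a b} ha hb => by show z • (a + b) = a + b; rw [smul_add, ha, hb]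
      neg_mem' := fun {a} ha => by show z • (-a) = -a; rw [smul_neg, ha] }
  have hS := W.span S (fun o ho v hv => ?_)
  · exact (show u ∈ S by rw [hS]; exact AddSubgroup.mem_top u)
  show z • v = v
  obtain ⟨x, hx, hox⟩ := W.hyp.exists_not_commute ho
  obtain ⟨b, hb⟩ := W.act_value hN z [x] (by simp [hx]) o ho
  have hzv : ∀ w ∈ img V o, z • w = if b then w else 0 := fun w hw => by
    rw [← hb w hw]
    conv_lhs => rw [← W.eps_braid ho hx hox hw, W.central_eps hz ho, W.central_eps hz hx]
    simp [word]
  cases b
  · obtain ⟨w, hw, hw0⟩ := W.exists_ne ho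
    exact absurd ((smul_eq_zero_iff_eq z).mp (by simpa using hzv w hw)) hw0
  · simpa using hzv v hv

end Space

end CfsgLib.TwoRadGen
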