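import Mathlib
import Cfsg.Agent.Lib.TwoRadGen.NoAffine

/-!
# Complements: from fixed-point-free elements and from closed sections
-/

set_option autoImplicit false
set_option linter.unusedSectionVars false

namespace CfsgLib.TwoRadGen

open Cfsg CfsgLib.ThreeTrans CfsgLib.TwoRadical

universe u

variable {G : Type u} [Group G] [Finite G] {D : Set G}

/-- A complement to the 2-core. -/
def Split (G : Type u) [Group G] : Prop := ∃ K : Subgroup G, (pCore 2 G).IsComplement' K

theorem split_of_inf_sup {K : Subgroup G} (h1 : ∀ q ∈ pCore 2 G, q ∈ K → q = 1)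
    (h2 : K ⊔ pCore 2 G = ⊤) : Split G := by
  have hQ : (pCore 2 G).Normal := pCore_normal 2 G
  refine ⟨K, Subgroup.isComplement'_of_disjoint_and_mul_eq_univ (Subgroup.disjoint_def.mpr fun {x} hx hk => h1 x hx hk) ?_⟩
  rw [← Subgroup.normal_mul, sup_comm, h2, Subgroup.coe_top]

/-- A normal Sylow-type subgroup without fixed points in the 2-core gives a complement. -/
theorem split_of_frattini {r : ℕ} (hr : r.Prime) (hr2 : r ≠ 2) {N : Subgroup G} (hN : N.Normal)
    (P : Sylow r N) (hcov : N ≤ pCore 2 G ⊔ (P : Subgroup N).map N.subtype)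
    (hfree : ∀ q ∈ pCore 2 G, (∀ x ∈ (P : Subgroup N).map N.subtype, Commute q x) → q = 1) : Split G := by
  have : Fact r.Prime := ⟨hr⟩
  set P' := (P : Subgroup N).map N.subtype with hP'
  have htop : Subgroup.normalizer (P' : Set G) ⊔ N = ⊤ := Sylow.normalizer_sup_eq_top P
  refine split_of_inf_sup (K := Subgroup.normalizer (P' : Set G)) (fun q hq hqK => hfree q hq fun x hx => ?_) ?_
  · have h1 : q * x * q⁻¹ * x⁻¹ ∈ P' :=
      mul_mem ((Subgroup.mem_normalizer_iff.mp hqK x).mp hx) (inv_mem hx)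
    have h2 : q * x * q⁻¹ * x⁻¹ ∈ pCore 2 G := by
      rw [show q * x * q⁻¹ * x⁻¹ = q * (x * q⁻¹ * x⁻¹) by group]
      exact mul_mem hq ((pCore_normal 2 G).conj_mem _ (inv_mem hq) x)
    obtain ⟨k, hk⟩ := (P.2.map N.subtype) ⟨_, h1⟩
    obtain ⟨j, hj⟩ := (haveI : Fact (Nat.Prime 2) := ⟨Nat.prime_two⟩
      CfsgLib.PCore.pCore_isPGroup (G := G) (p := 2)) ⟨_, h2⟩
    have hk' : (q * x * q⁻¹ * x⁻¹) ^ r ^ k = 1 := congrArg Subtype.val hk
    have hj' : (q * x * q⁻¹ * x⁻¹) ^ 2 ^ j = 1 := congrArg Subtype.val hj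
    have hco : Nat.Coprime (r ^ k) (2 ^ j) := ((Nat.coprime_primes hr Nat.prime_two).mpr hr2).pow k j
    have h3 := pow_gcd_eq_one.mpr ⟨hk', hj'⟩
    rw [hco, pow_one, mul_inv_eq_one, mul_inv_eq_iff_eq_mul] at h3
    exact h3
  · refine top_unique (htop ▸ sup_le le_sup_left (hcov.trans (sup_le le_sup_right ?_)))
    exact (Subgroup.le_normalizer).trans le_sup_left

namespace Space

variable {V : Type u} [AddCommGroup V] [DistribMulAction G V] (W : Space D V)
include W

/-- An element of the 2-core commuting with `p` commutes with a member which `p` fixes modulo the 2-core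
without fixed points on its image. -/
theorem commute_at (htriv : ∀ q ∈ pCore 2 G, ∀ v : V, q • v = v) {p d : G} (hd : d ∈ D)
    (hpd : Same (p * d * p⁻¹) d) (hfpf : ∀ u ∈ img V d, p • u = u → u = 0) {q : G} (hq : q ∈ pCore 2 G)
    (hc : Commute q p) : Commute q d := by
  have H := W.hyp
  have hs := H.set
  set a := q * d * q⁻¹ * d with ha
  have haA : a ∈ A D d := H.commutator_mem_A hq hd
  obtain ⟨v, hv, hva⟩ := (W.mem_A d hd a).mp haA
  set d' := p * d * p⁻¹ with hd'
  have hd'D : d' ∈ D := H.closed.conj p d hd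
  have hbA : d' * d ∈ A D d := H.mul_mem_A hd'D hd hpd rfl
  obtain ⟨w, hw, hwb⟩ := (W.mem_A d hd _).mp hbA
  set b := d' * d with hb
  have hqb : q * b * q⁻¹ = b := by rw [← hwb, ← W.ι_smul, htriv q hq]
  have hd'e : d' = b * d := by rw [hb, mul_assoc, mul_self hs hd, mul_one]
  have hqd : q * d * q⁻¹ = a * d := by rw [ha, mul_assoc (q * d * q⁻¹) d d, mul_self hs hd, mul_one]
  have e1 : p * (q * d * q⁻¹ * d) * p⁻¹ = b * (a * d) * (b * d) := by
    rw [show p * (q * d * q⁻¹ * d) * p⁻¹ = (p * q) * d * (p * q)⁻¹ * (p * d * p⁻¹) by group, ← hc.eq,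
      show q * p * d * (q * p)⁻¹ = q * (p * d * p⁻¹) * q⁻¹ by group, ← hd', hd'e,
      show q * (b * d) * q⁻¹ = q * b * q⁻¹ * (q * d * q⁻¹) by group, hqb, hqd]
  have hpa : p * a * p⁻¹ = a := by
    rw [← ha] at e1
    rw [e1]
    calc b * (a * d) * (b * d) = b * a * (d * b) * d := by simp [mul_assoc]
      _ = b * a * (b * d) * d := by rw [(H.A_comm_member hd hd (Commute.refl d) hbA).eq]
      _ = b * a * b := by simp [mul_assoc, mul_self hs hd]
      _ = a := by
        rw [(H.A_comm hd hd (Commute.refl d) hbA haA).eq, mul_assoc, H.A_sq hd hbA, mul_one]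
  have hv0 : v = 0 := hfpf v hv (W.ι_inj (by rw [W.ι_smul, hva, hpa]))
  rw [hv0, W.ι_zero] at hva
  rw [← hva, one_mul, mul_inv_eq_iff_eq_mul] at hqd
  exact hqd

/-- Nothing in the 2-core commutes with a fixed-point-free central element. -/
theorem commute_free (htriv : ∀ q ∈ pCore 2 G, ∀ v : V, q • v = v) {p : G} (hp : Central D p)
    (hfpf : ∀ u : V, p • u = u → u = 0) {q : G} (hq : q ∈ pCore 2 G) (hc : Commute q p) : q = 1 := by
  have h := mem_center_of_commute W.hyp.cls.2.2 (x := q) fun d hd =>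
    W.commute_at htriv hd (hp d hd) (fun u _ => hfpf u) hq hc
  rwa [W.hyp.center, Subgroup.mem_bot] at h

/-- A central element which does not lie in the 2-core and acts without fixed points gives a complement. -/
theorem split_of_central (htriv : ∀ q ∈ pCore 2 G, ∀ v : V, q • v = v)
    (hdich : ∀ z : G, Central D z → (∀ u : V, z • u = u) ∨ ∀ u : V, z • u = u → u = 0)
    {z : G} (hz : Central D z) (hzQ : z ∉ pCore 2 G) : Split G := by
  have H := W.hyp
  have hQn : (pCore 2 G).Normal := pCore_normal 2 G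
  have : Fact (Nat.Prime 2) := ⟨Nat.prime_two⟩
  -- the image is central
  have hcent : ∀ g : G, z * g * z⁻¹ * g⁻¹ ∈ pCore 2 G := by
    intro g
    have hg : g ∈ Subgroup.closure D := by rw [H.cls.2.2]; exact Subgroup.mem_top g
    induction hg using Subgroup.closure_induction with
    | mem d hd => rw [← QuotientGroup.eq_one_iff, QuotientGroup.mk_mul, hz d hd, ← QuotientGroup.mk_mul,
        mul_inv_cancel, QuotientGroup.mk_one]
    | one => simp
    | mul a b _ _ iha ihb =>
      rw [show z * (a * b) * z⁻¹ * (a * b)⁻¹ = z * a * z⁻¹ * a⁻¹ * (a * (z * b * z⁻¹ * b⁻¹) * a⁻¹) by group]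
      exact mul_mem iha (hQn.conj_mem _ ihb a)
    | inv a _ ih =>
      rw [show z * a⁻¹ * z⁻¹ * a⁻¹⁻¹ = a⁻¹ * (z * a * z⁻¹ * a⁻¹)⁻¹ * a⁻¹⁻¹ by group]
      exact hQn.conj_mem _ (inv_mem ih) a⁻¹
  have hpowc : ∀ k : ℕ, Central D (z ^ k) := by
    intro k
    induction k with
    | zero => intro e _; simp [Same]
    | succ k ih =>
      intro e he
      rw [pow_succ', show z * z ^ k * e * (z * z ^ k)⁻¹ = z * (z ^ k * e * (z ^ k)⁻¹) * z⁻¹ by group]
      exact (hz _ (H.closed.conj _ e he)).trans (ih e he)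
  -- a power of odd prime order
  obtain ⟨k, m, hm, hkm⟩ := Nat.exists_eq_two_pow_mul_odd (orderOf_pos z).ne'
  have hm1 : m ≠ 1 := by
    intro h1
    apply hzQ
    refine CfsgLib.PCore.le_pCore (N := pCore 2 G ⊔ Subgroup.zpowers z) ?_ ?_
      (Subgroup.mem_sup_right (Subgroup.mem_zpowers z))
    · refine ⟨fun x hx g => ?_⟩
      rw [Subgroup.mem_sup_of_normal_left] at hx ⊢
      obtain ⟨q, hq, y, hy, rfl⟩ := hx
      obtain ⟨i, rfl⟩ := Subgroup.mem_zpowers_iff.mp hy
      refine ⟨g * q * g⁻¹ * (g * z ^ i * g⁻¹ * (z ^ i)⁻¹), mul_mem (hQn.conj_mem q hq g) ?_, z ^ i,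
        Subgroup.mem_zpowers_iff.mpr ⟨i, rfl⟩, by group⟩
      let Z : Subgroup G := Subgroup.comap (QuotientGroup.mk' (pCore 2 G)) (Subgroup.center _)
      have hzZ : z ∈ Z := Subgroup.mem_center_iff.mpr fun y => by
        obtain ⟨y, rfl⟩ := QuotientGroup.mk_surjective y
        have h := (QuotientGroup.eq_one_iff _).mpr (hcent y)
        rw [QuotientGroup.mk_mul, QuotientGroup.mk_mul, QuotientGroup.mk_mul, QuotientGroup.mk_inv,
          QuotientGroup.mk_inv, mul_inv_eq_one, mul_inv_eq_iff_eq_mul] at h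
        exact h.symm
      have h := Subgroup.mem_center_iff.mp (Z.zpow_mem hzZ i) (QuotientGroup.mk g)
      rw [← QuotientGroup.eq_one_iff, QuotientGroup.mk_mul, QuotientGroup.mk_mul, QuotientGroup.mk_mul,
        QuotientGroup.mk_inv, QuotientGroup.mk_inv]
      rw [QuotientGroup.mk'_apply] at h
      rw [h, mul_inv_cancel_right, mul_inv_cancel]
    · refine IsPGroup.to_sup_of_normal_left (CfsgLib.PCore.pCore_isPGroup (G := G) (p := 2)) ?_
      exact IsPGroup.of_card (n := k) (by rw [Nat.card_zpowers, hkm, h1, mul_one])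
  obtain ⟨r, hr, hrm⟩ := Nat.exists_prime_and_dvd hm1
  have hr2 : r ≠ 2 := fun h => by
    subst h
    rw [Nat.odd_iff] at hm
    omega
  have hrdvd : r ∣ orderOf z := hkm ▸ Dvd.dvd.mul_left hrm _
  set p := z ^ (orderOf z / r) with hp
  have hpord : orderOf p = r := orderOf_pow_orderOf_div (orderOf_pos z).ne' hrdvd
  have hpC : Central D p := hpowc _
  have hpQ : p ∉ pCore 2 G := by
    intro h
    obtain ⟨j, hj⟩ := CfsgLib.PCore.pCore_isPGroup (G := G) (p := 2) ⟨p, h⟩
    have hj' : p ^ 2 ^ j = 1 := congrArg Subtype.val hj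
    have := orderOf_dvd_of_pow_eq_one hj'
    rw [hpord] at this
    exact hr2 ((Nat.prime_dvd_prime_iff_eq hr Nat.prime_two).mp (hr.dvd_of_dvd_pow this))
  have hfpf : ∀ u : V, p • u = u → u = 0 :=
    (hdich p hpC).resolve_left fun h => hpQ (W.mem_core_of_trivial h)
  -- the subgroup it generates with the core
  set N := pCore 2 G ⊔ Subgroup.zpowers p with hNdef
  have hN : N.Normal := ⟨fun x hx g => by
    rw [hNdef, Subgroup.mem_sup_of_normal_left] at hx ⊢
    obtain ⟨q, hq, y, hy, rfl⟩ := hx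
    obtain ⟨i, rfl⟩ := Subgroup.mem_zpowers_iff.mp hy
    refine ⟨g * q * g⁻¹ * (g * p ^ i * g⁻¹ * (p ^ i)⁻¹), mul_mem (hQn.conj_mem q hq g) ?_, p ^ i,
      Subgroup.mem_zpowers_iff.mpr ⟨i, rfl⟩, by group⟩
    have h2 : ∀ j : ℤ, Commute (QuotientGroup.mk g : G ⧸ pCore 2 G) (QuotientGroup.mk z ^ j) := fun j => by
      refine Commute.zpow_right ?_ j
      have h := (QuotientGroup.eq_one_iff _).mpr (hcent g)
      rw [QuotientGroup.mk_mul, QuotientGroup.mk_mul, QuotientGroup.mk_mul, QuotientGroup.mk_inv,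
        QuotientGroup.mk_inv, mul_inv_eq_one, mul_inv_eq_iff_eq_mul] at h
      exact h.symm
    rw [← QuotientGroup.eq_one_iff, QuotientGroup.mk_mul, QuotientGroup.mk_mul, QuotientGroup.mk_mul,
      QuotientGroup.mk_inv, QuotientGroup.mk_inv, hp, ← zpow_natCast, ← zpow_mul, QuotientGroup.mk_zpow,
      (h2 _).eq, mul_inv_cancel_right, mul_inv_cancel]⟩
  have hPN : Subgroup.zpowers p ≤ N := le_sup_right
  have : Fact r.Prime := ⟨hr⟩
  have hPp : IsPGroup r ((Subgroup.zpowers p).subgroupOf N) :=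
    IsPGroup.of_card (n := 1) (by
      rw [Nat.card_congr (Subgroup.subgroupOfEquivOfLe hPN).toEquiv, Nat.card_zpowers, hpord, pow_one])
  obtain ⟨P, hP⟩ := hPp.exists_le_sylow
  have hle : Subgroup.zpowers p ≤ (P : Subgroup N).map N.subtype := by
    rw [← inf_of_le_left hPN, ← Subgroup.subgroupOf_map_subtype]
    exact Subgroup.map_mono hP
  refine split_of_frattini hr hr2 hN P (sup_le le_sup_left (hle.trans le_sup_right)) fun q hq hc => ?_
  exact W.commute_free htriv hpC hfpf hq (hc p (hle (Subgroup.mem_zpowers p)))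

/-- A section closed under conjugation by its members gives a complement. -/
theorem split_of_section (htriv : ∀ q ∈ pCore 2 G, ∀ v : V, q • v = v) (s : Set G) (hs : s ⊆ D)
    (hcov : ∀ d ∈ D, ∃ e ∈ s, Same d e) (huniq : ∀ e ∈ s, ∀ e' ∈ s, Same e e' → e = e')
    (hclosed : ∀ e ∈ s, ∀ f ∈ s, e * f * e ∈ s) : Split G := by
  have H := W.hyp
  refine split_of_inf_sup (K := Subgroup.closure s) (fun q hq hqK => ?_) ?_
  · have hpres : ∀ k ∈ Submonoid.closure s, ∀ f ∈ s, k * f * k⁻¹ ∈ s := by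
      intro k hk
      induction hk using Submonoid.closure_induction with
      | mem e he => intro f hf; rw [ThreeTrans.inv_eq H.set (hs he)]; exact hclosed e he f hf
      | one => simp
      | mul a b _ _ iha ihb =>
        intro f hf
        rw [show a * b * f * (a * b)⁻¹ = a * (b * f * b⁻¹) * a⁻¹ by group]
        exact iha _ (ihb f hf)
    have hq' : q ∈ Submonoid.closure s := by rwa [← Subgroup.closure_toSubmonoid_of_finite]
    have hfix : ∀ f ∈ s, Commute q f := fun f hf =>
      mul_inv_eq_iff_eq_mul.mp (huniq _ (hpres q hq' f hf) f hf (H.same_conj_of_mem hq f))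
    have h := mem_center_of_commute H.cls.2.2 (x := q) (fun d hd => by
      obtain ⟨e, he, hde⟩ := hcov d hd
      obtain ⟨v, hv, hva⟩ := (W.mem_A e (hs he) _).mp (H.mul_mem_A hd (hs he) hde rfl)
      have hc : Commute q (d * e) := by rw [← hva]; exact W.fix_iff.mp (htriv q hq v)
      have := hc.mul_right (hfix e he)
      rwa [mul_assoc, mul_self H.set (hs he), mul_one] at this)
    rwa [H.center, Subgroup.mem_bot] at h
  · refine top_unique (H.cls.2.2 ▸ (Subgroup.closure_le _).2 fun d hd => ?_)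
    obtain ⟨e, he, hde⟩ := hcov d hd
    rw [show d = d * e * e by rw [mul_assoc, mul_self H.set (hs he), mul_one]]
    exact mul_mem (Subgroup.mem_sup_right (H.A_le e (H.mul_mem_A hd (hs he) hde rfl)))
      (Subgroup.mem_sup_left (Subgroup.subset_closure he))

end Space

end CfsgLib.TwoRadGen
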