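import Mathlib
import Cfsg.Agent.Lib.TwoRadGen.Split
import Cfsg.Agent.Lib.ThreeTrans.Classif.DisconnectedCase
import Cfsg.Agent.Lib.ThreeTrans.Classif.Final
import Cfsg.Agent.Lib.ThreeTrans.Primitive

/-!
# The quotient modulo the 2-core and the centre
-/

set_option autoImplicit false
set_option linter.unusedSectionVars false

namespace CfsgLib.TwoRadGen

open Cfsg CfsgLib.ThreeTrans CfsgLib.TwoRadical
open CfsgLib.ThreeTrans.Classif (Good Known Semi)

universe u v

variable {G : Type u} [Group G] [Finite G] {D : Set G}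

/-- A centreless image of the members in which images and commutation are those of the 2-core quotient. -/
structure Img (D : Set G) (X : Type v) [Group X] (E : Set X) where
  η : G →* X
  surj : Function.Surjective η
  image : η '' D = E
  same : ∀ d ∈ D, ∀ e ∈ D, η d = η e → Same d e
  comm : ∀ d ∈ D, ∀ e ∈ D, Commute (η d) (η e) → Commute d e
  ker : ∀ z, η z = 1 → Central D z
  core : ∀ z ∈ pCore 2 G, η z = 1

namespace Img

variable {X : Type v} [Group X] {E : Set X} (I : Img D X E)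
include I

theorem mem {d : G} (hd : d ∈ D) : I.η d ∈ E := (Set.ext_iff.mp I.image _).mp ⟨d, hd, rfl⟩

theorem lift {x : X} (hx : x ∈ E) : ∃ d ∈ D, I.η d = x := by
  exact (Set.ext_iff.mp I.image x).mpr hx

theorem comm_iff {d e : G} (hd : d ∈ D) (he : e ∈ D) : Commute (I.η d) (I.η e) ↔ Commute d e :=
  ⟨I.comm d hd e he, fun h => h.map I.η⟩

theorem eq_of_same {d e : G} (h : Same d e) : I.η d = I.η e := by
  have h1 := I.core _ (QuotientGroup.eq.mp h)
  rwa [map_mul, map_inv, inv_mul_eq_one] at h1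

/-- Affine triangles are seen in the image. -/
theorem noAffine (H : Hyp D) (h : ∀ a ∈ E, ∀ b ∈ E, ∀ c ∈ E,
    ¬ Commute a b → ¬ Commute a c → ¬ Commute b c → Commute c (a * b * a)) : NoAffine D := by
  intro a ha b hb c hc h1 h2 h3
  refine I.comm c hc _ (conj_mem_left H.closed ha hb) ?_
  rw [map_mul, map_mul]
  exact h _ (I.mem ha) _ (I.mem hb) _ (I.mem hc) (fun k => h1 (I.comm a ha b hb k))
    (fun k => h2 (I.comm a ha c hc k)) fun k => h3 (I.comm b hb c hc k)

/-- Change the image group. -/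
noncomputable def trans {Y : Type*} [Group Y] (e : X ≃* Y) : Img D Y (e '' E) where
  η := e.toMonoidHom.comp I.η
  surj := e.surjective.comp I.surj
  image := by rw [MonoidHom.coe_comp, Set.image_comp, I.image]; rfl
  same d hd d' hd' h := I.same d hd d' hd' (e.injective h)
  comm d hd d' hd' h := I.comm d hd d' hd' ((commute_map_iff e.injective).mp h)
  ker z h := I.ker z (e.injective (h.trans (map_one e).symm))
  core z h := by simp [I.core z h]

end Img

namespace Hyp

variable (H : Hyp D)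
include H

theorem exists_mk_ne : ∃ a ∈ imgClass D, ∃ b ∈ imgClass D, a ≠ b :=
  two_imgClass H.cls (exists_not_commute_class H.cls H.two)

/-- Normal nilpotent subgroups modulo the centre of the quotient are trivial. -/
theorem nilpotent_bot (h3 : pCore 3 (G ⧸ pCore 2 G) ≤ Subgroup.center (G ⧸ pCore 2 G))
    (N : Subgroup ((G ⧸ pCore 2 G) ⧸ Subgroup.center (G ⧸ pCore 2 G))) [hN : N.Normal]
    (hn : Group.IsNilpotent N) : N = ⊥ := by
  have : Fact (Nat.Prime 2) := ⟨Nat.prime_two⟩
  have hc := classTwo_of (class_imgClass H.cls H.two) H.exists_mk_ne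
  have hF := hc.fitting_le_center (by rw [CfsgLib.PCore.pCore_quotient_pCore]; exact bot_le) h3
  set π := QuotientGroup.mk' (Subgroup.center (G ⧸ pCore 2 G)) with hπ
  set f : N.comap π →* N := π.subgroupComap N with hf
  have hnil : Group.IsNilpotent (N.comap π) := by
    refine Subgroup.isNilpotent_of_ker_le_center f (fun x hx => ?_)
    have hxc : (x : G ⧸ pCore 2 G) ∈ Subgroup.center (G ⧸ pCore 2 G) :=
      (QuotientGroup.eq_one_iff _).mp (congrArg Subtype.val (MonoidHom.mem_ker.mp hx))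
    exact Subgroup.mem_center_iff.mpr fun y => Subtype.ext (Subgroup.mem_center_iff.mp hxc y)
  have hle : N.comap π ≤ Subgroup.center _ := (CfsgLib.Fitting.le_fitting inferInstance hnil).trans hF
  refine (Subgroup.eq_bot_iff_forall N).mpr fun x hx => ?_
  obtain ⟨y, rfl⟩ := QuotientGroup.mk'_surjective _ x
  exact (QuotientGroup.eq_one_iff y).mpr (hle hx)

/-- The facts about the quotient by the 2-core and the centre. -/
theorem exists_img (h3 : pCore 3 (G ⧸ pCore 2 G) ≤ Subgroup.center (G ⧸ pCore 2 G)) :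
    ∃ (X : Type u) (_ : Group X) (_ : Finite X) (E : Set X),
      Nonempty (Img D X E) ∧ IsThreeTranspositionClass E ∧ Subgroup.center X = ⊥ ∧
        pCore 2 X = ⊥ ∧ pCore 3 X = ⊥ ∧ ∃ a ∈ E, ∃ b ∈ E, a ≠ b := by
  have : Fact (Nat.Prime 2) := ⟨Nat.prime_two⟩
  have : Fact (Nat.Prime 3) := ⟨Nat.prime_three⟩
  set Z := Subgroup.center (G ⧸ pCore 2 G) with hZ
  set η : G →* (G ⧸ pCore 2 G) ⧸ Z := (QuotientGroup.mk' Z).comp (QuotientGroup.mk' (pCore 2 G)) with hη
  have hηs : Function.Surjective η :=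
    (QuotientGroup.mk'_surjective Z).comp (QuotientGroup.mk'_surjective _)
  have hs := H.set
  have hmk : ∀ {x y : G}, η x = η y → ∃ c ∈ Z, (QuotientGroup.mk y : G ⧸ pCore 2 G) = QuotientGroup.mk x * c :=
    fun {x y} h => ⟨_, QuotientGroup.eq.mp h, by simp⟩
  have hcls := class_imgClass H.cls H.two
  have hsame : ∀ d ∈ D, ∀ e ∈ D, η d = η e → Same d e := by
    intro d hd e he h
    obtain ⟨c, hc, ec⟩ := hmk h
    have h1 := mul_self hcls.1 ⟨e, he, rfl⟩
    have hcd : Commute (QuotientGroup.mk d : G ⧸ pCore 2 G) c := Subgroup.mem_center_iff.mp hc _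
    rw [ec, hcd.symm.mul_mul_mul_comm, mul_self hcls.1 ⟨d, hd, rfl⟩, one_mul] at h1
    have hc1 : c = 1 := by
      have hn : (Subgroup.zpowers c).Normal := ⟨fun x hx g => by
        have hxc : x ∈ Z := Subgroup.zpowers_le.mpr hc hx
        rwa [Subgroup.mem_center_iff.mp hxc g, mul_inv_cancel_right]⟩
      have hp : IsPGroup 2 (Subgroup.zpowers c) := by
        rintro ⟨x, hx⟩
        obtain ⟨i, rfl⟩ := Subgroup.mem_zpowers_iff.mp hx
        refine ⟨1, Subtype.ext ?_⟩
        show (c ^ i) ^ (2 ^ 1) = 1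
        rw [pow_one, pow_two, ← (Commute.refl c).mul_zpow, h1, one_zpow]
      have := CfsgLib.PCore.le_pCore hn hp (Subgroup.mem_zpowers c)
      rwa [CfsgLib.PCore.pCore_quotient_pCore, Subgroup.mem_bot] at this
    rw [hc1, mul_one] at ec
    exact ec.symm
  have hcomm : ∀ d ∈ D, ∀ e ∈ D, Commute (η d) (η e) → Commute d e := by
    intro d hd e he h
    have h1 : η (d * e * d⁻¹) = η e := by rw [map_mul, map_mul, map_inv, h.eq, mul_inv_cancel_right]
    have h2 := hsame _ (H.closed.conj d e he) e he h1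
    refine commute_of_mk H.cls hd he ?_
    rw [Same, QuotientGroup.mk_mul, QuotientGroup.mk_mul, QuotientGroup.mk_inv,
      mul_inv_eq_iff_eq_mul] at h2
    exact h2
  have hker : ∀ z, η z = 1 → Central D z := by
    intro z hz e he
    have h : (QuotientGroup.mk z : G ⧸ pCore 2 G) ∈ Z := (QuotientGroup.eq_one_iff _).mp hz
    rw [Same, QuotientGroup.mk_mul, QuotientGroup.mk_mul, QuotientGroup.mk_inv,
      ← Subgroup.mem_center_iff.mp h, mul_inv_cancel_right]
  have I : Img D _ (η '' D) :=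
    ⟨η, hηs, rfl, hsame, hcomm, hker, fun z hz => by
      show QuotientGroup.mk' Z (QuotientGroup.mk z) = 1
      rw [(QuotientGroup.eq_one_iff z).mpr hz, map_one]⟩
  have hclosed : ∀ x : (G ⧸ pCore 2 G) ⧸ Z, ∀ y ∈ η '' D, x * y * x⁻¹ ∈ η '' D := by
    rintro x _ ⟨d, hd, rfl⟩
    obtain ⟨g, rfl⟩ := hηs x
    exact ⟨g * d * g⁻¹, H.closed.conj g d hd, by simp⟩
  obtain ⟨d₀, hd₀, e₀, he₀, hne⟩ := exists_not_commute_class H.cls H.two
  have h2X : ∃ a ∈ η '' D, ∃ b ∈ η '' D, a ≠ b :=
    ⟨_, ⟨d₀, hd₀, rfl⟩, _, ⟨e₀, he₀, rfl⟩, fun h => hne (hcomm _ hd₀ _ he₀ (h ▸ Commute.refl _))⟩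
  have hclsX : IsThreeTranspositionClass (η '' D) := by
    refine ⟨⟨?_, ?_⟩, ?_, ?_⟩
    · rintro _ ⟨d, hd, rfl⟩
      refine orderOf_eq_prime (by rw [← map_pow, pow_two, mul_self hs hd, map_one]) fun h => ?_
      have hc : ∀ e ∈ D, Commute d e := fun e he => hcomm d hd e he (by rw [h]; exact Commute.one_left _)
      have := mem_center_of_commute H.cls.2.2 hc
      rw [H.center, Subgroup.mem_bot] at this
      exact ne_one hs hd this
    · rintro _ ⟨d, hd, rfl⟩ _ ⟨e, he, rfl⟩
      rw [← map_mul, ← map_pow, ← map_pow]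
      rcases hs.2 d hd e he with h | h
      · exact Or.inl (by rw [h, map_one])
      · exact Or.inr (by rw [h, map_one])
    · refine ⟨_, ⟨d₀, hd₀, rfl⟩, Set.ext fun x => ⟨?_, fun hx => ?_⟩⟩
      · rintro ⟨e, he, rfl⟩
        obtain ⟨g, rfl⟩ := class_conj H.cls hd₀ he
        exact isConj_iff.2 ⟨η g, by simp⟩
      · obtain ⟨g, rfl⟩ := isConj_iff.1 (show IsConj _ x from hx)
        exact hclosed g _ ⟨d₀, hd₀, rfl⟩
    · rw [← MonoidHom.map_closure, H.cls.2.2, Subgroup.map_top_of_surjective _ hηs]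
  refine ⟨_, inferInstance, inferInstance, η '' D, ⟨I⟩, hclsX, ?_, ?_, ?_, h2X⟩
  · refine H.nilpotent_bot h3 _ ?_
    exact @CommGroup.isNilpotent _ { (inferInstance : Group (Subgroup.center _)) with
      mul_comm := fun a b => Subtype.ext (Subgroup.mem_center_iff.1 b.2 a.1) }
  · haveI := pCore_normal 2 ((G ⧸ pCore 2 G) ⧸ Z)
    exact H.nilpotent_bot h3 _ CfsgLib.PCore.pCore_isPGroup.isNilpotent
  · haveI := pCore_normal 3 ((G ⧸ pCore 2 G) ⧸ Z)
    exact H.nilpotent_bot h3 _ CfsgLib.PCore.pCore_isPGroup.isNilpotent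

end Hyp

/-- Either the classification applies to the image or the commuting graph is disconnected. -/
theorem known_or_semi {X : Type u} [Group X] [Finite X] {E : Set X} (hE : IsThreeTranspositionClass E)
    (hZ : Subgroup.center X = ⊥) (h2 : pCore 2 X = ⊥) (h3 : pCore 3 X = ⊥) :
    (Known E ∧ IsThreeTranspositionGroup E ∧ IsPrimitiveUnderConj E) ∨
      (¬ (commutingGraph E).Connected ∧ Semi E) := by
  by_cases hconn : (commutingGraph E).Connected
  swap
  · exact Or.inr ⟨hconn, Classif.semi_of_disconnected hE hZ h2 h3 hconn⟩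
  left
  have htwo : ∃ a ∈ E, ∃ b ∈ E, a ≠ b := by
    by_contra h
    push Not at h
    obtain ⟨d, hd, -⟩ := hE.2.1
    have hc := mem_center_of_commute hE.2.2 (x := d) (fun x hx => by rw [h d hd x hx])
    rw [hZ, Subgroup.mem_bot] at hc
    exact ne_one hE.1 hd hc
  have h := classTwo_of hE htwo
  have hpair : ∃ a ∈ E, ∃ b ∈ E, a ≠ b ∧ Commute a b := by
    obtain ⟨a, ha, b, hb, hab⟩ := htwo
    obtain ⟨w⟩ := hconn.preconnected ⟨a, ha⟩ ⟨b, hb⟩
    match w with
    | .nil => exact absurd rfl hab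
    | .cons hadj _ =>
      refine ⟨a, ha, _, Subtype.coe_prop _, fun k => hadj.ne (Subtype.ext k), ?_⟩
      have := hadj
      simp only [commutingGraph, SimpleGraph.fromRel_adj, SimpleGraph.comap_adj] at this
      exact this.2.elim id Commute.symm
  obtain ⟨L, hL⟩ := h.exists_component (h2 ▸ bot_le) (h3 ▸ bot_le)
  have hprim := h.primitive_of_index_le_two (h2 ▸ bot_le) (h3 ▸ bot_le) hL
    (h.index_le_two_of_connected hL hconn)
  exact ⟨Classif.classify_all E ⟨⟨h, hprim, hpair⟩, hZ⟩, ⟨hE.1, h.closed.conj, hE.2.2⟩, hprim⟩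

end CfsgLib.TwoRadGen
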