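import Mathlib
import Cfsg.Agent.Lib.TwoRadGen.Reduce

/-!
# The two outcomes, and complements from central intersections
-/

set_option autoImplicit false
set_option linter.unusedSectionVars false

namespace CfsgLib.TwoRadGen

open Cfsg CfsgLib.ThreeTrans CfsgLib.TwoRadical

universe u

/-- The radical is elementary abelian and has a complement. -/
def Goal (G : Type u) [Group G] : Prop := IsElementaryAbelian 2 (pCore 2 G) ∧ Split G

/-- The quotient is one of the two large unitary exceptions. -/
def ExcUnitary (G : Type u) [Group G] : Prop :=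
  Nonempty (G ⧸ pCore 2 G ≃* ↥(Cfsg.SU 5 GF4 2)) ∨ Nonempty (G ⧸ pCore 2 G ≃* ↥(Cfsg.SU 7 GF4 2))

namespace Space

variable {G : Type u} [Group G] [Finite G] {D : Set G}
variable {V : Type u} [AddCommGroup V] [DistribMulAction G V] (W : Space D V)
include W

/-- Without affine triangles the 2-core acts trivially. -/
theorem noAffine_core (hN : NoAffine D) : ∀ q ∈ pCore 2 G, ∀ v : V, q • v = v := fun _ hq v =>
  W.noAffine_trivial hN (W.hyp.central_of_mem hq) v

/-- A supplement whose intersection with the 2-core it centralises is a complement. -/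
theorem split_of_central_inter (hE : IsElementaryAbelian 2 (pCore 2 G)) {K : Subgroup G}
    (hsup : K ⊔ pCore 2 G = ⊤) (hc : ∀ q ∈ pCore 2 G, q ∈ K → ∀ k ∈ K, Commute q k) : Split G := by
  refine split_of_inf_sup (fun q hq hqK => ?_) hsup
  have h : q ∈ Subgroup.center G := by
    rw [Subgroup.mem_center_iff]
    intro g
    have hg : g ∈ K ⊔ pCore 2 G := by rw [hsup]; exact Subgroup.mem_top g
    obtain ⟨⟨hcomm⟩⟩ := hE.1
    refine (Commute.eq ?_).symm
    refine Subgroup.closure_induction (p := fun x _ => Commute q x) ?_ (Commute.one_right q)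
      (fun _ _ _ _ h1 h2 => h1.mul_right h2) (fun _ _ h => h.inv_right) (Subgroup.sup_eq_closure K _ ▸ hg)
    rintro x (hx | hx)
    · exact hc q hq hqK x hx
    · exact congrArg Subtype.val (hcomm ⟨q, hq⟩ ⟨x, hx⟩)
  rwa [W.hyp.center, Subgroup.mem_bot] at h

end Space

end CfsgLib.TwoRadGen
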