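import Mathlib

/-!
# Roots of `X² + X + 1` in rings of characteristic two
-/

set_option autoImplicit false

namespace CfsgLib.TwoRadGen.PlaneRing

variable {R : Type*} [Ring R]

/-- A root of `X² + X + 1`. -/
def Root (a : R) : Prop := a * a = a + 1

variable (h2 : ∀ a : R, a + a = 0)
include h2

theorem cancel (a b : R) : a + (a + b) = b := by rw [← add_assoc, h2, zero_add]

theorem eq_of_add_eq_zero {a b : R} (h : a + b = 0) : a = b := by
  rw [← add_zero a, ← h2 b, ← add_assoc, h, zero_add]

theorem root_inv {a : R} (ha : Root a) : a * (1 + a) = 1 ∧ (1 + a) * a = 1 ∧ a * (a * a) = 1 := by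
  refine ⟨?_, ?_, ?_⟩
  · rw [mul_add, mul_one, ha, ← add_assoc, h2, zero_add]
  · rw [add_mul, one_mul, ha, ← add_assoc, h2, zero_add]
  · rw [ha, mul_add, mul_one, ha, add_comm a 1, add_assoc, h2, add_zero]

/-- A central commutator with a root is trivial. -/
theorem eq_one_of_conj {a c m m' : R} (ha : Root a) (hca : Root (c * a)) (hc : Commute c a) (hcm : Commute c m)
    (hm : m * m' = 1) (h : m * a = c * a * m) : c = 1 := by
  set e := c + 1 with he
  have hec : Commute e m := hcm.add_left (Commute.one_left m)
  have h1 : e * c = e * a := by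
    have h0 : c * a * (c * a) + (c * a + 1) = 0 := by rw [hca, h2]
    rw [show c * a * (c * a) = c * c * (a * a) by rw [hc.symm.mul_mul_mul_comm], ha] at h0
    have h3 : e * c * a + e * (c + 1) = 0 := by
      rw [← h0, he]
      calc (c + 1) * c * a + (c + 1) * (c + 1) = c * c * a + c * a + (c * c + (c + c) + 1) := by noncomm_ring
        _ = c * c * (a + 1) + (c * a + 1) := by rw [h2]; noncomm_ring
    have h4 := congrArg (fun z => z * a) (eq_of_add_eq_zero h2 h3)
    simp only [mul_assoc] at h4
    rw [ha] at h4
    calc e * c = e * (c * (a + 1)) + e * (c * a) := by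
          calc e * c = e * c + (e * (c * a) + e * (c * a)) := by rw [h2, add_zero]
            _ = _ := by noncomm_ring
      _ = e * ((c + 1) * a) + e * (c * a) := by rw [h4]
      _ = e * a := by
        calc e * ((c + 1) * a) + e * (c * a) = e * a + (e * (c * a) + e * (c * a)) := by noncomm_ring
          _ = e * a := by rw [h2, add_zero]
  have h5 : e * a * m = e * (a * a) * m := by
    calc e * a * m = e * c * m := by rw [h1]
      _ = m * (e * c) := (hec.mul_left hcm).eq
      _ = m * (e * a) := by rw [h1]
      _ = e * (m * a) := by rw [← mul_assoc, hec.eq.symm, mul_assoc]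
      _ = e * c * a * m := by rw [h, mul_assoc, mul_assoc, mul_assoc]
      _ = e * (a * a) * m := by rw [h1, mul_assoc e a a]
  have h6 : e * m = 0 := by
    calc e * m = e * (a * (1 + a)) * m := by rw [(root_inv h2 ha).1, mul_one]
      _ = e * a * m + e * (a * a) * m := by noncomm_ring
      _ = 0 := by rw [h5, h2]
  refine eq_of_add_eq_zero h2 ?_
  rw [← he]
  calc e = e * m * m' := by rw [mul_assoc, hm, mul_one]
    _ = 0 := by rw [h6, zero_mul]

variable {A B C : R}

/-- From one conjugate of `A` commuting with it. -/
theorem conj_rel (hA : Root A) (hC : Root C)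
    (h : Commute (C * A * (C * C)) A) : (C * A + A * C) * (C * A + A * C + C + 1) = 0 := by
  set N := C * A + A * C with hN
  have hCC : C * (C * C) = 1 := (root_inv h2 hC).2.2
  have e1 : C * A * (C * C) = A + N * (C * C) := by
    rw [hN, add_mul (C * A), mul_assoc A C, hCC, mul_one, add_comm, add_assoc, h2, add_zero]
  have hAN : A * N = N * A + N := by
    have e3 : A * N + N * A = N := by
      calc A * N + N * A = A * A * C + C * (A * A) + (A * C * A + A * C * A) := by rw [hN]; noncomm_ring
        _ = A * C + C * A + (C + C) := by rw [h2, add_zero, hA]; noncomm_ring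
        _ = N := by rw [h2, add_zero, hN, add_comm]
    conv_rhs => rw [add_comm]; arg 1; rw [← e3]
    rw [add_assoc, h2, add_zero]
  have h0 : (A + N * (C * C)) * A + A * (A + N * (C * C)) = 0 := by rw [← e1, h.eq, h2]
  calc N * (N + C + 1) = N * ((C * C) * A + A * (C * C) + (C * C)) := by
        congr 1
        rw [hC, hN]
        calc C * A + A * C + C + 1 = C * A + A * C + (C + 1) + (A + A) := by rw [h2, add_zero, add_assoc]
          _ = _ := by noncomm_ring
    _ = N * (C * C) * A + (N * A + N) * (C * C) := by noncomm_ring
    _ = N * (C * C) * A + A * (N * (C * C)) + (A * A + A * A) := by rw [← hAN, h2, add_zero, mul_assoc A]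
    _ = 0 := by rw [← h0]; noncomm_ring

/-- The conjugating roots commute with `A`. -/
theorem commute_of_two (hA : Root A) (hB : Root B) (hC : Root C) (hBA : Commute B A)
    (hr : Root (C * A + B * (A * A))) (h1 : Commute (C * A * (C * C)) A)
    (h3 : Commute ((C * A + B * (A * A)) * A * ((C * A + B * (A * A)) * (C * A + B * (A * A)))) A) :
    Commute C A := by
  have e1 := conj_rel h2 hA hC h1
  have e2 := conj_rel h2 hA hr h3
  set N := C * A + A * C with hN
  set S := B * (A * A) with hS
  have hSA : Commute S A := hBA.mul_left ((Commute.refl A).mul_left (Commute.refl A))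
  obtain ⟨hA1, hA2, hA3⟩ := root_inv h2 hA
  have hNr : (C * A + S) * A + A * (C * A + S) = N * A := by
    calc (C * A + S) * A + A * (C * A + S) = N * A + (S * A + A * S) := by rw [hN]; noncomm_ring
      _ = N * A := by rw [hSA.eq, h2, add_zero]
  rw [hNr] at e2
  have hAN : A * N = N * A + N := by
    have e3 : A * N + N * A = N := by
      calc A * N + N * A = A * A * C + C * (A * A) + (A * C * A + A * C * A) := by rw [hN]; noncomm_ring
        _ = A * C + C * A + (C + C) := by rw [h2, add_zero, hA]; noncomm_ring
        _ = N := by rw [h2, add_zero, hN, add_comm]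
    conv_rhs => rw [add_comm]; arg 1; rw [← e3]
    rw [add_assoc, h2, add_zero]
  have hAC : A * C = C * A + N := by rw [hN]; exact (cancel h2 _ _).symm
  have hNC : N * C = N * N + N := by
    refine eq_of_add_eq_zero h2 ?_
    rw [← e1]; noncomm_ring
  have e4 : N + N * A * S = 0 := by
    have p1 : N * A * N * A = N * N * A * A + N * N * A := by
      rw [mul_assoc N A N, hAN]; noncomm_ring
    have p2 : N * A * C * A = N * N * A * A + N * A * A + N * N * A := by
      rw [mul_assoc N A C, hAC]
      calc N * (C * A + N) * A = N * C * A * A + N * N * A := by noncomm_ring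
        _ = _ := by rw [hNC]; noncomm_ring
    have hAA : A * A + A = 1 := by rw [hA, add_comm A 1, add_assoc, h2, add_zero]
    calc N + N * A * S = N * (A * A + A) + N * A * S +
          ((N * N * A * A + N * N * A * A) + (N * N * A + N * N * A)) := by
            rw [hAA, h2, h2, add_zero, add_zero, mul_one]
      _ = N * A * N * A + N * A * C * A + N * A * S + N * A := by rw [p1, p2]; noncomm_ring
      _ = N * A * (N * A + (C * A + S) + 1) := by noncomm_ring
      _ = 0 := e2
  have hAS : A * S = B := by
    rw [hS, ← mul_assoc, ← hBA.eq, mul_assoc, hA3, mul_one]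
  have e5 : N * (1 + B) = 0 := by rw [← hAS, mul_add, mul_one, ← mul_assoc]; exact e4
  have hN0 : N = 0 := by
    calc N = N * ((1 + B) * B) := by rw [(root_inv h2 hB).2.1, mul_one]
      _ = 0 := by rw [← mul_assoc, e5, zero_mul]
  exact eq_of_add_eq_zero h2 hN0

/-- No three such roots. -/
theorem false_of_three (hA : Root A) (hBA : Commute B A) (hCA : Commute C A) (hB : Root B) (hC : Root C)
    (hr : Root (C * A + B * (A * A))) (hr' : Root (C * (A * A) + A * A + B * A)) : (1 : R) = 0 := by
  set r := C * A + B * (A * A) with hrdef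
  set D := B + A * A with hD
  have e3 : C * (A * A) + A * A + B * A = r + C + D := by
    rw [hrdef, hD, hA]
    calc C * (A + 1) + (A + 1) + B * A = C * A + C + (A + 1) + B * A + (B + B) := by rw [h2, add_zero]; noncomm_ring
      _ = _ := by noncomm_ring
  rw [e3] at hr'
  have hDD : D * D = D := by
    have hBA2 : Commute B (A * A) := hBA.mul_right hBA
    calc D * D = B * B + (B * (A * A) + A * A * B) + A * A * (A * A) := by rw [hD]; noncomm_ring
      _ = (B + 1) + A := by
        rw [hBA2.eq, h2, add_zero, hB, show A * A * (A * A) = A * (A * (A * A)) by noncomm_ring,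
          (root_inv h2 hA).2.2, mul_one]
      _ = D := by rw [hD, hA]; abel
  have e4 : (r * C + C * r) + (r * D + D * r) + (C * D + D * C) = 1 := by
    have h0 : (r + C + D) * (r + C + D) + (r + C + D + 1) = 0 := by rw [hr', h2]
    have h5 : (r + C + D) * (r + C + D) + (r + C + D + 1) =
        (r * C + C * r) + (r * D + D * r) + (C * D + D * C) + 1 + ((r * r + (r + 1)) + (C * C + (C + 1))
          + (D * D + D) + (1 + 1)) := by
      calc _ = (r + C + D) * (r + C + D) + (r + C + D + 1) + (1 + 1) + (1 + 1) := by rw [h2, add_zero, add_zero]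
        _ = _ := by noncomm_ring
    rw [h5, hr, hC, hDD, h2, h2, h2, h2] at h0
    simp only [add_zero, h2] at h0
    exact eq_of_add_eq_zero h2 h0
  have cA : ∀ {z : R}, Commute z A → Commute z (A * A) := fun h => h.mul_right h
  rw [← e4, hrdef, hD]
  calc (C * A + B * (A * A)) * C + C * (C * A + B * (A * A))
      + ((C * A + B * (A * A)) * (B + A * A) + (B + A * A) * (C * A + B * (A * A)))
      + (C * (B + A * A) + (B + A * A) * C) =
      (B * C + C * B) * (A * A + A + 1) + ((C * C * A + C * C * A) + (B * B * (A * A) + B * B * (A * A))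
        + (C * A * (A * A) + C * A * (A * A)) + (B * (A * A) * (A * A) + B * (A * A) * (A * A))
        + (C * (A * A) + C * (A * A))) := by
        have r1 : C * A * C = C * C * A := by rw [mul_assoc, ← hCA.eq, ← mul_assoc]
        have r2 : B * (A * A) * C = B * C * (A * A) := by rw [mul_assoc, ← (cA hCA).eq, ← mul_assoc]
        have r3 : C * A * B = C * B * A := by rw [mul_assoc, ← hBA.eq, ← mul_assoc]
        have r4 : B * (A * A) * B = B * B * (A * A) := by rw [mul_assoc, ← (cA hBA).eq, ← mul_assoc]
        have r5 : A * A * (C * A) = C * A * (A * A) := ((cA hCA).mul_left (cA (Commute.refl A))).eq.symm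
        have r6 : A * A * (B * (A * A)) = B * (A * A) * (A * A) :=
          ((cA hBA).mul_left (cA ((Commute.refl A).mul_left (Commute.refl A)))).eq.symm
        have r7 : A * A * C = C * (A * A) := (cA hCA).eq.symm
        simp only [add_mul, mul_add, r1, r2, r3, r4, r5, r6, r7]
        noncomm_ring
    _ = 0 := by
        rw [show A * A + A + 1 = (0 : R) by rw [add_assoc, ← hA, h2]]
        simp only [h2, mul_zero, add_zero]

end CfsgLib.TwoRadGen.PlaneRing
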