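import Mathlib
import Cfsg.Agent.Lib.TwoRadGen.NoAffine
import Cfsg.Agent.Lib.TwoRadGen.PlaneRing
import Cfsg.Agent.Lib.TwoRadical.Identities

/-!
# The maps of an affine corner on one image
-/

set_option autoImplicit false
set_option linter.unusedSectionVars false

namespace CfsgLib.TwoRadGen

open Cfsg CfsgLib.ThreeTrans CfsgLib.TwoRadical
open CfsgLib.TwoRadicalSU (Vec hf tv)
open PlaneRing (Root)

universe u

/-- The map `εo εx εy` on the image of `o`. -/
def th {G : Type*} [Group G] (V : Type*) [AddCommGroup V] [DistribMulAction G V] (o x y : G) :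
    AddMonoid.End (img V o) :=
  ((eps V o).comp ((eps V x).comp ((eps V y).comp (img V o).subtype))).codRestrict (img V o) fun _ => eps_mem o _

theorem coe_th {G : Type*} [Group G] {V : Type*} [AddCommGroup V] [DistribMulAction G V] (o x y : G)
    (v : img V o) : (th V o x y v : V) = eps V o (eps V x (eps V y v)) := rfl

/-- `g` acts on the image of `o` as `M`. -/
def ActsOn {G : Type*} [Group G] {V : Type*} [AddCommGroup V] [DistribMulAction G V] {o : G} (g : G)
    (M : AddMonoid.End (img V o)) : Prop :=
  ∀ v : img V o, g • (v : V) = (M v : V)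

theorem ActsOn.mul {G : Type*} [Group G] {V : Type*} [AddCommGroup V] [DistribMulAction G V] {o : G} {g g' : G}
    {M M' : AddMonoid.End (img V o)} (h : ActsOn g M) (h' : ActsOn g' M') : ActsOn (g * g') (M * M') :=
  fun v => by rw [mul_smul, h' v, h (M' v)]; rfl

theorem ActsOn.inv {G : Type*} [Group G] {V : Type*} [AddCommGroup V] [DistribMulAction G V] {o : G} {g : G}
    {M M' : AddMonoid.End (img V o)} (h : ActsOn g M) (e : M * M' = 1) : ActsOn g⁻¹ M' :=
  fun v => by
    rw [inv_smul_eq_iff, h (M' v)]
    exact congrArg Subtype.val (DFunLike.congr_fun e v).symm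

theorem ActsOn.unique {G : Type*} [Group G] {V : Type*} [AddCommGroup V] [DistribMulAction G V] {o : G} {g : G}
    {M M' : AddMonoid.End (img V o)} (h : ActsOn g M) (h' : ActsOn g M') : M = M' :=
  AddMonoidHom.ext fun v => Subtype.ext ((h v).symm.trans (h' v))

variable {G : Type u} [Group G] [Finite G] {D : Set G}

/-- Three isotropic vectors with the pattern of an affine triangle. -/
def triPat : Pattern 3 3 where
  p := ![![1, 1, 0], ![0, 1, 1], ![1, 0, GF4.w]]
  par := id
  three := le_rfl
  iso := by decide +kernel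
  tri := by decide +kernel
  tree := fun i hi => absurd i.2 (by omega)
  other := fun i j hi => absurd i.2 (by omega)

theorem triPat_zel : (fun x => [(0 : Fin 3), 1, 0, 2, 1, 0, 2, 0].foldr (fun i y => tv (triPat.p i) y) x)
      (triPat.p 0) = GF4.w • triPat.p 0 ∨
    (fun x => [(0 : Fin 3), 1, 0, 2, 1, 0, 2, 0].foldr (fun i y => tv (triPat.p i) y) x)
      (triPat.p 0) = GF4.w ^ 2 • triPat.p 0 := by
  decide +kernel

theorem triPat_indep : ∀ f : Fin 3 → GF4, ∑ i, f i • triPat.p i = 0 → f = 0 := by decide +kernel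

namespace Aff

variable {o x y : G}

theorem symm (hs : IsThreeTranspositionSet D) (h : Aff D o x y) : Aff D o y x := by
  refine ⟨h.mo, h.my, h.mx, h.oy, h.ox, fun k => h.xy k.symm, fun k => h.off ?_⟩
  have h1 := (Commute.conj_iff o).mpr k
  rw [ThreeTrans.inv_eq hs h.mo] at h1
  simp only [mul_assoc, mul_self hs h.mo, mul_one, mul_self_mul hs h.mo] at h1
  simpa [mul_assoc] using h1.symm

theorem braids (hD : ConjClosed D) (h : Aff D o x y) : Tri o y x :=
  have hs := hD.set
  ⟨mul_self hs h.mo, mul_self hs h.my, mul_self hs h.mx, braid hs h.mo h.my h.oy, braid hs h.mo h.mx h.ox,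
    braid hs h.my h.mx fun k => h.xy k.symm, braid hs h.my (conj_mem_left hD h.mo h.mx) h.off⟩

end Aff

namespace Space

variable {V : Type u} [AddCommGroup V] [DistribMulAction G V] (W : Space D V) {o o1 x y : G}
include W

theorem end_add_self (o : G) : ∀ a : AddMonoid.End (img V o), a + a = 0 := fun _ =>
  AddMonoidHom.ext fun _ => Subtype.ext (W.mod.add_self _)

theorem end_one_ne (ho : o ∈ D) : (1 : AddMonoid.End (img V o)) ≠ 0 := fun h => by
  obtain ⟨v, hv, hv0⟩ := W.exists_ne ho
  have h' : (⟨v, hv⟩ : img V o) = 0 := DFunLike.congr_fun h _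
  exact hv0 (congrArg Subtype.val h')

theorem th_sm (o x y : G) (v : img V o) : (th V o x y v : V) = sm V o x y GF4.w v := by
  rw [coe_th, W.sm_w]

theorem th_root (h : Aff D o x y) : Root (th V o x y) :=
  AddMonoidHom.ext fun v => Subtype.ext (by
    show (th V o x y (th V o x y v) : V) = th V o x y v + v
    rw [W.th_sm, W.th_sm, W.sm_mul h _ _ v.2, show GF4.w * GF4.w = GF4.w + 1 by decide +kernel, W.sm_add,
      W.sm_one])

theorem th_swap (h : Aff D o x y) : th V o y x = 1 + th V o x y :=
  AddMonoidHom.ext fun v => Subtype.ext (by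
    show (th V o y x v : V) = v + th V o x y v
    rw [coe_th, coe_th]
    have hsum := W.corner_sum h.mo h.mx h.my v.2 h.ox h.oy h.xy h.off
    refine W.mod.eq_of_add ?_
    generalize eps V o (eps V x (eps V y (v : V))) = p at hsum ⊢
    generalize eps V o (eps V y (eps V x (v : V))) = q at hsum ⊢
    rw [← hsum]
    calc q + (p + q + p) = (q + q) + (p + p) := by abel
      _ = 0 := by rw [W.mod.add_self, W.mod.add_self, add_zero])

theorem th_perp (hx : x ∈ D) (hy : y ∈ D) (h : Commute x y) : th V o y x = 0 :=
  AddMonoidHom.ext fun v => Subtype.ext (by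
    show eps V o (eps V y (eps V x v)) = 0
    rw [W.eps_perp hx hy h (eps_mem x _), map_zero])

theorem th_line (ho : o ∈ D) (hx : x ∈ D) (hy : y ∈ D) (hox : ¬ Commute o x) (hoy : ¬ Commute o y)
    (h : Commute y (o * x * o)) : th V o y x = 1 :=
  AddMonoidHom.ext fun v => Subtype.ext (W.corner_line ho hx hy v.2 hox hoy h)

theorem th_mirror (ho : o ∈ D) (hx : x ∈ D) (hy : y ∈ D) (hox : ¬ Commute o x) (hoy : ¬ Commute o y) :
    th V o y (o * x * o) = th V o y x + 1 :=
  AddMonoidHom.ext fun v => Subtype.ext (by
    show eps V o (eps V y (eps V (o * x * o) v)) = eps V o (eps V y (eps V x v)) + v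
    rw [W.eps_conj_braid ho hx hox, W.eps_img_self ho v.2, map_zero, zero_add, add_zero, map_add, map_add,
      W.eps_braid ho hx hox v.2, W.eps_braid ho hy hoy v.2])

/-- Through `o1 * x * o1`. -/
theorem th_side (h : Aff D o o1 x) (y : G) :
    th V o y (o1 * x * o1) =
      th V o y x * th V o o1 x + th V o y o1 * (th V o o1 x * th V o o1 x) := by
  have h2 := W.end_add_self o
  have hA := W.th_root h
  have hA' := W.th_swap h
  have key : th V o y (o1 * x * o1) = th V o y o1 + th V o y x + th V o y o1 * th V o o1 x +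
      th V o y x * th V o x o1 := by
    refine AddMonoidHom.ext fun v => Subtype.ext ?_
    show eps V o (eps V y (eps V (o1 * x * o1) v)) = eps V o (eps V y (eps V o1 v)) +
      eps V o (eps V y (eps V x v)) + eps V o (eps V y (eps V o1 (eps V o (eps V o1 (eps V x v))))) +
      eps V o (eps V y (eps V x (eps V o (eps V x (eps V o1 v)))))
    rw [W.eps_conj_braid h.mx h.my h.xy, W.eps_braid h.mx h.mo (fun k => h.ox k.symm) (eps_mem o1 _),
      W.eps_braid h.my h.mo (fun k => h.oy k.symm) (eps_mem x _), map_add, map_add, map_add, map_add, map_add,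
      map_add]
  rw [key, hA', hA]
  simp only [mul_add, mul_one]
  rw [show th V o y o1 + th V o y x + th V o y o1 * th V o o1 x + (th V o y x + th V o y x * th V o o1 x) =
    th V o y x * th V o o1 x + (th V o y o1 * th V o o1 x + th V o y o1) + (th V o y x + th V o y x) by abel,
    h2, add_zero]

/-- Through the conjugate of `o * x * o` by `o1`. -/
theorem th_far (h : Aff D o o1 x) (hy : y ∈ D) (hoy : ¬ Commute o y) :
    th V o y (o1 * (o * x * o) * o1) =
      th V o y x * (th V o o1 x * th V o o1 x) + th V o o1 x * th V o o1 x + th V o y o1 * th V o o1 x := by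
  have h2 := W.end_add_self o
  have hA := W.th_root h
  have hA' := W.th_swap h
  have hz : o * x * o ∈ D := conj_mem_left W.hyp.closed h.mo h.my
  have h1z : ¬ Commute o1 (o * x * o) := (h.symm W.hyp.set).off
  have e1 : ∀ v : img V o, eps V (o * x * o) (v : V) = eps V x v + v := fun v => by
    rw [W.eps_conj_braid h.mo h.my h.oy, W.eps_img_self h.mo v.2, map_zero, zero_add, add_zero,
      W.eps_braid h.mo h.my h.oy v.2]
  have e2 : ∀ u : V, u ∈ img V o1 → eps V (o * x * o) u =
      eps V o u + eps V x u + eps V o (eps V x u) + eps V x (eps V o u) := fun u _ =>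
    W.eps_conj_braid h.mo h.my h.oy u
  have key : th V o y (o1 * (o * x * o) * o1) = th V o y o1 + (th V o y x + 1) +
      (th V o y o1 * th V o o1 x + th V o y o1) +
      (1 + th V o y x * th V o x o1 + th V o x o1 + th V o y x) := by
    refine AddMonoidHom.ext fun v => Subtype.ext ?_
    show eps V o (eps V y (eps V (o1 * (o * x * o) * o1) v)) = eps V o (eps V y (eps V o1 v)) +
      (eps V o (eps V y (eps V x v)) + v) +
      (eps V o (eps V y (eps V o1 (eps V o (eps V o1 (eps V x v))))) + eps V o (eps V y (eps V o1 v))) +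
      (v + eps V o (eps V y (eps V x (eps V o (eps V x (eps V o1 v))))) + eps V o (eps V x (eps V o1 v)) +
        eps V o (eps V y (eps V x v)))
    rw [W.eps_conj_braid h.mx hz h1z, e1, e2 _ (eps_mem o1 _),
      W.eps_braid h.mx h.mo (fun k => h.ox k.symm) (eps_mem o1 _),
      W.eps_braid h.my h.mo (fun k => h.oy k.symm) (eps_mem x _),
      W.eps_braid h.mo h.mx h.ox v.2]
    simp only [map_add]
    rw [W.eps_braid h.mo hy hoy v.2, W.eps_braid h.mo hy hoy (eps_mem o _)]
  rw [key, hA', hA]
  simp only [mul_add, mul_one]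
  set A := th V o o1 x
  set B := th V o y o1
  set C := th V o y x
  calc B + (C + 1) + (B * A + B) + (1 + (C + C * A) + (1 + A) + C)
      = C * A + C + (A + 1) + B * A + ((B + B) + (C + C) + (1 + 1)) := by abel
    _ = _ := by simp only [h2, add_zero]

/-- An element of the centraliser of `o` acting as the corner map, with explicit form. -/
theorem zel_acts (h : Aff D o x y) :
    ActsOn (zel o x y) (th V o x y) ∨ ActsOn (zel o x y) (th V o x y * th V o x y) := by
  classical
  have hD := W.hyp.closed
  let F : Framed D V 3 3 :=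
    { W := W, P := triPat, d := ![o, x, y]
      real := ⟨fun i => by fin_cases i <;> simp [h.mo, h.mx, h.my], fun i j => by
          have h1 : ¬ Commute x o := fun k => h.ox k.symm
          have h2 : ¬ Commute y o := fun k => h.oy k.symm
          have h3 : ¬ Commute y x := fun k => h.xy k.symm
          rw [(show ∀ i j : Fin 3, hf (triPat.p i) (triPat.p j) = 0 ↔ i = j by decide +kernel) i j]
          fin_cases i <;> fin_cases j <;> simp [h.ox, h.oy, h.xy, h1, h2, h3, Commute.refl],
        h.off⟩ }
  have hzel : zel o x y = (([0, 1, 0, 2, 1, 0, 2, 0] : List (Fin 3)).map F.d).prod := by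
    simp [F, zel, mul_assoc]
  obtain ⟨f, hf, hg⟩ := F.acts_list [0, 1, 0, 2, 1, 0, 2, 0] (Pi.single 0 1)
  have hp : ∑ j, (Pi.single (0 : Fin 3) (1 : GF4) : Fin 3 → GF4) j • triPat.p j = triPat.p 0 := by
    decide +kernel
  have key : ∀ ζ : GF4, (fun x => [(0 : Fin 3), 1, 0, 2, 1, 0, 2, 0].foldr (fun i y => tv (triPat.p i) y) x)
      (triPat.p 0) = ζ • triPat.p 0 → ∀ v : img V o, zel o x y • (v : V) = sm V o x y ζ v := by
    intro ζ hζ v
    have e : f = Pi.single 0 ζ := by
      have h0 := triPat_indep (f + Pi.single 0 ζ) (by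
        simp only [Pi.add_apply, add_smul, Finset.sum_add_distrib]
        rw [show F.P = triPat from rfl, hp, hζ] at hf
        rw [hf, Finset.sum_eq_single 0, Pi.single_eq_same]
        · exact TwoRadicalSU.vadd_self _
        · intro j _ hj; rw [Pi.single_eq_of_ne hj, zero_smul]
        · simp)
      funext i
      have := congrFun h0 i
      rw [Pi.add_apply, Pi.zero_apply] at this
      exact eq_of_sub_eq_zero (by rw [TwoRadicalSU.K.sub_eq_add']; exact this)
    have hgv := hg (v : V) v.2
    rw [e, F.comb_single, F.comb_single, show (0 : Fin 3) = F.P.o from rfl, F.φ_root] at hgv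
    rw [hzel]
    simpa [Framed.sc, W.sm_one, Pattern.o, Pattern.e₁, Pattern.e₂, F] using hgv
  rcases triPat_zel with e | e
  · exact Or.inl fun v => (key _ e v).trans (W.th_sm o x y v).symm
  · refine Or.inr fun v => (key _ e v).trans ?_
    show sm V o x y (GF4.w ^ 2) v = (th V o x y (th V o x y v) : V)
    rw [W.th_sm, W.th_sm, W.sm_mul h _ _ v.2, pow_two]

end Space

end CfsgLib.TwoRadGen
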