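import Mathlib
import Cfsg.Agent.Lib.TwoRadGen.PlaneAlg

/-!
# Corner values over a normal subgroup of the quotient's 3-core
-/

set_option autoImplicit false
set_option linter.unusedSectionVars false

namespace CfsgLib.TwoRadGen

open Cfsg CfsgLib.ThreeTrans CfsgLib.TwoRadical
open PlaneRing (Root)

universe u

variable {G : Type u} [Group G] [Finite G] {D : Set G}

/-- A normal subgroup over a 3-subgroup whose commutators are central and which moves every member. -/
structure Twins (D : Set G) (N : Subgroup G) : Prop where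
  normal : N.Normal
  core : pCore 2 G ≤ N
  three : ∀ n ∈ N, ∃ k : ℕ, n ^ 3 ^ k ∈ pCore 2 G
  twin : ∀ d ∈ D, ∀ e ∈ D, d * e ∈ N → ∀ y ∈ D, ¬ Same y d → ¬ Same y e → (Commute y d ↔ Commute y e)
  derived : ∀ m ∈ N, ∀ n ∈ N, Central D (m * n * m⁻¹ * n⁻¹)
  moves : ∀ d ∈ D, ∃ e ∈ D, ¬ Same e d ∧ d * e ∈ N

namespace Twins

variable {N : Subgroup G} (T : Twins D N)
include T

theorem mk_eq (hs : IsThreeTranspositionSet D) {d e : G} (hd : d ∈ D) :
    d * e ∈ N ↔ (QuotientGroup.mk d : G ⧸ N) = QuotientGroup.mk e := by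
  rw [QuotientGroup.eq, ThreeTrans.inv_eq hs hd]

end Twins

/-- The corner values: multiples of the base corner. -/
def InF {V : Type u} [AddCommGroup V] [DistribMulAction G V] (o o1 x : G) (M : AddMonoid.End (img V o)) : Prop :=
  ∃ c : GF4, ∀ v : img V o, (M v : V) = sm V o o1 x c v

namespace Space

variable {V : Type u} [AddCommGroup V] [DistribMulAction G V] (W : Space D V) {o o1 x y : G}
include W

theorem central_smul {z : G} (hz : Central D z) (g : G) (v : V) : z • (g • v) = g • (z • v) := by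
  have hg : g ∈ Submonoid.closure D := by
    rw [← Subgroup.closure_toSubmonoid_of_finite, W.hyp.cls.2.2]; exact Subgroup.mem_top g
  induction hg using Submonoid.closure_induction generalizing v with
  | mem d hd => rw [W.smul_eq d v, smul_add, W.central_eps hz hd, ← W.smul_eq]
  | one => simp
  | mul a b _ _ iha ihb => rw [mul_smul, mul_smul, iha, ihb]

theorem exists_actsOn {g : G} (hg : Commute g o) :
    ∃ M : AddMonoid.End (img V o), ActsOn g M := by
  have hmem : ∀ v : img V o, g • (v : V) ∈ img V o := fun v => by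
    obtain ⟨u, hu⟩ := mem_img.mp v.2
    rw [← hu, ← eps_apply, W.eps_smul, show g * o * g⁻¹ = o by rw [hg.eq, mul_inv_cancel_right]]
    exact eps_mem o _
  exact ⟨((DistribSMul.toAddMonoidHom V g).comp (img V o).subtype).codRestrict (img V o) hmem, fun _ => rfl⟩

theorem actsOn_one : ActsOn (1 : G) (1 : AddMonoid.End (img V o)) := fun _ => one_smul G _

theorem inF_zero : InF (G := G) (V := V) o o1 x 0 := ⟨0, fun _ => (W.sm_zero o o1 x _).symm⟩

theorem inF_one : InF (G := G) (V := V) o o1 x 1 := ⟨1, fun _ => (W.sm_one o o1 x _).symm⟩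

theorem inF_base : InF o o1 x (th V o o1 x) := ⟨GF4.w, fun v => W.th_sm o o1 x v⟩

theorem inF_add {M M' : AddMonoid.End (img V o)} (h : InF o o1 x M) (h' : InF o o1 x M') :
    InF o o1 x (M + M') := by
  obtain ⟨c, hc⟩ := h
  obtain ⟨c', hc'⟩ := h'
  exact ⟨c + c', fun v => by rw [W.sm_add, ← hc, ← hc']; rfl⟩

section plane

variable {N : Subgroup G} (T : Twins D N) (h : Aff D o o1 x) (ht : o * o1 ∈ N)
include T h ht

theorem zel_mem (y : G) (hy : y ∈ D) : zel o o1 y ∈ N := by
  have hs := W.hyp.set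
  have h1 : o1 * o ∈ N := by
    have := inv_mem ht
    rwa [mul_inv_rev, ThreeTrans.inv_eq hs h.mo, ThreeTrans.inv_eq hs h.mx] at this
  have h2 := T.normal.conj_mem _ h1 (o * y)
  rw [mul_inv_rev, ThreeTrans.inv_eq hs h.mo, ThreeTrans.inv_eq hs hy] at h2
  rw [zel, show o * o1 * (o * y) * (o1 * o) * (y * o) = o * o1 * (o * y * (o1 * o) * (y * o)) by group]
  exact mul_mem ht h2

theorem zel_commute {y : G} (hy : Aff D o o1 y) : Commute (zel o o1 y) o :=
  ((hy.symm W.hyp.set).braids W.hyp.closed).commute_a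

/-- The elements of the subgroup which fix `o` commute with the base corner. -/
theorem comm_stab {n : G} (hn : n ∈ N) (hno : Commute n o) {M : AddMonoid.End (img V o)} (hM : ActsOn n M) :
    Commute M (th V o o1 x) := by
  have h2 := W.end_add_self o
  set A := th V o o1 x with hAdef
  have hA : Root A := W.th_root h
  have hz0N := W.zel_mem T h ht x h.my
  have hz0o := W.zel_commute T h ht h
  suffices key : ∀ a : AddMonoid.End (img V o), Root a → ActsOn (zel o o1 x) a → Commute M a by
    have hAA : Root (A * A) := by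
      show A * A * (A * A) = A * A + 1
      rw [hA, mul_add, mul_one, add_mul, one_mul, hA, ← add_assoc, add_assoc (A + 1), h2, add_zero]
    rcases W.zel_acts h with e | e
    · exact key _ hA e
    · have k := (key _ hAA e).mul_right (key _ hAA e)
      rwa [show A * A * (A * A) = A by
        rw [show A * A * (A * A) = A * (A * A) * A by simp only [mul_assoc],
          (PlaneRing.root_inv h2 hA).2.2, one_mul]] at k
  intro a ha hza
  obtain ⟨M', hM'⟩ := W.exists_actsOn hno.inv_left
  have hMM : M * M' = 1 :=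
    ActsOn.unique (hM.mul hM') (by rw [mul_inv_cancel]; exact W.actsOn_one)
  have hMM' : M' * M = 1 :=
    ActsOn.unique (hM'.mul hM) (by rw [inv_mul_cancel]; exact W.actsOn_one)
  set z := zel o o1 x
  set c := n * z * n⁻¹ * z⁻¹ with hc
  have hco : Commute c o := ((hno.mul_left hz0o).mul_left hno.inv_left).mul_left hz0o.inv_left
  have hcC : Central D c := T.derived n hn z hz0N
  obtain ⟨C0, hC0⟩ := W.exists_actsOn hco
  have hcomm : ∀ {g : G} {L : AddMonoid.End (img V o)}, ActsOn g L → Commute C0 L := fun {g L} hL =>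
    AddMonoidHom.ext fun v => Subtype.ext (by
      show (C0 (L v) : V) = L (C0 v)
      rw [← hC0, ← hL, ← hL, ← hC0, W.central_smul hcC])
  have heq : M * a = C0 * a * M :=
    ActsOn.unique (hM.mul hza) (by
      rw [show n * z = c * z * n by rw [hc]; group]
      exact (hC0.mul hza).mul hM)
  have hca : Root (C0 * a) := by
    have e : C0 * a = M * a * M' := by rw [heq, mul_assoc (C0 * a), hMM, mul_one]
    show C0 * a * (C0 * a) = C0 * a + 1
    rw [e]
    calc M * a * M' * (M * a * M') = M * (a * (M' * M) * a) * M' := by simp only [mul_assoc]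
      _ = M * a * M' + M * M' := by rw [hMM', mul_one, ha, mul_add, mul_one, add_mul]
      _ = _ := by rw [hMM]
  rw [PlaneRing.eq_one_of_conj h2 ha hca (hcomm hza) (hcomm hM) hMM heq, one_mul] at heq
  exact heq

theorem conj_comm {g : G} (hg : Commute g o) {M M' : AddMonoid.End (img V o)} (hM : ActsOn g M)
    (hMM : M * M' = 1) (hMM' : M' * M = 1) : Commute (M * th V o o1 x * M') (th V o o1 x) := by
  have h2 := W.end_add_self o
  set A := th V o o1 x
  set z := zel o o1 x
  have hn : g * z * g⁻¹ ∈ N := T.normal.conj_mem _ (W.zel_mem T h ht x h.my) g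
  have hno : Commute (g * z * g⁻¹) o := ((hg.mul_left (W.zel_commute T h ht h)).mul_left hg.inv_left)
  rcases W.zel_acts h with e | e
  · exact W.comm_stab T h ht hn hno ((hM.mul e).mul (hM.inv hMM))
  · have k := W.comm_stab T h ht hn hno ((hM.mul e).mul (hM.inv hMM))
    have k2 := k.mul_left k
    rwa [show M * (A * A) * M' * (M * (A * A) * M') = M * A * M' by
      calc M * (A * A) * M' * (M * (A * A) * M') = M * (A * A * (M' * M) * (A * A)) * M' := by
            simp only [mul_assoc]
        _ = M * ((A * (A * A)) * A) * M' := by rw [hMM', mul_one]; simp only [mul_assoc]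
        _ = _ := by rw [(PlaneRing.root_inv h2 (W.th_root h)).2.2, one_mul]] at k2

theorem conj_root {m : G} (hm : Aff D o y m) :
    Commute (th V o y m * th V o o1 x * (th V o y m * th V o y m)) (th V o o1 x) := by
  have h2 := W.end_add_self o
  have hC := W.th_root hm
  obtain ⟨-, -, h3⟩ := PlaneRing.root_inv h2 hC
  have h3' : th V o y m * th V o y m * th V o y m = 1 := by rw [mul_assoc]; exact h3
  have hgo : Commute (zel o y m) o := ((hm.symm W.hyp.set).braids W.hyp.closed).commute_a
  rcases W.zel_acts hm with e | e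
  · exact W.conj_comm T h ht hgo e h3 h3'
  · exact W.conj_comm T h ht hgo.inv_left (e.inv h3') h3 h3'

/-- The corner at an element of the plane. -/
theorem plane_value (l : List (Fin 3)) (he : (l.map ![o, o1, x]).prod ∈ D) (hy : y ∈ D)
    (hsame : Same y (l.map ![o, o1, x]).prod) :
    InF o o1 x (th V o y o1) ∧ InF o o1 x (th V o y x) := by
  classical
  let F : Framed D V 3 3 :=
    { W := W, P := triPat, d := ![o, o1, x]
      real := ⟨fun i => by fin_cases i <;> simp [h.mo, h.mx, h.my], fun i j => by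
          have h1 : ¬ Commute o1 o := fun k => h.ox k.symm
          have h2 : ¬ Commute x o := fun k => h.oy k.symm
          have h3 : ¬ Commute x o1 := fun k => h.xy k.symm
          rw [(show ∀ i j : Fin 3, TwoRadicalSU.hf (triPat.p i) (triPat.p j) = 0 ↔ i = j by decide +kernel) i j]
          fin_cases i <;> fin_cases j <;> simp [h.ox, h.oy, h.xy, h1, h2, h3, Commute.refl],
        h.off⟩ }
  have key : ∀ j : Fin 3, ∃ c : GF4, ∀ v ∈ img V o,
      eps V o (eps V y (F.φ j v)) = sm V o o1 x c v := by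
    intro j
    obtain ⟨f, -, hg⟩ := F.acts_list l (Pi.single j 1)
    refine ⟨TwoRadicalSU.hf (∑ i, (Pi.single j 1 + f : Fin 3 → GF4) i • F.P.p i) (F.P.p F.P.o), fun v hv => ?_⟩
    have e1 : eps V y (F.φ j v) = F.comb (Pi.single j 1 + f) v := by
      rw [eps_apply, W.smul_same hy he hsame, F.comb_add, F.comb_single]
      have hgv := hg v hv
      rw [F.comb_single] at hgv
      simp only [Framed.sc, W.sm_one] at hgv ⊢
      rw [← hgv]
    rw [e1]
    have e2 := F.eps_comb F.P.o (Pi.single j 1 + f) (v := v) hv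
    rw [F.φ_root] at e2
    exact e2
  obtain ⟨c1, k1⟩ := key 1
  obtain ⟨c2, k2⟩ := key 2
  refine ⟨⟨c1, fun v => ?_⟩, ⟨c2, fun v => ?_⟩⟩
  · rw [coe_th, ← k1 v v.2, show (1 : Fin 3) = F.P.e₁ from rfl, F.φ_e₁]; rfl
  · rw [coe_th, ← k2 v v.2, show (2 : Fin 3) = F.P.e₂ from rfl, F.φ_e₂]; rfl

theorem aff_line (hy : y ∈ D) (hoy : ¬ Commute o y) (h1 : ¬ Same y o1) (h2 : ¬ Same y (o * o1 * o)) :
    Aff D o o1 y := by
  have hs := W.hyp.set
  have hc := W.hyp.closed
  have ho : ¬ Same y o := fun k => hoy (W.hyp.same_commute h.mo hy k.symm)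
  have e : o * (o * o1 * o) ∈ N := by
    have := inv_mem ht
    rw [mul_inv_rev, ThreeTrans.inv_eq hs h.mo, ThreeTrans.inv_eq hs h.mx] at this
    simpa [mul_assoc, mul_self_mul hs h.mo] using this
  refine ⟨h.mo, h.mx, hy, h.ox, hoy,
    fun k => hoy ((T.twin o h.mo o1 h.mx ht y hy ho h1).mpr k.symm).symm,
    fun k => hoy ((T.twin o h.mo _ (conj_mem_left hc h.mo h.mx) e y hy ho h2).mpr k).symm⟩

theorem values_near (hy : y ∈ D) (hoy : ¬ Commute o y) :
    InF o o1 x (th V o y o1) ∧ InF o o1 x (th V o y x) := by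
  classical
  by_cases hpl : ∃ l : List (Fin 3), (l.map ![o, o1, x]).prod ∈ D ∧ Same y (l.map ![o, o1, x]).prod
  · obtain ⟨l, he, hsame⟩ := hpl
    exact W.plane_value T h ht l he hy hsame
  push Not at hpl
  have hs := W.hyp.set
  have hc := W.hyp.closed
  have hD := fun a b (ha : a ∈ D) (hb : b ∈ D) => conj_mem_left hc (d := a) (e := b) ha hb
  have n1 : ¬ Same y o1 := by simpa using hpl [1] (by simpa using h.mx)
  have n2 : ¬ Same y (o * o1 * o) := by
    simpa [mul_assoc] using hpl [0, 1, 0] (by simpa [mul_assoc] using hD o o1 h.mo h.mx)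
  have hz : o * x * o ∈ D := hD o x h.mo h.my
  have hz' : o1 * x * o1 ∈ D := hD o1 x h.mx h.my
  have hx' : o * (o1 * x * o1) * o ∈ D := hD o _ h.mo hz'
  have hx'' : o1 * (o * x * o) * o1 ∈ D := hD o1 _ h.mx hz
  have hz'' : o * (o1 * (o * x * o) * o1) * o ∈ D := hD o _ h.mo hx''
  have nx : ¬ Same y x := by simpa using hpl [2] (by simpa using h.my)
  have nz : ¬ Same y (o * x * o) := by simpa [mul_assoc] using hpl [0, 2, 0] (by simpa [mul_assoc] using hz)
  have nz' : ¬ Same y (o1 * x * o1) := by simpa [mul_assoc] using hpl [1, 2, 1] (by simpa [mul_assoc] using hz')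
  have nx' : ¬ Same y (o * (o1 * x * o1) * o) := by
    simpa [mul_assoc] using hpl [0, 1, 2, 1, 0] (by simpa [mul_assoc] using hx')
  have nx'' : ¬ Same y (o1 * (o * x * o) * o1) := by
    simpa [mul_assoc] using hpl [1, 0, 2, 0, 1] (by simpa [mul_assoc] using hx'')
  have nz'' : ¬ Same y (o * (o1 * (o * x * o) * o1) * o) := by
    simpa [mul_assoc] using hpl [0, 1, 0, 2, 0, 1, 0] (by simpa [mul_assoc] using hz'')
  have hN := T.normal
  have eo : (QuotientGroup.mk o : G ⧸ N) = QuotientGroup.mk o1 := (T.mk_eq hs h.mo).mp ht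
  have sqo : (QuotientGroup.mk o : G ⧸ N) * QuotientGroup.mk o = 1 := by
    rw [← QuotientGroup.mk_mul, mul_self hs h.mo, QuotientGroup.mk_one]
  have sqo' : ∀ a : G ⧸ N, QuotientGroup.mk o * (QuotientGroup.mk o * a) = a := fun a => by
    rw [← mul_assoc, sqo, one_mul]
  have tw : ∀ e, e ∈ D → ∀ d, d ∈ D → (QuotientGroup.mk d : G ⧸ N) = QuotientGroup.mk e → ¬ Same y d → ¬ Same y e →
      (Commute y d ↔ Commute y e) := fun e he d hd k => T.twin d hd e he ((T.mk_eq hs hd).mpr k) y hy
  have t1 : Commute y x ↔ Commute y (o * (o1 * x * o1) * o) :=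
    tw _ hx' _ h.my (by simp [← eo, mul_assoc, sqo, sqo']) nx nx'
  have t2 : Commute y x ↔ Commute y (o1 * (o * x * o) * o1) :=
    tw _ hx'' _ h.my (by simp [← eo, mul_assoc, sqo, sqo']) nx nx''
  have t3 : Commute y (o * x * o) ↔ Commute y (o1 * x * o1) :=
    tw _ hz' _ hz (by simp [← eo]) nz nz'
  have t4 : Commute y (o * x * o) ↔ Commute y (o * (o1 * (o * x * o) * o1) * o) :=
    tw _ hz'' _ hz (by simp [← eo, mul_assoc, sqo, sqo']) nz nz''
  have hoz' : ¬ Commute o (o1 * x * o1) := fun k => by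
    refine h.off ?_
    have h1 := (Commute.conj_iff o1).mpr k
    rw [ThreeTrans.inv_eq hs h.mx, show o1 * (o1 * x * o1) * o1 = x by
      simp [mul_assoc, mul_self hs h.mx, mul_self_mul hs h.mx],
      ← braid hs h.mo h.mx h.ox] at h1
    exact h1.symm
  have hoa := W.aff_line T h ht hy hoy n1 n2
  have haff := hoa.symm hs
  have h2 := W.end_add_self o
  set A := th V o o1 x
  set B := th V o y o1
  set C := th V o y x
  have hA : Root A := W.th_root h
  obtain ⟨hA1, hA2, hA3⟩ := PlaneRing.root_inv h2 hA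
  have hA3' : A * A * A = 1 := by rw [mul_assoc]; exact hA3
  have hB : Root B := W.th_root haff
  have hBA : Commute B A := by
    have hz1N := W.zel_mem T h ht y hy
    have hz1o := W.zel_commute T h ht hoa
    have e : th V o o1 y = 1 + B := W.th_swap haff
    have e' : (1 + B) * (1 + B) = B := by
      rw [mul_add, mul_one, add_mul, one_mul, hB]
      calc 1 + B + (B + (B + 1)) = B + ((B + B) + (1 + 1)) := by abel
        _ = B := by rw [h2, h2, add_zero, add_zero]
    rcases W.zel_acts hoa with k | k <;> rw [e] at k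
    · have := (W.comm_stab T h ht hz1N hz1o k).mul_left (W.comm_stab T h ht hz1N hz1o k)
      rwa [e'] at this
    · have := W.comm_stab T h ht hz1N hz1o k
      rwa [e'] at this
  have hside : th V o y (o1 * x * o1) = C * A + B * (A * A) := W.th_side h y
  by_cases hyx : Commute y x
  · have hC : C = 0 := W.th_perp h.my hy hyx.symm
    have hr : th V o y (o * (o1 * x * o1) * o) = 0 := W.th_perp hx' hy (t1.mp hyx).symm
    rw [W.th_mirror h.mo hz' hy hoz' hoy, hside, hC, zero_mul, zero_add] at hr
    have hBeq : B = A := by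
      calc B = B * (A * A) * A := by rw [mul_assoc, hA3', mul_one]
        _ = 1 * A := by rw [PlaneRing.eq_of_add_eq_zero h2 hr]
        _ = A := one_mul A
    exact ⟨hBeq ▸ W.inF_base, hC ▸ W.inF_zero⟩
  by_cases hyz : Commute y (o * x * o)
  · have hC : C = 1 := W.th_line h.mo h.my hy h.oy hoy hyz
    have hr : th V o y (o1 * x * o1) = 0 := W.th_perp hz' hy (t3.mp hyz).symm
    rw [hside, hC, one_mul] at hr
    have hBeq : B = A + 1 := by
      calc B = B * (A * A) * A := by rw [mul_assoc, hA3', mul_one]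
        _ = A * A := by rw [← PlaneRing.eq_of_add_eq_zero h2 hr]
        _ = A + 1 := hA
    exact ⟨hBeq ▸ W.inF_add W.inF_base W.inF_one, hC ▸ W.inF_one⟩
  -- no further position
  exfalso
  have nox' : ¬ Commute y (o * (o1 * x * o1) * o) := fun k => hyx (t1.mpr k)
  have noz' : ¬ Commute y (o1 * x * o1) := fun k => hyz (t3.mpr k)
  have nox'' : ¬ Commute y (o1 * (o * x * o) * o1) := fun k => hyx (t2.mpr k)
  have noz'' : ¬ Commute y (o * (o1 * (o * x * o) * o1) * o) := fun k => hyz (t4.mpr k)
  have aff : ∀ m, m ∈ D → ¬ Commute o m → ¬ Commute y m → ¬ Commute y (o * m * o) → Aff D o y m :=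
    fun m hm h1 h2 h3 => ⟨h.mo, hy, hm, hoy, h1, h2, fun k => h3 (by
      have h4 := (Commute.conj_iff o).mpr k
      rw [ThreeTrans.inv_eq hs h.mo] at h4
      simpa [mul_assoc, mul_self hs h.mo, mul_self_mul hs h.mo] using h4.symm)⟩
  have hox'' : ¬ Commute o (o1 * (o * x * o) * o1) := fun k => by
    refine h.xy ?_
    have h1 := (Commute.conj_iff o1).mpr k
    rw [ThreeTrans.inv_eq hs h.mx, show o1 * (o1 * (o * x * o) * o1) * o1 = o * x * o by
      simp [mul_assoc, mul_self hs h.mx, mul_self_mul hs h.mx], ← braid hs h.mo h.mx h.ox] at h1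
    have h2 := (Commute.conj_iff o).mpr h1
    rw [ThreeTrans.inv_eq hs h.mo] at h2
    simpa [mul_assoc, mul_self hs h.mo, mul_self_mul hs h.mo] using h2
  have aC := aff x h.my h.oy hyx hyz
  have aR := aff _ hz' hoz' noz' nox'
  have aR' := aff _ hx'' hox'' nox'' noz''
  have hC := W.th_root aC
  have hr : Root (C * A + B * (A * A)) := hside ▸ W.th_root aR
  have k1 : Commute (C * A * (C * C)) A := W.conj_root T h ht aC
  have k3 := W.conj_root T h ht aR
  rw [hside] at k3
  have hCA : Commute C A := PlaneRing.commute_of_two h2 hA hB hC hBA hr k1 k3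
  have hr' : Root (C * (A * A) + A * A + B * A) := W.th_far h hy hoy ▸ W.th_root aR'
  exact W.end_one_ne h.mo (PlaneRing.false_of_three h2 hA hBA hCA hB hC hr hr')

theorem values {y' : G} (hy : y ∈ D) (hoy : ¬ Commute o y) (hy' : y' ∈ D) (hoy' : ¬ Commute o y') :
    InF o o1 x (th V o y y') := by
  have hB := (W.values_near T h ht hy hoy).1
  by_cases h1 : Same y' o1
  · rwa [show th V o y y' = th V o y o1 from
      AddMonoidHom.ext fun v => Subtype.ext (by
        show eps V o (eps V y (eps V y' v)) = eps V o (eps V y (eps V o1 v))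
        rw [W.eps_congr hy' h.mx h1])]
  by_cases h2 : Same y' (o * o1 * o)
  · rw [show th V o y y' = th V o y (o * o1 * o) from
      AddMonoidHom.ext fun v => Subtype.ext (by
        show eps V o (eps V y (eps V y' v)) = eps V o (eps V y (eps V (o * o1 * o) v))
        rw [W.eps_congr hy' (conj_mem_left W.hyp.closed h.mo h.mx) h2]),
      W.th_mirror h.mo h.mx hy h.ox hoy]
    exact W.inF_add hB W.inF_one
  have hoa := W.aff_line T h ht hy' hoy' h1 h2
  obtain ⟨c, hc⟩ := (W.values_near T hoa ht hy hoy).2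
  have hA' : InF o o1 x (th V o o1 y') := by
    rw [W.th_swap (hoa.symm W.hyp.set)]
    exact W.inF_add W.inF_one (W.values_near T h ht hy' hoy').1
  obtain ⟨d, hd⟩ := hA'
  rcases TwoRadicalSU.K.cases c with rfl | rfl | rfl | rfl
  · exact ⟨0, fun v => by rw [hc, W.sm_zero, W.sm_zero]⟩
  · exact ⟨1, fun v => by rw [hc, W.sm_one, W.sm_one]⟩
  · exact ⟨d, fun v => by rw [hc, W.sm_w, ← coe_th, hd]⟩
  · refine ⟨1 + d, fun v => ?_⟩
    rw [hc, show GF4.w ^ 2 = 1 + GF4.w by decide +kernel, W.sm_add, W.sm_add, W.sm_one, W.sm_one, W.sm_w,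
      ← coe_th, hd]

end plane

end Space

end CfsgLib.TwoRadGen
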