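import Mathlib
import Cfsg.Agent.Lib.TwoRadGen.PlaneValues

/-!
# Closed words are multiples of one corner
-/

set_option autoImplicit false
set_option linter.unusedSectionVars false

namespace CfsgLib.TwoRadGen

open Cfsg CfsgLib.ThreeTrans CfsgLib.TwoRadical

universe u

variable {G : Type u} [Group G] [Finite G] {D : Set G}

namespace Space

variable {V : Type u} [AddCommGroup V] [DistribMulAction G V] (W : Space D V) {o o1 x : G}
include W

theorem word_add (l : List G) (a b : V) : word V l (a + b) = word V l a + word V l b := by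
  induction l with
  | nil => rfl
  | cons z l ihl => simp only [word, List.foldr_cons] at ihl ⊢; rw [ihl, map_add]

variable {N : Subgroup G} (T : Twins D N) (h : Aff D o o1 x) (ht : o * o1 ∈ N)
include T h ht

theorem word_plane : ∀ (l : List G), (∀ z ∈ l, z ∈ D) →
    ∃ c : GF4, ∀ v ∈ img V o, eps V o (word V l v) = sm V o o1 x c v := by
  intro l
  induction' hk : l.length using Nat.strong_induction_on with k ih generalizing l
  intro hl
  match l, hl with
  | [], _ => exact ⟨0, fun v hv => by simp [word, W.eps_img_self h.mo hv, W.sm_zero]⟩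
  | [a], hl =>
    have ha := hl a List.mem_cons_self
    by_cases hc : Commute o a
    · exact ⟨0, fun v hv => by simp [word, W.eps_perp ha h.mo hc.symm (eps_mem a v), W.sm_zero]⟩
    · exact ⟨1, fun v hv => by simp [word, W.eps_braid h.mo ha hc hv, W.sm_one]⟩
  | a :: b :: r, hl =>
    have ha := hl a List.mem_cons_self
    have hb := hl b (by simp)
    have hr : ∀ z ∈ r, z ∈ D := fun z hz => hl z (by simp [hz])
    simp only [List.length_cons] at hk
    by_cases hoa : Commute o a
    · exact ⟨0, fun v hv => by simp [word, W.eps_perp ha h.mo hoa.symm (eps_mem a _), W.sm_zero]⟩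
    by_cases hab : Commute a b
    · exact ⟨0, fun v hv => by simp [word, W.eps_perp hb ha hab.symm (eps_mem b _), W.sm_zero]⟩
    by_cases hob : Commute o b
    · -- replace the two letters by two single ones
      have hz : b * a * b ∈ D := conj_mem_left W.hyp.closed hb ha
      obtain ⟨c₁, h₁⟩ := ih _ (show r.length + 1 < k by omega) ((b * a * b) :: r) (by simp)
        (by simpa [hz] using hr)
      obtain ⟨c₂, h₂⟩ := ih _ (show r.length + 1 < k by omega) (a :: r) (by simp) (by simpa [ha] using hr)
      refine ⟨c₁ + c₂, fun v hv => ?_⟩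
      have e1 := h₁ v hv
      have e2 := h₂ v hv
      simp only [word, List.foldr_cons] at e1 e2 ⊢
      generalize List.foldr (fun x w => eps V x w) v r = u at e1 e2 ⊢
      rw [W.eps_conj_braid hb ha (fun k => hab k.symm), map_add, map_add, map_add,
        W.eps_perp hb h.mo hob.symm (eps_mem b u), W.eps_perp hb h.mo hob.symm (eps_mem b (eps V a u)), e2,
        zero_add, add_zero] at e1
      rw [W.sm_add, ← e1, add_comm (sm V o o1 x c₂ v), add_assoc, W.mod.add_self, add_zero]
    · -- insert the base member
      obtain ⟨d, hd⟩ := W.values T h ht ha hoa hb hob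
      obtain ⟨c, hc⟩ := ih _ (show r.length + 1 < k by omega) (b :: r) (by simp) (by simpa [hb] using hr)
      refine ⟨d * c, fun v hv => ?_⟩
      have e := hc v hv
      simp only [word, List.foldr_cons] at e ⊢
      generalize List.foldr (fun x w => eps V x w) v r = u at e ⊢
      rw [← W.eps_braid hb h.mo (fun k => hob k.symm) (eps_mem b u), e, ← W.sm_mul h d c hv]
      exact hd ⟨_, W.sm_mem h c hv⟩

theorem act_plane (g : G) : ∀ (l : List G), (∀ z ∈ l, z ∈ D) →
    ∃ c : GF4, ∀ v ∈ img V o, eps V o (word V l (g • v)) = sm V o o1 x c v := by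
  have hg : g ∈ Submonoid.closure D := by
    rw [← Subgroup.closure_toSubmonoid_of_finite, W.hyp.cls.2.2]; exact Subgroup.mem_top g
  induction hg using Submonoid.closure_induction_left with
  | one => intro l hl; simpa using W.word_plane T h ht l hl
  | mul_left e he g' _ ih =>
    intro l hl
    obtain ⟨c₁, h₁⟩ := ih l hl
    obtain ⟨c₂, h₂⟩ := ih (l ++ [e]) (by
      simp only [List.mem_append, List.mem_singleton]
      rintro z (k | rfl)
      exacts [hl z k, he])
    refine ⟨c₁ + c₂, fun v hv => ?_⟩
    have e2 : word V (l ++ [e]) (g' • v) = word V l (eps V e (g' • v)) := by simp [word]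
    rw [mul_smul, W.smul_eq e, W.word_add, map_add, h₁ v hv, ← e2, h₂ v hv, W.sm_add]

/-- The 2-core fixes the image of `o`. -/
theorem plane_fix {q : G} (hq : q ∈ pCore 2 G) : ∀ v ∈ img V o, q • v = v := by
  have : Fact (Nat.Prime 2) := ⟨Nat.prime_two⟩
  have hqC : Central D q := W.hyp.central_of_mem hq
  obtain ⟨c, hc⟩ := W.act_plane T h ht q [o1] (by simp [h.mx])
  have hq' : ∀ v ∈ img V o, q • v = sm V o o1 x c v := fun v hv => by
    rw [← hc v hv]
    conv_lhs => rw [← W.eps_braid h.mo h.mx h.ox hv, W.central_eps hqC h.mo, W.central_eps hqC h.mx]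
    simp [word]
  obtain ⟨k, hk⟩ := CfsgLib.PCore.pCore_isPGroup (G := G) (p := 2) ⟨q, hq⟩
  have hk' : q ^ 2 ^ k = 1 := congrArg Subtype.val hk
  have hpow : ∀ j : ℕ, ∀ w ∈ img V o, q ^ j • w = sm V o o1 x (c ^ j) w := by
    intro j
    induction j with
    | zero => intro w _; rw [pow_zero, pow_zero, one_smul, W.sm_one]
    | succ j ih =>
      intro w hw
      rw [pow_succ, mul_smul, hq' w hw, ih _ (W.sm_mem h _ hw), W.sm_mul h _ _ hw, ← pow_succ]
  obtain ⟨v0, hv0, hv0'⟩ := W.exists_ne h.mo
  have hone : c ^ 2 ^ k = 1 := by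
    by_contra hne
    refine hv0' (W.sm_eq_zero h (c := c ^ 2 ^ k + 1) (fun k' => hne ?_) hv0 ?_)
    · rwa [← TwoRadicalSU.K.sub_eq_add', sub_eq_zero] at k'
    · rw [W.sm_add, W.sm_one, ← hpow _ _ hv0, hk', one_smul, W.mod.add_self]
  have hsq : ∀ a : GF4, a ^ 2 = 1 → a = 1 := by decide +kernel
  have hc1 : c = 1 := by
    clear hk hk' hpow
    induction k with
    | zero => simpa using hone
    | succ k ih => exact ih (hsq _ (by rw [← pow_mul, ← pow_succ]; exact hone))
  intro v hv
  rw [hq' v hv, hc1, W.sm_one]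

end Space

end CfsgLib.TwoRadGen
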