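import Mathlib
import Cfsg.Agent.Lib.TwoRadGen.PlaneWords
import Cfsg.Agent.Lib.TwoRadGen.Interface

/-!
# A non-central 3-core of the quotient gives a complement
-/

set_option autoImplicit false
set_option linter.unusedSectionVars false

namespace CfsgLib.TwoRadGen

open Cfsg CfsgLib.ThreeTrans CfsgLib.TwoRadical
open PlaneRing (Root)

universe u

variable {G : Type u} [Group G] [Finite G] {D : Set G}

namespace Hyp

variable (H : Hyp D)
include H

theorem exists_twins (h3 : ¬ pCore 3 (G ⧸ pCore 2 G) ≤ Subgroup.center (G ⧸ pCore 2 G)) :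
    ∃ N : Subgroup G, Twins D N := by
  classical
  have : Fact (Nat.Prime 3) := ⟨Nat.prime_three⟩
  set Z := Subgroup.center (G ⧸ pCore 2 G) with hZ
  set P := pCore 3 (G ⧸ pCore 2 G) with hP
  have hfin : {K : Subgroup (G ⧸ pCore 2 G) | K.Normal ∧ K ≤ P ∧ ¬ K ≤ Z}.Finite := Set.toFinite _
  obtain ⟨K, hKmin⟩ := hfin.exists_minimal ⟨P, pCore_normal 3 _, le_rfl, h3⟩
  obtain ⟨hKn, hKP, hKZ⟩ := hKmin.prop
  have hK3 : IsPGroup 3 K := CfsgLib.PCore.pCore_isPGroup.to_le hKP
  have hder : ⁅K, K⁆ ≤ Z := by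
    by_contra hne
    have hle : ⁅K, K⁆ ≤ K := Subgroup.commutator_le_self K
    have heq : K ≤ ⁅K, K⁆ := hKmin.le_of_le ⟨inferInstance, hle.trans hKP, hne⟩ hle
    have : Nontrivial K := (Subgroup.nontrivial_iff_ne_bot K).mpr fun k => hKZ (k ▸ bot_le)
    have := hK3.isNilpotent
    refine (Group.IsSolvable.commutator_lt_top_of_nontrivial K).ne (Subgroup.map_injective K.subtype_injective ?_)
    rw [Subgroup.map_subtype_commutator, ← MonoidHom.range_eq_map, Subgroup.range_subtype]
    exact le_antisymm hle heq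
  set π := QuotientGroup.mk' (pCore 2 G) with hπ
  have hNn : (K.comap π).Normal := hKn.comap π
  have hclsI := class_imgClass H.cls H.two
  have hcl : ConjClosed (imgClass D) := conjClosed_of_class hclsI
  refine ⟨K.comap π, ⟨hNn, fun q hq => ?_, fun n hn => ?_, fun d hd e he hde y hy hyd hye => ?_,
    fun m hm n hn => ?_, ?_⟩⟩
  · show π q ∈ K
    rw [hπ, QuotientGroup.mk'_apply, (QuotientGroup.eq_one_iff q).mpr hq]
    exact one_mem K
  · obtain ⟨k, hk⟩ := hK3 ⟨_, hn⟩
    refine ⟨k, (QuotientGroup.eq_one_iff _).mp ?_⟩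
    rw [QuotientGroup.mk_pow]
    exact congrArg Subtype.val hk
  · have hw : WRel (imgClass D) (QuotientGroup.mk d : G ⧸ pCore 2 G) (QuotientGroup.mk e) :=
      wRel_of_mul_mem hcl ⟨d, hd, rfl⟩ ⟨e, he, rfl⟩ (hKP hde)
    have hiff : ∀ a b, a ∈ D → b ∈ D →
        (Commute (QuotientGroup.mk a : G ⧸ pCore 2 G) (QuotientGroup.mk b) ↔ Commute a b) :=
      fun a b ha hb => ⟨commute_of_mk H.cls ha hb, fun k => k.map π⟩
    have hk := hw.commute_iff (e := (QuotientGroup.mk y : G ⧸ pCore 2 G)) ⟨y, hy, rfl⟩ hyd hye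
    rw [hiff d y hd hy, hiff e y he hy] at hk
    exact ⟨fun k => (hk.mp k.symm).symm, fun k => (hk.mpr k.symm).symm⟩
  · intro e _
    have hc : (QuotientGroup.mk (m * n * m⁻¹ * n⁻¹) : G ⧸ pCore 2 G) ∈ Z := by
      have h := hder (Subgroup.commutator_mem_commutator (show π m ∈ K from hm) (show π n ∈ K from hn))
      simpa [commutatorElement_def, hπ] using h
    rw [Same, QuotientGroup.mk_mul, QuotientGroup.mk_mul, QuotientGroup.mk_inv,
      ← Subgroup.mem_center_iff.mp hc, mul_inv_cancel_right]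
  · obtain ⟨x, hx, hxZ⟩ := SetLike.not_le_iff_exists.mp hKZ
    obtain ⟨n, rfl⟩ := QuotientGroup.mk'_surjective _ x
    have hex : ∃ d0 ∈ D, ¬ Same (n * d0 * n⁻¹) d0 := by
      by_contra hno
      push Not at hno
      refine hxZ (mem_center_of_commute hclsI.2.2 ?_)
      rintro _ ⟨d, hd, rfl⟩
      have k := hno d hd
      rw [Same, QuotientGroup.mk_mul, QuotientGroup.mk_mul, QuotientGroup.mk_inv, mul_inv_eq_iff_eq_mul] at k
      exact k
    obtain ⟨d0, hd0, hne⟩ := hex
    intro d hd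
    obtain ⟨g, hg⟩ := class_conj H.cls hd0 hd
    set n' := g * n * g⁻¹ with hn'
    have hnm : n' ∈ K.comap π := hNn.conj_mem n hx g
    refine ⟨n' * d * n'⁻¹, H.closed.conj n' d hd, fun hs => hne ?_, ?_⟩
    · rw [hn', ← hg, show g * n * g⁻¹ * (g * d0 * g⁻¹) * (g * n * g⁻¹)⁻¹ = g * (n * d0 * n⁻¹) * g⁻¹ by group,
        Same] at hs
      simp only [QuotientGroup.mk_mul, QuotientGroup.mk_inv, mul_left_inj, mul_right_inj] at hs
      simpa [Same] using hs
    · have h1 := mul_mem (hNn.conj_mem n' hnm d) (inv_mem hnm)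
      rw [ThreeTrans.inv_eq H.set hd] at h1
      simpa [mul_assoc] using h1

end Hyp

/-- Two non-commuting members and the third on their line. -/
def lineSet {G : Type*} [Group G] (o o1 : G) : Set G := {o, o1, o * o1 * o}

theorem lineSet_closed {o o1 : G} (hs : IsThreeTranspositionSet D) (ho : o ∈ D) (h1 : o1 ∈ D)
    (hnc : ¬ Commute o o1) : ∀ e ∈ lineSet o o1, ∀ f ∈ lineSet o o1, e * f * e ∈ lineSet o o1 := by
  have hb : o * o1 * o = o1 * o * o1 := braid hs ho h1 hnc
  have q0 : ∀ z, o * (o * z) = z := mul_self_mul hs ho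
  have q1 : ∀ z, o1 * (o1 * z) = z := mul_self_mul hs h1
  intro e he f hf
  simp only [lineSet, Set.mem_insert_iff, Set.mem_singleton_iff] at he hf ⊢
  rcases he with he | he | he <;> rcases hf with hf | hf | hf <;> rw [he, hf]
  · left; rw [mul_self hs ho, one_mul]
  · exact Or.inr (Or.inr rfl)
  · right; left; simp [mul_assoc, mul_self hs ho, q0]
  · exact Or.inr (Or.inr hb.symm)
  · right; left; rw [mul_self hs h1, one_mul]
  · left; rw [hb]; simp [mul_assoc, mul_self hs h1, q1]
  · right; left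
    calc o * o1 * o * o * (o * o1 * o) = o * o1 * (o * o1 * o) := by simp [mul_assoc, q0]
      _ = o * o1 * (o1 * o * o1) := by rw [hb]
      _ = o1 := by simp [mul_assoc, q0, q1]
  · left
    calc o * o1 * o * o1 * (o * o1 * o) = o * (o1 * o * o1) * (o * o1 * o) := by simp [mul_assoc]
      _ = o * (o * o1 * o) * (o * o1 * o) := by rw [hb]
      _ = o := by simp [mul_assoc, q0, q1]
  · right; right; simp [mul_assoc, q0, q1]

namespace Space

variable {V : Type u} [AddCommGroup V] [DistribMulAction G V] (W : Space D V)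
include W

variable {N : Subgroup G} (T : Twins D N)
include T

/-- Either some affine triangle hangs on the twins, or there are three images. -/
theorem exists_aff {o o1 : G} (ho : o ∈ D) (h1 : o1 ∈ D) (hne : ¬ Same o1 o) (ht : o * o1 ∈ N) :
    (∃ x, Aff D o o1 x) ∨ (¬ Commute o o1 ∧ ∀ d ∈ D, ∃ f ∈ lineSet o o1, Same d f) := by
  classical
  have hs := W.hyp.set
  have hcc := W.hyp.closed
  have hnc : ¬ Commute o o1 := by
    intro k
    obtain ⟨j, hj⟩ := T.three _ ht
    refine hne ?_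
    have hsq : (o * o1) ^ 2 = 1 := (sq_eq_one_iff hs ho h1).2 k
    have hodd : Odd (3 ^ j) := Odd.pow ⟨1, rfl⟩
    obtain ⟨i, hi⟩ := hodd
    rw [hi, pow_succ, pow_mul, hsq, one_pow, one_mul] at hj
    have := (QuotientGroup.eq_one_iff _).mpr hj
    rw [QuotientGroup.mk_mul, mul_eq_one_iff_inv_eq, ← QuotientGroup.mk_inv, ThreeTrans.inv_eq hs ho] at this
    exact this.symm
  set o2 := o * o1 * o with ho2
  have h2 : o2 ∈ D := conj_mem_left hcc ho h1
  have h12 : o * o2 ∈ N := by
    have := inv_mem ht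
    rw [mul_inv_rev, ThreeTrans.inv_eq hs ho, ThreeTrans.inv_eq hs h1] at this
    simpa [ho2, mul_assoc, mul_self_mul hs ho] using this
  by_cases hex : ∃ x ∈ D, ¬ Same x o ∧ ¬ Same x o1 ∧ ¬ Same x o2 ∧ ¬ Commute o x
  · obtain ⟨x, hx, n0, n1, n2, hox⟩ := hex
    exact Or.inl ⟨x, ho, h1, hx, hnc, hox, fun k => hox ((T.twin o ho o1 h1 ht x hx n0 n1).mpr k.symm).symm,
      fun k => hox ((T.twin o ho o2 h2 h12 x hx n0 n2).mpr k).symm⟩
  push Not at hex
  refine Or.inr ⟨hnc, fun d hd => ?_⟩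
  obtain ⟨g, rfl⟩ := class_conj W.hyp.cls ho hd
  have hg : g ∈ Submonoid.closure D := by
    rw [← Subgroup.closure_toSubmonoid_of_finite, W.hyp.cls.2.2]; exact Subgroup.mem_top g
  clear hd
  induction hg using Submonoid.closure_induction_left with
  | one => exact ⟨o, Or.inl rfl, by simp [Same]⟩
  | mul_left e he g _ ih =>
    obtain ⟨f, hf, hgf⟩ := ih
    have k0 : Same (e * g * o * (e * g)⁻¹) (e * f * e⁻¹) := by
      rw [show e * g * o * (e * g)⁻¹ = e * (g * o * g⁻¹) * e⁻¹ by group]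
      simp only [Same, QuotientGroup.mk_mul, QuotientGroup.mk_inv] at hgf ⊢
      rw [hgf]
    by_cases hP : ∃ a ∈ lineSet o o1, Same e a
    · obtain ⟨a, ha, hea⟩ := hP
      refine ⟨a * f * a, lineSet_closed hs ho h1 hnc a ha f hf, k0.trans ?_⟩
      rw [ThreeTrans.inv_eq hs he]
      simp only [Same, QuotientGroup.mk_mul] at hea ⊢
      rw [hea]
    · push Not at hP
      have m0 := hP o (Or.inl rfl)
      have m1 := hP o1 (Or.inr (Or.inl rfl))
      have m2 := hP o2 (Or.inr (Or.inr rfl))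
      have c0 : Commute o e := hex e he m0 m1 m2
      have hc : Commute e f := by
        rcases hf with rfl | rfl | rfl
        exacts [c0.symm, (T.twin o ho _ h1 ht e he m0 m1).mp c0.symm,
          (T.twin o ho _ h2 h12 e he m0 m2).mp c0.symm]
      exact ⟨f, hf, k0.trans (by rw [hc.eq, mul_inv_cancel_right])⟩

/-- Three images only. -/
theorem goal_three {o o1 : G} (ho : o ∈ D) (h1 : o1 ∈ D) (hnc : ¬ Commute o o1)
    (hcov : ∀ d ∈ D, ∃ f ∈ lineSet o o1, Same d f) : Goal G := by
  have H := W.hyp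
  have hs := H.set
  have hclose := lineSet_closed hs ho h1 hnc
  have hsub : lineSet o o1 ⊆ D := by
    rintro e (rfl | rfl | rfl)
    exacts [ho, h1, conj_mem_left H.closed ho h1]
  have hdist : ∀ e ∈ lineSet o o1, ∀ f ∈ lineSet o o1, e ≠ f → ¬ Commute e f := by
    have n02 : ¬ Commute o (o * o1 * o) := fun k => hnc (by
      have h := (Commute.conj_iff o).mpr k
      rw [ThreeTrans.inv_eq hs ho] at h
      simpa [mul_assoc, mul_self hs ho, mul_self_mul hs ho] using h)
    have n12 : ¬ Commute o1 (o * o1 * o) := fun k => hnc (by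
      have h := (Commute.conj_iff o1).mpr k
      rw [ThreeTrans.inv_eq hs h1, braid hs ho h1 hnc] at h
      simpa [mul_assoc, mul_self hs h1, mul_self_mul hs h1] using h.symm)
    rintro e (rfl | rfl | rfl) f (rfl | rfl | rfl) hne k <;>
      first | exact hne rfl | exact hnc k | exact hnc k.symm | exact n02 k | exact n02 k.symm |
        exact n12 k | exact n12 k.symm
  have hsec : ∀ e ∈ lineSet o o1, ∀ e' ∈ lineSet o o1, Same e e' → e = e' := fun e he e' he' k => by
    by_contra hne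
    exact hdist e he e' he' hne (H.same_commute (hsub he) (hsub he') k)
  have hN : NoAffine D := by
    intro a ha b hb c hc hab hac hbc
    obtain ⟨a', ha', ka⟩ := hcov a ha
    obtain ⟨b', hb', kb⟩ := hcov b hb
    obtain ⟨c', hc', kc⟩ := hcov c hc
    have e1 : a' ≠ b' := fun k => hab (H.same_commute ha hb (ka.trans (k ▸ kb.symm)))
    have e2 : a' ≠ c' := fun k => hac (H.same_commute ha hc (ka.trans (k ▸ kc.symm)))
    have e3 : b' ≠ c' := fun k => hbc (H.same_commute hb hc (kb.trans (k ▸ kc.symm)))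
    have hm := hclose a' ha' b' hb'
    have e4 : a' * b' * a' ≠ a' := fun k => e1 (by
      simpa [mul_assoc, mul_self hs (hsub ha'), mul_self_mul hs (hsub ha')] using
        (congrArg (fun z => a' * z * a') k).symm)
    have e5 : a' * b' * a' ≠ b' := fun k => hdist a' ha' b' hb' e1 (by
      show a' * b' = b' * a'
      conv_rhs => rw [← k, mul_assoc, mul_self hs (hsub ha'), mul_one])
    have k2 : Same (a * b * a) (a' * b' * a') := by
      simp only [Same, QuotientGroup.mk_mul] at ka kb ⊢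
      rw [ka, kb]
    have key : a' * b' * a' = c' := by
      generalize a' * b' * a' = m at hm e4 e5 ⊢
      rcases ha' with rfl | rfl | rfl <;> rcases hb' with rfl | rfl | rfl <;> rcases hc' with rfl | rfl | rfl <;>
        rcases hm with rfl | rfl | rfl <;> first | rfl | contradiction
    exact H.same_commute hc (conj_mem_left H.closed ha hb) (kc.trans (key ▸ k2.symm))
  have htriv := W.noAffine_core hN
  exact ⟨W.elementary htriv, W.split_of_section htriv _ hsub hcov hsec hclose⟩

theorem plane_trivial (hex : ∀ o ∈ D, ∃ o1 x, Aff D o o1 x ∧ o * o1 ∈ N) :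
    ∀ q ∈ pCore 2 G, ∀ v : V, q • v = v := by
  intro q hq
  let S : AddSubgroup V :=
    { carrier := {u | q • u = u}
      zero_mem' := smul_zero q
      add_mem' := fun {a b} ha hb => by show q • (a + b) = a + b; rw [smul_add, ha, hb]
      neg_mem' := fun {a} ha => by show q • (-a) = -a; rw [smul_neg, ha] }
  have hS := W.span S fun o ho v hv => by
    obtain ⟨o1, x, h, ht⟩ := hex o ho
    exact W.plane_fix T h ht hq v hv
  intro v
  exact (show v ∈ S by rw [hS]; exact AddSubgroup.mem_top v)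

theorem plane_split (hex : ∀ o ∈ D, ∃ o1 x, Aff D o o1 x ∧ o * o1 ∈ N) : Split G := by
  classical
  have : Fact (Nat.Prime 3) := ⟨Nat.prime_three⟩
  have : Fact (Nat.Prime 2) := ⟨Nat.prime_two⟩
  have htriv := W.plane_trivial T hex
  have hN := T.normal
  have hQ : (pCore 2 G).Normal := pCore_normal 2 G
  obtain ⟨P⟩ : Nonempty (Sylow 3 N) := inferInstance
  set P' := (P : Subgroup N).map N.subtype with hP'
  have hP'N : P' ≤ N := Subgroup.map_subtype_le _
  have hcov : N ≤ pCore 2 G ⊔ P' := by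
    intro n hn
    set M := (pCore 2 G).subgroupOf N with hM
    have hMn : M.Normal := hQ.subgroupOf N
    have h3 : IsPGroup 3 (N ⧸ M) := by
      rintro ⟨a⟩
      obtain ⟨k, hk⟩ := T.three _ a.2
      exact ⟨k, (QuotientGroup.eq_one_iff _).mpr hk⟩
    have htop : (P : Subgroup N).map (QuotientGroup.mk' M) = ⊤ := by
      refine Subgroup.eq_top_of_card_eq _ ?_
      let P2 := P.mapSurjective (QuotientGroup.mk'_surjective M)
      have e := P2.card_eq_multiplicity
      obtain ⟨k, hk⟩ := IsPGroup.iff_card.mp h3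
      rw [hk, Nat.Prime.factorization_pow Nat.prime_three, Finsupp.single_eq_same] at e
      rw [hk, ← e]
      rfl
    have hm : QuotientGroup.mk' M ⟨n, hn⟩ ∈ (P : Subgroup N).map (QuotientGroup.mk' M) := by
      rw [htop]; exact Subgroup.mem_top _
    obtain ⟨p, hp, hpe⟩ := hm
    have hq : ((p : N) : G)⁻¹ * n ∈ pCore 2 G :=
      Subgroup.mem_subgroupOf.mp ((QuotientGroup.eq (s := M) (a := p) (b := ⟨n, hn⟩)).mp hpe)
    rw [show n = (p : G) * ((p : G)⁻¹ * n) by group]
    exact mul_mem (Subgroup.mem_sup_right ⟨p, hp, rfl⟩) (Subgroup.mem_sup_left hq)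
  refine split_of_frattini Nat.prime_three (by norm_num) hN P hcov fun q hq hc => ?_
  have key : ∀ d ∈ D, Commute q d := by
    intro d hd
    obtain ⟨d1, x, h, ht⟩ := hex d hd
    have hzN := W.zel_mem T h ht x h.my
    have hzd := W.zel_commute T h ht h
    have hmem := hcov hzN
    rw [Subgroup.mem_sup_of_normal_left] at hmem
    obtain ⟨r, hr, p, hp, hrp⟩ := hmem
    have hact : ∀ v : V, p • v = zel d d1 x • v := fun v => by rw [← hrp, mul_smul, htriv r hr]
    refine W.commute_at htriv hd (p := p) ?_ (fun u hu hpu => ?_) hq (hc p hp)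
    · have hd1 : zel d d1 x * d * (zel d d1 x)⁻¹ = d := by rw [hzd.eq, mul_inv_cancel_right]
      have hrm : (QuotientGroup.mk r : G ⧸ pCore 2 G) = 1 := (QuotientGroup.eq_one_iff r).mpr hr
      rw [← hrp] at hd1
      have := congrArg (QuotientGroup.mk : G → G ⧸ pCore 2 G) hd1
      simpa [Same, hrm] using this
    · rw [hact] at hpu
      have hfix : ∀ ζ : GF4, ζ ≠ 1 → sm V d d1 x ζ u = u → u = 0 := fun ζ hζ k => by
        refine W.sm_eq_zero h (c := ζ + 1) (fun k' => hζ ?_) hu ?_
        · rwa [← TwoRadicalSU.K.sub_eq_add', sub_eq_zero] at k'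
        · rw [W.sm_add, k, W.sm_one, W.mod.add_self]
      rcases W.zel_acts h with e | e
      · exact hfix GF4.w TwoRadicalSU.K.w_ne.2.1 (by rw [← W.th_sm d d1 x ⟨u, hu⟩, ← e ⟨u, hu⟩]; exact hpu)
      · refine hfix (GF4.w * GF4.w) (by decide +kernel) ?_
        rw [← W.sm_mul h _ _ hu]
        have e' := (e ⟨u, hu⟩).symm.trans hpu
        rw [← W.th_sm d d1 x ⟨u, hu⟩, ← W.th_sm d d1 x]
        exact e'
  have hc1 := mem_center_of_commute W.hyp.cls.2.2 key
  rwa [W.hyp.center, Subgroup.mem_bot] at hc1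

end Space

/-- A non-central 3-core of the quotient. -/
theorem goal_of_three {V : Type u} [AddCommGroup V] [DistribMulAction G V] (W : Space D V)
    (h3 : ¬ pCore 3 (G ⧸ pCore 2 G) ≤ Subgroup.center (G ⧸ pCore 2 G)) : Goal G := by
  obtain ⟨N, T⟩ := W.hyp.exists_twins h3
  by_cases hall : ∀ o ∈ D, ∃ o1 x, Aff D o o1 x ∧ o * o1 ∈ N
  · exact ⟨W.elementary (W.plane_trivial T hall), W.plane_split T hall⟩
  push Not at hall
  obtain ⟨o, ho, hno⟩ := hall
  obtain ⟨o1, h1, hne, ht⟩ := T.moves o ho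
  rcases W.exists_aff T ho h1 hne ht with ⟨x, hx⟩ | ⟨hnc, h⟩
  · exact absurd ht (hno o1 x hx)
  exact W.goal_three T ho h1 hnc h

end CfsgLib.TwoRadGen
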