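import Mathlib
import Cfsg.Agent.Lib.TwoRadGen.Interface
import Cfsg.Agent.Lib.ThreeTrans.Classif.Final

/-!
# The image has a connected commuting graph

In a disconnected image a commuting pair of another coset moves each member to a different commuting one, and
three of these pairs which can be told apart would embed three images in two.
-/

set_option autoImplicit false
set_option linter.unusedSectionVars false

namespace CfsgLib.TwoRadGen

open Cfsg CfsgLib.ThreeTrans CfsgLib.TwoRadical
open CfsgLib.ThreeTrans.Classif (Semi OrthPts ReflPts KindOPlus KindRefl coverClass cosetClass coverGroup)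

universe u v w

section Four

open Module

variable {K : Type v} [Field K] {W : Type w} [AddCommGroup W] [Module K W] [FiniteDimensional K W]

/-- A subspace cut out by four equations, with few values of the form, is mostly radical. -/
theorem exists_radical (B : LinearMap.BilinForm K W) (hB : B.Nondegenerate) (hsymm : B.IsSymm)
    (hdim : 8 ≤ finrank K W) (a : Fin 4 → W) :
    ∃ U : Submodule K W, 4 ≤ finrank K U ∧ finrank K (B.orthogonal U) ≤ 4 ∧
      (∀ u ∈ U, ∀ i, B (a i) u = 0) ∧ (∀ u, (∀ i, B (a i) u = 0) → u ∈ U) ∧ ∀ i, a i ∈ B.orthogonal U := by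
  classical
  set S := Submodule.span K (Set.range a) with hS
  refine ⟨B.orthogonal S, ?_, ?_, fun u hu i => hu _ (Submodule.subset_span ⟨i, rfl⟩), fun u hu n hn => ?_,
    fun i => ?_⟩
  · have h1 := LinearMap.BilinForm.finrank_orthogonal hB S
    have h2 := finrank_range_le_card (R := K) a
    rw [Fintype.card_fin] at h2
    change finrank K S ≤ 4 at h2
    omega
  · rw [LinearMap.BilinForm.orthogonal_orthogonal hB hsymm.isRefl]
    exact (finrank_range_le_card (R := K) a).trans (by simp)
  · induction hn using Submodule.span_induction with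
    | mem n hn => obtain ⟨i, rfl⟩ := hn; exact hu i
    | zero => show B 0 u = 0; rw [map_zero, LinearMap.zero_apply]
    | add x y _ _ ihx ihy =>
      show B (x + y) u = 0
      rw [map_add, LinearMap.add_apply, show B x u = 0 from ihx, show B y u = 0 from ihy, add_zero]
    | smul c x _ ih =>
      show B (c • x) u = 0
      rw [map_smul, LinearMap.smul_apply, show B x u = 0 from ih, smul_zero]
  · rw [LinearMap.BilinForm.orthogonal_orthogonal hB hsymm.isRefl]
    exact Submodule.subset_span ⟨i, rfl⟩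

end Four

section Points

open Module

variable {Y : Type v} [Group Y] {E : Set Y}

theorem orth_four {Q : QuadraticForm (ZMod 2) (Fin 4 ⊕ Fin 4 → ZMod 2)} {ψ : Y → Fin 4 ⊕ Fin 4 → ZMod 2}
    (hP : OrthPts E Q ψ) (e : Fin 4 → Y) (he : ∀ i, e i ∈ E) : ∃ f ∈ E, ∀ i, Commute f (e i) := by
  classical
  set B : LinearMap.BilinForm (ZMod 2) (Fin 4 ⊕ Fin 4 → ZMod 2) := Q.polarBilin with hBdef
  have hBapp : ∀ u z, B u z = QuadraticMap.polar Q u z := fun u z => rfl
  have hsymm : B.IsSymm := ⟨fun u z => by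
    show QuadraticMap.polar Q u z = QuadraticMap.polar Q z u
    exact QuadraticMap.polar_comm Q u z⟩
  have hB : B.Nondegenerate := ⟨fun u hu => hP.sep u hu, fun u hu => hP.sep u fun z =>
    (QuadraticMap.polar_comm Q u z).trans (hu z)⟩
  obtain ⟨U, hU, hU', hperp, -, haU⟩ := exists_radical B hB hsymm (by simp) (fun i => ψ (e i))
  by_contra hno
  push Not at hno
  have hQU : ∀ u ∈ U, Q u = 0 := by
    intro u hu
    by_contra h0
    obtain ⟨f, hf, rfl⟩ := hP.bij.surjOn (show u ∈ {z | Q z = 1} from (by decide : ∀ x : ZMod 2, x ≠ 0 → x = 1) _ h0)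
    obtain ⟨i, hi⟩ := hno f hf
    refine hi ((hP.comm f hf _ (he i)).2 ?_)
    rw [QuadraticMap.polar_comm, ← hBapp]
    exact hperp _ hu i
  have hle : U ≤ B.orthogonal U := fun u hu n hn => by
    show B n u = 0
    rw [hBapp, QuadraticMap.polar, hQU _ (U.add_mem hn hu), hQU _ hn, hQU _ hu]; simp
  have heq : U = B.orthogonal U := Submodule.eq_of_le_of_finrank_le hle (hU'.trans hU)
  have h1 : Q (ψ (e 0)) = 1 := hP.bij.mapsTo (he 0)
  rw [hQU _ (heq ▸ haU 0)] at h1
  exact zero_ne_one h1

theorem refl_four {Q : QuadraticForm (ZMod 3) (Fin 8 → ZMod 3)} {c : ZMod 3} {ψ : Y → Fin 8 → ZMod 3}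
    (hP : ReflPts E Q c ψ) (e : Fin 4 → Y) (he : ∀ i, e i ∈ E) (hne : e 0 ≠ e 1) (hc01 : Commute (e 0) (e 1)) :
    ∃ f ∈ E, ∀ i, Commute f (e i) := by
  classical
  have d2 : (2 : ZMod 3) ≠ 0 := by decide
  have dneg : ∀ x d : ZMod 3, d ≠ 0 → x ≠ 0 → x ≠ d → x = -d := by decide
  have dzero : ∀ x d : ZMod 3, d ≠ 0 → x ≠ d → -d + x ≠ d → x = 0 := by decide
  have : Fact (Nat.Prime 3) := ⟨Nat.prime_three⟩
  set B : LinearMap.BilinForm (ZMod 3) (Fin 8 → ZMod 3) := Q.polarBilin with hBdef
  have hBapp : ∀ u z, B u z = QuadraticMap.polar Q u z := fun u z => rfl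
  have hsymm : B.IsSymm := ⟨fun u z => by
    show QuadraticMap.polar Q u z = QuadraticMap.polar Q z u
    exact QuadraticMap.polar_comm Q u z⟩
  have hB : B.Nondegenerate := hP.nondeg
  have hc := hP.ne
  obtain ⟨U, hU, hU', hperp, -, haU⟩ := exists_radical B hB hsymm (by simp) (fun i => ψ (e i))
  by_contra hno
  push Not at hno
  have hval : ∀ u ∈ U, Q u ≠ c := by
    intro u hu hQ
    obtain ⟨f, hf, hfu⟩ := hP.surj u hQ
    obtain ⟨i, hi⟩ := hno f hf
    refine hi ((hP.comm f hf _ (he i)).2 (Or.inr ?_))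
    have h0 : B (ψ (e i)) u = 0 := hperp u hu i
    rw [QuadraticMap.polar_comm, ← hBapp]
    rcases hfu with k | k
    · rw [k]; exact h0
    · rw [k, map_neg, h0, neg_zero]
  have hBself : ∀ u, B u u = 2 * Q u := fun u => by
    rw [hBapp, QuadraticMap.polar_self]; simp
  have hadd : ∀ u z, Q (u + z) = Q u + Q z + B u z := fun u z => by
    rw [hBapp, QuadraticMap.polar]; ring
  -- the part of the subspace orthogonal to one anisotropic vector
  have hrad : ∃ R : Submodule (ZMod 3) (Fin 8 → ZMod 3),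
      3 ≤ finrank (ZMod 3) R ∧ R ≤ U ∧ R ≤ B.orthogonal U := by
    by_cases hv : ∃ v ∈ U, Q v ≠ 0
    · obtain ⟨v, hv, hQv⟩ := hv
      refine ⟨U ⊓ LinearMap.ker (B v), ?_, inf_le_left, fun r hr n hn => ?_⟩
      · have h1 := Submodule.finrank_sup_add_finrank_inf_eq U (LinearMap.ker (B v))
        have h2 := (U ⊔ LinearMap.ker (B v)).finrank_le
        have h3 := LinearMap.finrank_range_add_finrank_ker (B v)
        have h4 := (LinearMap.range (B v)).finrank_le
        simp only [Module.finrank_fintype_fun_eq_card, Fintype.card_fin, Module.finrank_self] at h2 h3 h4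
        omega
      · obtain ⟨hrU, hrv⟩ := hr
        have hrv' : B v r = 0 := hrv
        have hQv' : Q v = -c := dneg _ _ hc hQv (hval v hv)
        have hQ0 : ∀ r' ∈ U, B v r' = 0 → Q r' = 0 := by
          intro r' hr' hvr
          have k := hval _ (U.add_mem hv hr')
          rw [hadd, hvr, add_zero, hQv'] at k
          exact dzero _ _ hc (hval _ hr') k
        show B n r = 0
        have hBvv : B v v ≠ 0 := by
          rw [hBself]; exact mul_ne_zero d2 hQv
        set k := B v n / B v v with hk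
        have hn' : n - k • v ∈ U := U.sub_mem hn (U.smul_mem k hv)
        have hvn : B v (n - k • v) = 0 := by
          rw [map_sub, map_smul, hk, smul_eq_mul, div_mul_cancel₀ _ hBvv, sub_self]
        have h5 : B (n - k • v) r = 0 := by
          have e1 := hQ0 _ (U.add_mem hn' hrU) (by rw [map_add, hvn, hrv', add_zero])
          rw [hadd, hQ0 _ hn' hvn, hQ0 _ hrU hrv'] at e1
          simpa using e1
        rw [map_sub, map_smul, LinearMap.sub_apply, LinearMap.smul_apply, hrv', smul_zero, sub_zero] at h5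
        exact h5
    · push Not at hv
      refine ⟨U, by omega, le_rfl, fun u hu n hn => ?_⟩
      show B n u = 0
      have e1 := hadd n u
      rw [hv _ (U.add_mem hn hu), hv _ hn, hv _ hu] at e1
      simpa using e1.symm
  obtain ⟨R, hR, hRU, hRperp⟩ := hrad
  -- two orthogonal points lie outside it
  set p := ψ (e 0) with hp
  set q := ψ (e 1) with hq
  have hpq : B p q = 0 := by
    rw [hBapp]
    exact ((hP.comm _ (he 0) _ (he 1)).1 hc01).resolve_left hne
  have hqp : B q p = 0 := by rw [hBapp, QuadraticMap.polar_comm, ← hBapp]; exact hpq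
  have h2c : ∀ i, B (ψ (e i)) (ψ (e i)) ≠ 0 := fun i => by
    rw [hBself, hP.norm _ (he i)]; exact mul_ne_zero d2 hc
  have hli : LinearIndependent (ZMod 3) ![p, q] := by
    refine LinearIndependent.pair_iff.2 fun s t hst => ⟨?_, ?_⟩
    · have := congrArg (B p) hst
      rw [map_add, map_smul, map_smul, hpq, map_zero, smul_zero, add_zero, smul_eq_mul] at this
      exact (mul_eq_zero.1 this).resolve_right (h2c 0)
    · have := congrArg (B q) hst
      rw [map_add, map_smul, map_smul, hqp, map_zero, smul_zero, zero_add, smul_eq_mul] at this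
      exact (mul_eq_zero.1 this).resolve_right (h2c 1)
  set P := Submodule.span (ZMod 3) (Set.range ![p, q]) with hPdef
  have hP2 : finrank (ZMod 3) P = 2 := by
    rw [hPdef, finrank_span_eq_card hli, Fintype.card_fin]
  have hdisj : R ⊓ P = ⊥ := by
    rw [Submodule.eq_bot_iff]
    rintro z ⟨hzR, hzP⟩
    obtain ⟨s, t, rfl⟩ := Submodule.mem_span_pair.1 (by simpa [hPdef, Set.pair_comm] using hzP)
    have k0 : B (ψ (e 0)) (s • p + t • q) = 0 := hperp _ (hRU hzR) 0
    have k1 : B (ψ (e 1)) (s • p + t • q) = 0 := hperp _ (hRU hzR) 1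
    rw [← hp, map_add, map_smul, map_smul, hpq, smul_zero, add_zero, smul_eq_mul] at k0
    rw [← hq, map_add, map_smul, map_smul, hqp, smul_zero, zero_add, smul_eq_mul] at k1
    rw [(mul_eq_zero.1 k0).resolve_right (h2c 0), (mul_eq_zero.1 k1).resolve_right (h2c 1)]
    simp
  have hsup : R ⊔ P ≤ B.orthogonal U := sup_le hRperp ((Submodule.span_le).2 (by
    rintro z ⟨i, rfl⟩
    fin_cases i
    exacts [haU 0, haU 1]))
  have h1 := Submodule.finrank_sup_add_finrank_inf_eq R P
  have h2 := Submodule.finrank_mono hsup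
  rw [hdisj, finrank_bot, hP2] at h1
  omega

end Points

variable {G : Type u} [Group G] [Finite G] {D : Set G}

theorem card_img_conj {V : Type u} [AddCommGroup V] [DistribMulAction G V] (W : Space D V) (g d : G) :
    Nat.card (img V (g * d * g⁻¹)) = Nat.card (img V d) := by
  refine (Nat.card_congr (Equiv.ofBijective (fun v : img V d => (⟨g • (v : V), ?_⟩ : img V (g * d * g⁻¹)))
    ⟨fun a b h => Subtype.ext (MulAction.injective g (congrArg Subtype.val h)), fun w => ?_⟩)).symm
  · obtain ⟨u, hu⟩ := mem_img.mp v.2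
    rw [← hu, ← eps_apply, W.eps_smul]
    exact eps_mem _ _
  · obtain ⟨u, hu⟩ := mem_img.mp w.2
    refine ⟨⟨g⁻¹ • (w : V), ?_⟩, Subtype.ext (smul_inv_smul g _)⟩
    rw [← hu, ← eps_apply, W.eps_smul, show g⁻¹ * (g * d * g⁻¹) * g⁻¹⁻¹ = d by group]
    exact eps_mem _ _

/-- The commuting graph of the image is connected. -/
theorem semi_false {V : Type u} [AddCommGroup V] [DistribMulAction G V] (W : Space D V)
    {X : Type u} [Group X] [Finite X] {E : Set X} (I : Img D X E) (hS : Semi E)
    (hdisc : ¬ (Cfsg.commutingGraph E).Connected) : False := by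
  classical
  have H := W.hyp
  have hs := hS.hE.closed.set
  obtain ⟨L, hL⟩ := hS.split hdisc
  have hn := hL.normal
  obtain ⟨a, ha, -⟩ := hS.hE.two
  have hgood := hL.good_cover ha
  have h3 := hL.three_dvd_out hS
  -- a member commuting with four given ones
  have hfour : ∀ e : Fin 4 → coverGroup L a, (∀ i, e i ∈ coverClass E L a) → e 0 ≠ e 1 → Commute (e 0) (e 1) →
      ∃ f ∈ coverClass E L a, ∀ i, Commute f (e i) := by
    intro e he hne hc01
    rcases hL.kinds hS ha (Classif.classify_all _ (hL.good a ha)) with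
      (⟨m, hm, h⟩ | ⟨m, hm, h⟩) | ⟨n, hn6, Q, hQ, c, hc, h⟩
    · rcases hL.out_oPlus ha hm h with ⟨rfl, -, -⟩ | h2
      · obtain ⟨Q', ψ, hψ, -⟩ := Classif.oPlusFour_points h
        exact orth_four hψ e he
      · rw [h2] at h3; omega
    · rw [hL.out_oMinus ha hm h] at h3; omega
    · rcases hL.out_refl ha hn6 hQ hc h with ⟨rfl, -, -, -⟩ | h2
      · obtain ⟨ψ, hψ⟩ := Classif.KindPts.refl_points Q c (by norm_num) hQ hc h
        exact refl_four hψ e he hne hc01
      · exact absurd h3 h2
  -- a commuting pair in another coset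
  obtain ⟨b, hb, hab⟩ := hL.other a ha
  obtain ⟨x, hx, y, hy, hxy, hxyc⟩ := hS.pair
  obtain ⟨g, rfl⟩ := hS.hE.class_eq x hx b hb
  set b := g * x * g⁻¹ with hbdef
  set b' := g * y * g⁻¹ with hb'def
  have hb' : b' ∈ E := hS.hE.closed.conj g y hy
  have hbb : Commute b b' := (commute_conj_iff g x y).2 hxyc
  have hbne : b ≠ b' := fun k => hxy (by simpa [hbdef, hb'def] using k)
  have hfar : ∀ e ∈ cosetClass E L a, ¬ Commute b e ∧ ¬ Commute b' e := by
    intro e he
    have h1 : ¬ Commute b e := fun k => hab (by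
      have := L.mul_mem he.2 (L.inv_mem (hL.same hb he.1 k))
      rwa [mul_inv_rev, inv_inv, mul_assoc, mul_inv_cancel_left] at this)
    refine ⟨h1, fun k => h1 ?_⟩
    exact absurd (L.mul_mem he.2 (L.inv_mem (L.mul_mem (hL.same hb hb' hbb) (hL.same hb' he.1 k)))) (fun hh => hab (by
      simpa [mul_assoc] using hh))
  set h := b * b' with hh
  have hswap : ∀ e ∈ cosetClass E L a,
      h * e * h⁻¹ ∈ cosetClass E L a ∧ Commute e (h * e * h⁻¹) ∧ h * e * h⁻¹ ≠ e := by
    intro e he
    obtain ⟨f1, f2⟩ := Classif.four_swap hs hb hb' he.1 hbb (hfar e he).1 (hfar e he).2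
    refine ⟨⟨hS.hE.closed.conj h e he.1, ?_⟩, f1, fun k => hbne ?_⟩
    · have := L.mul_mem he.2 (hL.same he.1 (hS.hE.closed.conj h e he.1) f1)
      rwa [mul_assoc, mul_inv_cancel_left] at this
    · rw [← hh, k, mul_self hs he.1] at f2
      simpa using f2
  have hhinv : h * h = 1 := by
    rw [hh, hbb.symm.mul_mul_mul_comm, mul_self hs hb, mul_self hs hb', one_mul]
  -- the cover has no twins
  have hcov : ∀ f ∈ cosetClass E L a, ∀ f' ∈ cosetClass E L a,
      (∀ e ∈ cosetClass E L a, Commute f e ↔ Commute f' e) → f = f' := by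
    intro f hf f' hf' hiff
    have mem : ∀ z, z ∈ cosetClass E L a → z ∈ coverGroup L a := fun z hz => Classif.mem_coverGroup hz.2
    have hcc : ConjClosed (coverClass E L a) := hgood.set.hD.closed
    have hv : VRel (coverClass E L a) ⟨f, mem f hf⟩ ⟨f', mem f' hf'⟩ := ⟨hf, hf', fun z hz => by
      have k := hiff (z : X) hz
      exact ⟨fun r => Subtype.ext (k.2 (r.map (coverGroup L a).subtype)).eq,
        fun r => Subtype.ext (k.1 (r.map (coverGroup L a).subtype)).eq⟩⟩
    have h2 := hv.mul_mem_pCore hcc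
    have hbot : pCore 2 (coverGroup L a) = ⊥ :=
      le_bot_iff.1 ((hgood.set.hD.cores_of_primitive hgood.set.prim hgood.set.pair).1.trans hgood.triv.le)
    rw [hbot, Subgroup.mem_bot, mul_eq_one_iff_eq' hcc.set hv.2.1] at h2
    exact congrArg Subtype.val h2
  have key : ∀ f ∈ cosetClass E L a, ∃ e ∈ cosetClass E L a, ¬ (Commute f e ↔ Commute f (h * e * h⁻¹)) := by
    intro f hf
    by_contra hno
    push Not at hno
    obtain ⟨hmem, -, hne⟩ := hswap f hf
    refine hne (hcov _ hmem f hf fun e he => ?_)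
    have he' := (hswap e he).1
    have k1 : Commute (h * f * h⁻¹) e ↔ Commute f (h * e * h⁻¹) := by
      conv_lhs => rw [← commute_conj_iff h]
      have hi : h⁻¹ = h := inv_eq_of_mul_eq_one_right hhinv
      rw [show h * (h * f * h⁻¹) * h⁻¹ = f by
        rw [hi]; simp only [mul_assoc, hhinv, mul_one]; rw [← mul_assoc, hhinv, one_mul]]
    exact k1.trans (hno e he).symm
  -- three pairs and three members telling them apart
  have hea : a ∈ cosetClass E L a := ⟨ha, by simp [L.one_mem]⟩
  obtain ⟨e1, he1, k1⟩ := key a hea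
  obtain ⟨e2, he2, k2⟩ := key e1 he1
  have mem : ∀ z, z ∈ cosetClass E L a → z ∈ coverGroup L a := fun z hz => Classif.mem_coverGroup hz.2
  obtain ⟨he1', c1, n1⟩ := hswap e1 he1
  obtain ⟨he2', -, -⟩ := hswap e2 he2
  obtain ⟨f3, hf3, c3⟩ := hfour ![⟨e1, mem _ he1⟩, ⟨_, mem _ he1'⟩, ⟨e2, mem _ he2⟩, ⟨_, mem _ he2'⟩]
    (fun i => by fin_cases i <;> assumption) (fun k => n1 (congrArg Subtype.val k).symm) (Subtype.ext c1.eq)
  obtain ⟨e3, he3, k3⟩ := key (f3 : X) hf3
  -- lifts
  obtain ⟨A, hA, eA⟩ := I.lift hb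
  obtain ⟨C, hC, eC⟩ := I.lift hb'
  obtain ⟨F1, hF1, eF1⟩ := I.lift ha
  obtain ⟨E1, hE1, eE1⟩ := I.lift he1.1
  obtain ⟨E2, hE2, eE2⟩ := I.lift he2.1
  obtain ⟨E3, hE3, eE3⟩ := I.lift he3.1
  obtain ⟨F3, hF3, eF3⟩ := I.lift hf3.1
  set hG := A * C with hhG
  have ehG : I.η hG = h := by rw [hhG, map_mul, eA, eC]
  have step : ∀ {F E' : G}, F ∈ D → E' ∈ D →
      ¬ (Commute (I.η F) (I.η E') ↔ Commute (I.η F) (h * I.η E' * h⁻¹)) →
      ∀ v ∈ img V E', eps V F (v + hG • v) = 0 → v = 0 := by
    intro F E' hF hE' hk v hv h0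
    have hE'' := H.closed.conj hG E' hE'
    have hv' : hG • v ∈ img V (hG * E' * hG⁻¹) := by
      obtain ⟨u, hu⟩ := mem_img.mp hv
      rw [← hu, ← eps_apply, W.eps_smul]; exact eps_mem _ _
    rw [show h * I.η E' * h⁻¹ = I.η (hG * E' * hG⁻¹) by simp [ehG], I.comm_iff hF hE',
      I.comm_iff hF hE''] at hk
    by_cases hc : Commute F E'
    · have hc' : ¬ Commute F (hG * E' * hG⁻¹) := fun r => hk ⟨fun _ => r, fun _ => hc⟩
      rw [map_add, W.eps_perp hE' hF hc.symm hv, zero_add] at h0
      exact (smul_eq_zero_iff_eq hG).1 (W.eps_inj hE'' hF (fun r => hc' r.symm) hv' h0)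
    · have hc' : Commute F (hG * E' * hG⁻¹) := by_contra fun r => hk ⟨fun k => absurd k hc, fun k => absurd k r⟩
      rw [map_add, W.eps_perp hE'' hF hc'.symm hv', add_zero] at h0
      exact W.eps_inj hE' hF (fun r => hc r.symm) hv h0
  have kill : ∀ {F E' : G}, F ∈ D → E' ∈ D → Commute (I.η F) (I.η E') → Commute (I.η F) (h * I.η E' * h⁻¹) →
      ∀ v ∈ img V E', eps V F (v + hG • v) = 0 := by
    intro F E' hF hE' hc hc' v hv
    have hE'' := H.closed.conj hG E' hE'
    rw [show h * I.η E' * h⁻¹ = I.η (hG * E' * hG⁻¹) by simp [ehG], I.comm_iff hF hE''] at hc'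
    rw [I.comm_iff hF hE'] at hc
    have hv' : hG • v ∈ img V (hG * E' * hG⁻¹) := by
      obtain ⟨u, hu⟩ := mem_img.mp hv
      rw [← hu, ← eps_apply, W.eps_smul]; exact eps_mem _ _
    rw [map_add, W.eps_perp hE' hF hc.symm hv, W.eps_perp hE'' hF hc'.symm hv', add_zero]
  have hdec : ∀ v : V, v + hG • v = eps V A (C • v) + eps V C v := fun v => by
    rw [eps_apply, eps_apply, hhG, mul_smul]
    calc v + A • C • v = (C • v + C • v) + (v + A • C • v) := by rw [W.mod.add_self, zero_add]
      _ = _ := by abel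
  let f : img V E1 × img V E2 × img V E3 → img V A × img V C := fun v =>
    (⟨eps V A (C • ((v.1 : V) + v.2.1 + v.2.2)), eps_mem _ _⟩, ⟨eps V C ((v.1 : V) + v.2.1 + v.2.2), eps_mem _ _⟩)
  have hinj : Function.Injective f := by
    intro v v' hvv
    have e1' := congrArg (fun p => (p.1 : V)) hvv
    have e2' := congrArg (fun p => (p.2 : V)) hvv
    simp only [f] at e1' e2'
    set u1 := (v.1 : V) + v'.1 with hu1
    set u2 := (v.2.1 : V) + v'.2.1 with hu2
    set u3 := (v.2.2 : V) + v'.2.2 with hu3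
    have hsum : u1 + hG • u1 + (u2 + hG • u2) + (u3 + hG • u3) = 0 := by
      have : (u1 + u2 + u3) + hG • (u1 + u2 + u3) = 0 := by
        rw [hdec]
        have eu : u1 + u2 + u3 = ((v.1 : V) + v.2.1 + v.2.2) + ((v'.1 : V) + v'.2.1 + v'.2.2) := by
          rw [hu1, hu2, hu3]; abel
        rw [eu, smul_add, map_add, map_add, e1', e2', W.mod.add_self, W.mod.add_self, add_zero]
      rw [← this, smul_add hG (u1 + u2) u3, smul_add hG u1 u2]; abel
    have m1 : u1 ∈ img V E1 := add_mem v.1.2 v'.1.2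
    have m2 : u2 ∈ img V E2 := add_mem v.2.1.2 v'.2.1.2
    have m3 : u3 ∈ img V E3 := add_mem v.2.2.2 v'.2.2.2
    have z3 : u3 = 0 := step hF3 hE3 (by rw [eF3, eE3]; exact k3) u3 m3 (by
      have := congrArg (eps V F3) hsum
      rw [map_zero, map_add, map_add,
        kill hF3 hE1 (by rw [eF3, eE1]; exact (c3 0).map (coverGroup L a).subtype)
          (by rw [eF3, eE1]; exact (c3 1).map (coverGroup L a).subtype) u1 m1,
        kill hF3 hE2 (by rw [eF3, eE2]; exact (c3 2).map (coverGroup L a).subtype)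
          (by rw [eF3, eE2]; exact (c3 3).map (coverGroup L a).subtype) u2 m2, zero_add, zero_add] at this
      exact this)
    rw [z3, smul_zero, add_zero, add_zero] at hsum
    have z2 : u2 = 0 := step hE1 hE2 (by rw [eE1, eE2]; exact k2) u2 m2 (by
      have := congrArg (eps V E1) hsum
      rw [map_zero, map_add, kill hE1 hE1 (Commute.refl _) (by rw [eE1]; exact c1) u1 m1, zero_add] at this
      exact this)
    rw [z2, smul_zero, add_zero, add_zero] at hsum
    have z1 : u1 = 0 := step hF1 hE1 (by rw [eF1, eE1]; exact k1) u1 m1 (by rw [hsum, map_zero])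
    exact Prod.ext (Subtype.ext (W.mod.eq_of_add z1))
      (Prod.ext (Subtype.ext (W.mod.eq_of_add z2)) (Subtype.ext (W.mod.eq_of_add z3)))
  have hfin := W.fin
  have hcard := Nat.card_le_card_of_injective f hinj
  have hk : ∀ d ∈ D, Nat.card (img V d) = Nat.card (img V A) := fun d hd => by
    obtain ⟨z, rfl⟩ := class_conj H.cls hA hd
    exact card_img_conj W z A
  simp only [Nat.card_prod, hk _ hE1, hk _ hE2, hk _ hE3, hk _ hC] at hcard
  obtain ⟨v0, hv0, hv0'⟩ := W.exists_ne hA
  have h2 : 1 < Nat.card (img V A) :=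
    Finite.one_lt_card_iff_nontrivial.2 ⟨⟨0, zero_mem _⟩, ⟨v0, hv0⟩, fun k => hv0' (congrArg Subtype.val k).symm⟩
  have := Nat.mul_lt_mul_of_pos_left (Nat.mul_lt_mul_of_pos_left h2 (show 0 < Nat.card (img V A) by omega))
    (show 0 < 1 by omega)
  nlinarith

end CfsgLib.TwoRadGen
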