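import Mathlib
import Cfsg.Agent.Lib.TwoRadGen.PlaneCase
import Cfsg.Agent.Lib.TwoRadGen.SplitKill
import Cfsg.Agent.Lib.TwoRadical.SUThree

/-!
# The dichotomy, from what happens for each kind of connected image
-/

set_option autoImplicit false
set_option linter.unusedSectionVars false

namespace CfsgLib.TwoRadGen

open Cfsg CfsgLib.ThreeTrans CfsgLib.TwoRadical
open CfsgLib.ThreeTrans.Classif (Known)

universe u

variable {G : Type u} [Group G] [Finite G]

theorem dichotomy_of {D : Set G} (hD : Cfsg.IsThreeTranspositionClass D) (hZ : Subgroup.center G = ⊥)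
    (hF : Cfsg.generalizedFittingSubgroup G = Cfsg.pCore 2 G)
    (hknown : ∀ {V : Type u} [AddCommGroup V] [DistribMulAction G V], Space D V →
      ∀ {X : Type u} [Group X] [Finite X] {E : Set X}, Img D X E → IsThreeTranspositionGroup E → IsPrimitiveUnderConj E →
        Known E → Goal G ∨ ExcUnitary G) :
    (Cfsg.IsElementaryAbelian 2 (Cfsg.pCore 2 G) ∧ ∃ K : Subgroup G, (Cfsg.pCore 2 G).IsComplement' K) ∨
      ∃ (F : Type) (_ : Field F) (_ : Fintype F), Fintype.card F = 4 ∧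
        (Nonempty (G ⧸ Cfsg.pCore 2 G ≃* ↥(commutator ↥(Cfsg.SU 3 F 2))) ∨
          Nonempty (G ⧸ Cfsg.pCore 2 G ≃* ↥(Cfsg.SU 5 F 2)) ∨ Nonempty (G ⧸ Cfsg.pCore 2 G ≃* ↥(Cfsg.SU 7 F 2))) := by
  have H : Hyp D := ⟨hD, hZ, hF ▸ CfsgLib.Components.centralizer_generalizedFitting_le⟩
  rcases H.meets_or_exc with hM | ⟨⟨e⟩⟩
  swap
  · obtain ⟨e'⟩ := derived_equiv_of_card GF4.card_four
    exact Or.inr ⟨GF4, inferInstance, inferInstance, GF4.card_four, Or.inl ⟨e.symm.trans e'⟩⟩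
  obtain ⟨V, iV, iA, ⟨W⟩⟩ := H.exists_space hM
  suffices h : Goal G ∨ ExcUnitary G by
    rcases h with h | h
    · exact Or.inl h
    · exact Or.inr ⟨GF4, inferInstance, inferInstance, GF4.card_four, Or.inr h⟩
  by_cases h3 : pCore 3 (G ⧸ pCore 2 G) ≤ Subgroup.center (G ⧸ pCore 2 G)
  swap
  · exact Or.inl (goal_of_three W h3)
  obtain ⟨X, iX, iF, E, ⟨I⟩, hE, hcX, h2, h3', -⟩ := H.exists_img h3
  rcases known_or_semi hE hcX h2 h3' with hk | ⟨hdisc, hS⟩
  · exact hknown W I hk.2.1 hk.2.2 hk.1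
  · exact (semi_false W I hS hdisc).elim

end CfsgLib.TwoRadGen
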