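import Cfsg.Agent.Lib.TwoRadical.Construct

/-!
# Products of members with the same image modulo the 2-core
-/

set_option autoImplicit false
set_option linter.unusedSectionVars false

namespace CfsgLib.TwoRadGen

open Cfsg CfsgLib.ThreeTrans CfsgLib.TwoRadical

universe u

variable {G : Type u} [Group G] [Finite G] {D : Set G}

/-- The standing hypotheses. -/
structure Hyp (D : Set G) : Prop where
  cls : IsThreeTranspositionClass D
  center : Subgroup.center G = ⊥
  cent : Subgroup.centralizer (pCore 2 G : Set G) ≤ pCore 2 G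

/-- The same image modulo the 2-core. -/
def Same (d e : G) : Prop := (QuotientGroup.mk d : G ⧸ pCore 2 G) = QuotientGroup.mk e

/-- The group of products of members over one image. -/
def A (D : Set G) (d : G) : Subgroup G :=
  Subgroup.closure {x | ∃ a ∈ D, ∃ b ∈ D, Same a d ∧ Same b d ∧ x = a * b}

namespace Hyp

variable (H : Hyp D)
include H

theorem closed : ConjClosed D := conjClosed_of_class H.cls

theorem set : IsThreeTranspositionSet D := H.cls.1

theorem two : ∃ a ∈ D, ∃ b ∈ D, a ≠ b := by
  by_contra h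
  push Not at h
  obtain ⟨d, hd, -⟩ := H.cls.2.1
  have hc := mem_center_of_commute H.cls.2.2 (x := d) (fun x hx => by rw [h d hd x hx])
  rw [H.center, Subgroup.mem_bot] at hc
  exact ne_one H.set hd hc

theorem commute_same {e d d' : G} (he : e ∈ D) (hd' : d' ∈ D) (h : Same d d') (hc : Commute e d) :
    Commute e d' :=
  commute_of_mk H.cls he hd' (by rw [← h]; exact hc.map (QuotientGroup.mk' (pCore 2 G)))

theorem same_commute {d d' : G} (hd : d ∈ D) (hd' : d' ∈ D) (h : Same d d') : Commute d d' :=
  H.commute_same hd hd' h (Commute.refl d)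

theorem not_commute_same {e d d' : G} (he : e ∈ D) (hd : d ∈ D) (h : Same d d')
    (hc : ¬ Commute e d) : ¬ Commute e d' :=
  fun k => hc (H.commute_same he hd h.symm k)

theorem mul_mem_A {a b d : G} (ha : a ∈ D) (hb : b ∈ D) (h : Same a d) (h' : Same b d) : a * b ∈ A D d :=
  Subgroup.subset_closure ⟨a, ha, b, hb, h, h', rfl⟩

theorem A_le (d : G) : A D d ≤ pCore 2 G := by
  rw [A, Subgroup.closure_le]
  rintro _ ⟨a, ha, b, hb, h, h', rfl⟩
  rw [SetLike.mem_coe, ← QuotientGroup.eq_one_iff, QuotientGroup.mk_mul, h, ← h', ← QuotientGroup.mk_mul,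
    mul_self H.set hb, QuotientGroup.mk_one]

theorem A_comm_member {e d : G} (he : e ∈ D) (hd : d ∈ D) (hc : Commute e d) {x : G} (hx : x ∈ A D d) :
    Commute e x := by
  induction hx using Subgroup.closure_induction with
  | mem x hx =>
    obtain ⟨a, ha, b, hb, h, h', rfl⟩ := hx
    exact (H.commute_same he ha h.symm hc).mul_right (H.commute_same he hb h'.symm hc)
  | one => exact Commute.one_right e
  | mul x y _ _ ihx ihy => exact ihx.mul_right ihy
  | inv x _ ih => exact ih.inv_right

theorem A_comm {d e : G} (hd : d ∈ D) (he : e ∈ D) (hc : Commute d e) {x y : G} (hx : x ∈ A D d)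
    (hy : y ∈ A D e) : Commute x y := by
  induction hx using Subgroup.closure_induction with
  | mem x hx =>
    obtain ⟨a, ha, b, hb, h, h', rfl⟩ := hx
    exact (H.A_comm_member ha he (H.commute_same he ha h.symm hc.symm).symm hy).mul_left
      (H.A_comm_member hb he (H.commute_same he hb h'.symm hc.symm).symm hy)
  | one => exact Commute.one_left y
  | mul a b _ _ iha ihb => exact iha.mul_left ihb
  | inv a _ ih => exact ih.inv_left

theorem A_sq {d : G} (hd : d ∈ D) {x : G} (hx : x ∈ A D d) : x * x = 1 := by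
  induction hx using Subgroup.closure_induction with
  | mem x hx =>
    obtain ⟨a, ha, b, hb, h, h', rfl⟩ := hx
    have hc := H.same_commute ha hb (h.trans h'.symm)
    rw [hc.symm.mul_mul_mul_comm, mul_self H.set ha, mul_self H.set hb, one_mul]
  | one => rw [one_mul]
  | mul a b ha hb iha ihb => rw [(H.A_comm hd hd (Commute.refl d) hb ha).mul_mul_mul_comm, iha, ihb, one_mul]
  | inv a _ ih => rw [← _root_.mul_inv_rev, ih, inv_one]

theorem conj_A (g : G) {d x : G} (hx : x ∈ A D d) : g * x * g⁻¹ ∈ A D (g * d * g⁻¹) := by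
  induction hx using Subgroup.closure_induction with
  | mem x hx =>
    obtain ⟨a, ha, b, hb, h, h', rfl⟩ := hx
    rw [show g * (a * b) * g⁻¹ = g * a * g⁻¹ * (g * b * g⁻¹) by group]
    refine H.mul_mem_A (H.closed.conj g a ha) (H.closed.conj g b hb) ?_ ?_ <;>
      simp only [Same, QuotientGroup.mk_mul, QuotientGroup.mk_inv]
    · rw [h]
    · rw [h']
  | one => simp
  | mul a b _ _ iha ihb => simpa [mul_assoc] using mul_mem iha ihb
  | inv a _ ih => simpa [mul_assoc] using inv_mem ih

theorem same_conj_of_mem {q : G} (hq : q ∈ pCore 2 G) (d : G) : Same (q * d * q⁻¹) d := by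
  simp only [Same, QuotientGroup.mk_mul, QuotientGroup.mk_inv, (QuotientGroup.eq_one_iff q).mpr hq,
    one_mul, inv_one, mul_one]

theorem A_congr {d d' : G} (h : Same d d') : A D d = A D d' := by
  rw [A, A]
  congr 1
  ext x
  simp only [Set.mem_ofPred_eq]
  constructor <;> rintro ⟨a, ha, b, hb, h1, h2, rfl⟩
  · exact ⟨a, ha, b, hb, h1.trans h, h2.trans h, rfl⟩
  · exact ⟨a, ha, b, hb, h1.trans h.symm, h2.trans h.symm, rfl⟩

theorem conj_A_of_mem {q : G} (hq : q ∈ pCore 2 G) {d x : G} (hx : x ∈ A D d) : q * x * q⁻¹ ∈ A D d := by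
  rw [← H.A_congr (H.same_conj_of_mem hq d)]
  exact H.conj_A q hx

theorem commutator_mem_A {q : G} (hq : q ∈ pCore 2 G) {d : G} (hd : d ∈ D) : q * d * q⁻¹ * d ∈ A D d :=
  H.mul_mem_A (H.closed.conj q d hd) hd (H.same_conj_of_mem hq d) rfl

/-- An element of the 2-core fixed by a product of two members is fixed by both. -/
theorem commute_of_commute_prod {q d e : G} (hq : q ∈ pCore 2 G) (hd : d ∈ D) (he : e ∈ D)
    (hne : ¬ Commute d e) (h : Commute (d * e) q) : Commute d q := by
  have hs := H.set
  set d' := q * d * q⁻¹ with hd'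
  have hd'D : d' ∈ D := H.closed.conj q d hd
  have hnc : ¬ Commute e d' := H.not_commute_same he hd (H.same_conj_of_mem hq d).symm fun k => hne k.symm
  set y := q * d * q⁻¹ * d with hy
  have hyQ : y ∈ pCore 2 G := H.A_le d (H.commutator_mem_A hq hd)
  set t := e * d with ht
  have hqt : Commute t q := by
    have h2 := h.inv_left
    rwa [mul_inv_rev, inv_eq hs hd, inv_eq hs he] at h2
  have hyt : Commute t (e * y * e) := by
    have hdqd : Commute t (d * q⁻¹ * d) := by
      have h2 := (Commute.conj_iff d).mpr hqt.inv_left.inv_right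
      rw [inv_eq hs hd] at h2
      have e1 : d * t⁻¹ * d = t := by
        rw [ht, mul_inv_rev, inv_eq hs hd, inv_eq hs he]; simp [mul_assoc, mul_self_mul hs hd, mul_self hs hd]
      rwa [e1] at h2
    have hyc : Commute t y := by
      have : y = q * (d * q⁻¹ * d) := by rw [hy]; simp [mul_assoc]
      rw [this]
      exact hqt.mul_right hdqd
    have h1 := (Commute.conj_iff e).mpr hyc.inv_left
    rw [inv_eq hs he, show e * t⁻¹ * e = e * d from by
      rw [ht, mul_inv_rev, inv_eq hs hd, inv_eq hs he]; simp [mul_assoc, mul_self hs he]] at h1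
    exact h1
  have h3 := pow_three_of_not_commute hs he hd'D hnc
  have hey : e * d' = e * y * e * t := by
    rw [ht, hy, hd']; simp [mul_assoc, mul_self_mul hs he, mul_self hs hd]
  have ht3 : t ^ 3 = 1 := pow_three_of_not_commute hs he hd fun k => hne k.symm
  rw [hey, hyt.symm.mul_pow, ht3, mul_one] at h3
  have : Fact (Nat.Prime 2) := ⟨Nat.prime_two⟩
  have hy1 : e * y * e = 1 := eq_one_of_mem_pGroup Nat.prime_two Nat.prime_three (by norm_num)
    (CfsgLib.PCore.pCore_isPGroup (G := G) (p := 2))
    (by have := (pCore_normal 2 G).conj_mem y hyQ e; rwa [inv_eq hs he] at this) h3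
  have hy2 : y = 1 := by
    have := congrArg (fun x => e * x * e) hy1
    simpa [mul_assoc, mul_self_mul hs he, mul_self hs he] using this
  rw [hy, mul_eq_one_iff_eq_inv, inv_eq hs hd, mul_inv_eq_iff_eq_mul] at hy2
  exact hy2.symm

theorem commute_of_commute_prod' {q d e : G} (hq : q ∈ pCore 2 G) (hd : d ∈ D) (he : e ∈ D)
    (hne : ¬ Commute d e) (h : Commute (d * e) q) : Commute e q := by
  have h1 := H.commute_of_commute_prod hq hd he hne h
  have h2 := h1.mul_left h
  rwa [← mul_assoc, mul_self H.set hd, one_mul] at h2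

end Hyp

end CfsgLib.TwoRadGen
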