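import Mathlib
import Cfsg.Agent.Lib.TwoRadGen.Interface
import Cfsg.Agent.Lib.TwoRadGen.Binary.Section
import Cfsg.Agent.Lib.TwoRadGen.Binary.Model
import Cfsg.Agent.Lib.ThreeTrans.Classif.KindPoints
import Cfsg.Agent.Lib.ThreeTrans.Classif.FromSym

/-!
# Symmetric, symplectic and orthogonal quotients over two elements

Each of these classes is a set of even subsets of a finite set with the overlap rule, so it has no affine
triangles and its members can be chosen as a closed section.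
-/

set_option autoImplicit false
set_option linter.unusedSectionVars false

namespace CfsgLib.TwoRadGen

open Cfsg CfsgLib.ThreeTrans CfsgLib.TwoRadical
open CfsgLib.TwoRadGen.Binary
open CfsgLib.ThreeTrans.Classif (SymPts SympPts OrthPts KindSym KindSp KindOPlus KindOMinus)
open scoped symmDiff

universe u v w

variable {G : Type u} [Group G] [Finite G] {D : Set G}
variable {V : Type u} [AddCommGroup V] [DistribMulAction G V]
variable {X : Type v} [Group X] {E : Set X}

namespace Binary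

/-- A class modelled by even sets with the overlap rule. -/
structure Chart (E : Set X) {n : ℕ} (P : Finset (Fin n) → Prop) (χ : X → Finset (Fin n)) : Prop where
  bij : Set.BijOn χ E {x | P x}
  even : ∀ x, P x → Even x.card
  comm : ∀ a ∈ E, ∀ b ∈ E, (Commute a b ↔ Even (χ a ∩ χ b).card)
  conj : ∀ a ∈ E, ∀ b ∈ E, χ (a * b * a) = op (χ a) (χ b)

/-- A chart with closed selections gives both conclusions. -/
theorem goal_of_chart (W : Space D V) (I : Img D X E) {n : ℕ} {P : Finset (Fin n) → Prop}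
    {χ : X → Finset (Fin n)} (hC : Chart E P χ)
    (hsel : ∀ S : Fibres G P, ∃ σ, S.Sel σ ∧ ∀ x, P x → ∀ y, P y → Fibres.Good σ x y) : Goal G := by
  have H := W.hyp
  have hEc : ∀ a ∈ E, ∀ b ∈ E, a * b * a ∈ E := fun a ha b hb => by
    obtain ⟨d, hd, rfl⟩ := I.lift ha
    obtain ⟨e, he, rfl⟩ := I.lift hb
    rw [← map_mul, ← map_mul]
    exact I.mem (conj_mem_left H.closed hd he)
  have hmem : ∀ {d : G}, d ∈ D → P (χ (I.η d)) := fun hd => hC.bij.mapsTo (I.mem hd)
  have hsame : ∀ {d e : G}, d ∈ D → e ∈ D → χ (I.η d) = χ (I.η e) → Same d e := fun hd he h =>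
    I.same _ hd _ he (hC.bij.injOn (I.mem hd) (I.mem he) h)
  have hN : NoAffine D := I.noAffine H fun a ha b hb c hc h1 h2 h3 => by
    rw [hC.comm c hc _ (hEc a ha b hb), hC.conj a ha b hb]
    rw [hC.comm a ha b hb, Nat.not_even_iff_odd] at h1
    rw [hC.comm a ha c hc, Nat.not_even_iff_odd] at h2
    rw [hC.comm b hb c hc, Nat.not_even_iff_odd] at h3
    rw [op_odd h1, ← bp_eq_zero, bp_symmDiff_right, bp_comm, bp_eq_one.2 h2, bp_comm, bp_eq_one.2 h3]
    decide
  have htriv := W.noAffine_core hN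
  let S : Fibres G P :=
    { F := fun x => {d | d ∈ D ∧ χ (I.η d) = x}
      ne := fun x hx => by
        obtain ⟨a, ha, hax⟩ := hC.bij.surjOn hx
        obtain ⟨d, hd, rfl⟩ := I.lift ha
        exact ⟨d, hd, hax⟩
      sq := fun x _ a ha => mul_self H.set ha.1
      mul := fun x y _ _ a ⟨ha, hax⟩ b ⟨hb, hby⟩ => ⟨conj_mem_left H.closed ha hb, by
        rw [map_mul, map_mul, hC.conj _ (I.mem ha) _ (I.mem hb), hax, hby]⟩
      comm := fun x y _ _ he a ⟨ha, hax⟩ b ⟨hb, hby⟩ =>
        I.comm a ha b hb ((hC.comm _ (I.mem ha) _ (I.mem hb)).2 (by rwa [hax, hby]))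
      braid := fun x y _ _ ho a ⟨ha, hax⟩ b ⟨hb, hby⟩ => braid H.set ha hb fun k => by
        have := (hC.comm _ (I.mem ha) _ (I.mem hb)).1 (k.map I.η)
        rw [hax, hby] at this
        exact Nat.not_even_iff_odd.2 ho this
      even := hC.even
      closed := fun x y hx hy => by
        obtain ⟨a, ha, rfl⟩ := hC.bij.surjOn hx
        obtain ⟨b, hb, rfl⟩ := hC.bij.surjOn hy
        exact hC.conj a ha b hb ▸ hC.bij.mapsTo (hEc a ha b hb) }
  obtain ⟨σ, hσ, hgood⟩ := hsel S
  refine ⟨W.elementary htriv, W.split_of_section htriv (σ '' {x | P x}) ?_ (fun d hd => ?_) ?_ ?_⟩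
  · rintro _ ⟨x, hx, rfl⟩
    exact (hσ x hx).1
  · exact ⟨_, ⟨_, hmem hd, rfl⟩, hsame hd (hσ _ (hmem hd)).1 (hσ _ (hmem hd)).2.symm⟩
  · rintro _ ⟨x, hx, rfl⟩ _ ⟨y, hy, rfl⟩ h
    have := congrArg χ (I.eq_of_same h)
    rw [(hσ x hx).2, (hσ y hy).2] at this
    rw [this]
  · rintro _ ⟨x, hx, rfl⟩ _ ⟨y, hy, rfl⟩
    exact ⟨op x y, S.closed x y hx hy, (hgood x hx y hy).symm⟩

/-- The chart of a class of points of a space with simplex. -/
theorem chart_of_simplex {M : Type w} [AddCommGroup M] [Module (ZMod 2) M]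
    {B : M →ₗ[ZMod 2] M →ₗ[ZMod 2] ZMod 2} (halt : ∀ x, B x x = 0) {n r : ℕ} {u : Fin n → M}
    (h : Simplex B u) {good : M → Prop} (hpt : ∀ x, Even x.card → (Pt n r x ↔ good (Simplex.vec u x)))
    {ψ : X → M} (hbij : Set.BijOn ψ E {z | good z})
    (hcomm : ∀ a ∈ E, ∀ b ∈ E, (Commute a b ↔ B (ψ a) (ψ b) = 0))
    (hconj : ∀ a ∈ E, ∀ b ∈ E, ψ (a * b * a) = ψ b + B (ψ a) (ψ b) • ψ a) :
    ∃ χ, Chart E (Pt n r) χ := by
  choose χ hev hvec using fun a : X => h.exists_even (ψ a)
  refine ⟨χ, ⟨⟨fun a ha => ?_, fun a ha b hb e => ?_, fun x hx => ?_⟩, fun x hx => hx.2.1, fun a ha b hb => ?_,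
    fun a ha b hb => ?_⟩⟩
  · refine (hpt _ (hev a)).2 ?_
    rw [hvec]
    exact hbij.mapsTo ha
  · exact hbij.injOn ha hb (by rw [← hvec a, ← hvec b, e])
  · obtain ⟨a, ha, hax⟩ := hbij.surjOn ((hpt x hx.2.1).1 hx)
    exact ⟨a, ha, h.vec_inj halt (hev a) hx.2.1 (by rw [hvec, hax])⟩
  · rw [hcomm a ha b hb, ← hvec a, ← hvec b, h.B_vec_even halt (hev a), bp_eq_zero]
  · refine h.vec_inj halt (hev _) ?_ ?_
    · by_cases ho : Odd (χ a ∩ χ b).card
      · rw [op_odd ho]
        have := card_symmDiff (χ a) (χ b)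
        have := Nat.even_iff.1 (hev a)
        have := Nat.even_iff.1 (hev b)
        rw [Nat.even_iff]
        omega
      · rw [op_even (Nat.not_odd_iff_even.1 ho)]; exact hev b
    · rw [h.vec_op halt (hev a), hvec, hvec, hvec, hconj a ha b hb]

/-- Symplectic point models give both conclusions. -/
theorem goal_of_symp {M : Type w} [AddCommGroup M] [Module (ZMod 2) M] [Finite M]
    {B : M →ₗ[ZMod 2] M →ₗ[ZMod 2] ZMod 2} {ψ : X → M} (W : Space D V) (I : Img D X E)
    (h : SympPts E B ψ) (hcard : 2 ^ 6 ≤ Nat.card M) : Goal G := by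
  obtain ⟨n, r, u, hd, hs, hpt⟩ := exists_sp_model h.alt h.sep hcard
  obtain ⟨χ, hχ⟩ := chart_of_simplex h.alt hs hpt h.bij h.comm h.conj
  exact goal_of_chart W I hχ fun S => Fibres.exists_closed hd S

/-- Orthogonal point models give both conclusions. -/
theorem goal_of_orth {M : Type w} [AddCommGroup M] [Module (ZMod 2) M] [Finite M]
    {Q : QuadraticForm (ZMod 2) M} {ψ : X → M} (W : Space D V) (I : Img D X E)
    (h : OrthPts E Q ψ) (hcard : 2 ^ 6 ≤ Nat.card M) : Goal G := by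
  obtain ⟨n, r, u, hd, hs, hpt⟩ := exists_orth_model Q h.sep hcard
  obtain ⟨χ, hχ⟩ := chart_of_simplex (polar_self Q) hs hpt h.bij
    (fun a ha b hb => by rw [QuadraticMap.polarBilin_apply_apply]; exact h.comm a ha b hb)
    (fun a ha b hb => by rw [QuadraticMap.polarBilin_apply_apply]; exact h.conj a ha b hb)
  exact goal_of_chart W I hχ fun S => Fibres.exists_closed hd S

theorem card_space (ι : Type) [Fintype ι] :
    Nat.card (ι → ZMod 2) = 2 ^ Fintype.card ι := by
  rw [Nat.card_fun, Nat.card_zmod, Nat.card_eq_fintype_card]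

end Binary

variable {m n : ℕ}

/-- A symmetric quotient. -/
theorem goal_sym (W : Space D V) (I : Img D X E) (_hn : 5 ≤ n) (h : KindSym E n) : Goal G := by
  obtain ⟨ψ, hψ, -, -⟩ := CfsgLib.ThreeTrans.Classif.sym_points h
  have key : ∀ a ∈ E, ∀ b ∈ E, Odd (ψ a ∩ ψ b).card ↔ (ψ a ∩ ψ b).card = 1 := fun a ha b hb => by
    have h2 : (ψ a).card = 2 := hψ.bij.mapsTo ha
    have := Finset.card_le_card (Finset.inter_subset_left : ψ a ∩ ψ b ⊆ ψ a)
    rw [Nat.odd_iff]
    omega
  refine goal_of_chart W I (χ := ψ) ⟨hψ.bij, fun x (hx : x.card = 2) => hx ▸ even_two, fun a ha b hb => ?_,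
    fun a ha b hb => ?_⟩ fun S => S.exists_sym fun _ => Iff.rfl
  · have h2 : (ψ a).card = 2 := hψ.bij.mapsTo ha
    have h2' : (ψ b).card = 2 := hψ.bij.mapsTo hb
    rw [hψ.comm a ha b hb, ← Nat.not_odd_iff_even, key a ha b hb]
    constructor
    · rintro (rfl | hd)
      · rw [Finset.inter_self]; omega
      · rw [Finset.disjoint_iff_inter_eq_empty.1 hd, Finset.card_empty]; omega
    · intro k
      have := Finset.card_le_card (Finset.inter_subset_left : ψ a ∩ ψ b ⊆ ψ a)
      rcases (show (ψ a ∩ ψ b).card = 0 ∨ (ψ a ∩ ψ b).card = 2 by omega) with k' | k'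
      · exact Or.inr (Finset.disjoint_iff_inter_eq_empty.2 (Finset.card_eq_zero.1 k'))
      · have e1 : ψ a ∩ ψ b = ψ a :=
          Finset.eq_of_subset_of_card_le Finset.inter_subset_left (by omega)
        have e2 : ψ a ∩ ψ b = ψ b :=
          Finset.eq_of_subset_of_card_le Finset.inter_subset_right (by omega)
        exact Or.inl (hψ.bij.injOn ha hb (e1.symm.trans e2))
  · rw [hψ.conj a ha b hb]
    by_cases ho : Odd (ψ a ∩ ψ b).card
    · rw [op_odd ho, if_pos ((key a ha b hb).1 ho)]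
    · rw [op_even (Nat.not_odd_iff_even.1 ho), if_neg (mt (key a ha b hb).2 ho)]

/-- A symplectic quotient. -/
theorem goal_sp (W : Space D V) (I : Img D X E) (hm : 3 ≤ m) (h : KindSp E m) : Goal G := by
  obtain ⟨ψ, hψ⟩ := CfsgLib.ThreeTrans.Classif.KindPoints.sp_points h
  refine goal_of_symp W I hψ ?_
  rw [card_space, CfsgLib.ThreeTrans.Classif.KindPoints.card_plus_index]
  exact Nat.pow_le_pow_right two_pos (by omega)

/-- An orthogonal quotient of plus type. -/
theorem goal_oPlus (W : Space D V) (I : Img D X E) (hm : 4 ≤ m) (h : KindOPlus E m) : Goal G := by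
  obtain ⟨ψ, hψ⟩ := CfsgLib.ThreeTrans.Classif.KindPoints.oPlus_points h
  refine goal_of_orth W I hψ ?_
  rw [card_space, CfsgLib.ThreeTrans.Classif.KindPoints.card_plus_index]
  exact Nat.pow_le_pow_right two_pos (by omega)

/-- An orthogonal quotient of minus type in dimension `2m + 2`. -/
theorem goal_oMinus (W : Space D V) (I : Img D X E) (hm : 2 ≤ m) (h : KindOMinus E m) : Goal G := by
  obtain ⟨ψ, hψ⟩ := CfsgLib.ThreeTrans.Classif.KindPoints.oMinus_points h
  refine goal_of_orth W I hψ ?_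
  rw [card_space, CfsgLib.ThreeTrans.Classif.KindPoints.card_minus_index]
  exact Nat.pow_le_pow_right two_pos (by omega)

end CfsgLib.TwoRadGen
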