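import Mathlib
import Cfsg.Agent.Lib.TwoRadGen.Interface

/-!
# Five members with a forbidden relation
-/

set_option autoImplicit false
set_option linter.unusedSectionVars false

namespace CfsgLib.TwoRadGen

open Cfsg CfsgLib.ThreeTrans CfsgLib.TwoRadical
open CfsgLib.TwoRadicalSU (Vec hf tv)

universe u

/-- Five isotropic vectors: an affine triangle with two vertices hanging on its third corner. -/
def fivePat : Pattern 5 4 where
  p := ![![0, 0, 1, 1], ![0, 0, GF4.w, GF4.w * GF4.w], ![0, 1, 0, 1], ![1, 1, 0, 0], ![1, 1, 0, 0]]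
  par := ![0, 0, 0, 2, 2]
  three := by norm_num
  iso := by decide +kernel
  tri := by decide +kernel
  tree := by decide +kernel
  other := by decide +kernel

/-- The word, four times over. -/
def fiveWord : List (Fin 5) :=
  [2, 1, 3, 2, 4, 0, 2, 1, 3, 2, 4, 0, 2, 1, 3, 2, 4, 0, 2, 1, 3, 2, 4, 0]

theorem fiveWord_bad : ∀ ζ : GF4, ∃ i,
    hf ((fun x => fiveWord.foldr (fun i y => tv (fivePat.p i) y) x) (fivePat.p fivePat.o)) (fivePat.p i) ≠
      ζ * hf (fivePat.p fivePat.o) (fivePat.p i) := by
  decide +kernel

variable {G : Type u} [Group G] [Finite G] {D : Set G}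

/-- The five members cannot satisfy that relation. -/
theorem five_false {V : Type u} [AddCommGroup V] [DistribMulAction G V] (W : Space D V)
    {X : Type*} [Group X] {E : Set X} (I : Img D X E) (x : Fin 5 → X) (hx : ∀ i, x i ∈ E)
    (hc : ∀ i j, Commute (x i) (x j) ↔ hf (fivePat.p i) (fivePat.p j) = 0)
    (haff : ¬ Commute (x 2) (x 0 * x 1 * x 0)) (hrel : ∀ e ∈ E, Commute (fiveWord.map x).prod e) : False := by
  choose d hd he using fun i => I.lift (hx i)
  let F : Framed D V 5 4 :=
    { W := W, P := fivePat, d := d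
      real := ⟨hd, fun i j => by rw [← I.comm_iff (hd i) (hd j), he, he]; exact hc i j, fun k => haff (by
        have h := k.map I.η
        simpa [map_mul, he, fivePat, Pattern.o, Pattern.e₁, Pattern.e₂] using h)⟩ }
  have hM := F.acts_list fiveWord
  have hz : Central D (fiveWord.map d).prod := fun e he' => I.same _ (W.hyp.closed.conj _ e he') e he' (by
    have h1 : I.η (fiveWord.map d).prod = (fiveWord.map x).prod := by
      rw [map_list_prod, List.map_map, show I.η ∘ d = x from funext he]
    rw [map_mul, map_mul, map_inv, h1, (hrel _ (I.mem he')).eq, mul_inv_cancel_right])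
  obtain ⟨ζ, h, -⟩ := F.central_scalar hz hM
  obtain ⟨i, hi⟩ := fiveWord_bad ζ
  exact hi (h i)

end CfsgLib.TwoRadGen
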