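import Mathlib
import Cfsg.Agent.Lib.TwoRadGen.KillFive
import Cfsg.Agent.Lib.ThreeTrans.TypeStep

/-!
# Five members with a forbidden relation pass up through centralisers
-/

set_option autoImplicit false
set_option linter.unusedSectionVars false

namespace CfsgLib.TwoRadGen

open Cfsg CfsgLib.ThreeTrans CfsgLib.TwoRadical
open CfsgLib.TwoRadicalSU (Vec hf tv)

universe u v

/-- Five members with the pattern such that the `m`-th power of the product along the word commutes with them. -/
def FiveIn {X : Type v} [Group X] (E : Set X) (m : ℕ) : Prop :=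
  ∃ x : Fin 5 → X, (∀ i, x i ∈ E) ∧ (∀ i j, Commute (x i) (x j) ↔ hf (fivePat.p i) (fivePat.p j) = 0) ∧
    ¬ Commute (x 2) (x 0 * x 1 * x 0) ∧ ∀ i, Commute ((fiveWord.map x).prod ^ m) (x i)

/-- The word, sixteen times over. -/
def fiveWord4 : List (Fin 5) := fiveWord ++ fiveWord ++ fiveWord ++ fiveWord

theorem fiveWord4_bad : ∀ ζ : GF4, ∃ i,
    hf ((fun x => fiveWord4.foldr (fun i y => tv (fivePat.p i) y) x) (fivePat.p fivePat.o)) (fivePat.p i) ≠
      ζ * hf (fivePat.p fivePat.o) (fivePat.p i) := by
  decide +kernel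

theorem FiveIn.mono {X : Type v} [Group X] {E : Set X} {m m' : ℕ} (h : FiveIn E m) (hm : m ∣ m') :
    FiveIn E m' := by
  obtain ⟨x, hx, hc, haff, hrel⟩ := h
  obtain ⟨k, rfl⟩ := hm
  exact ⟨x, hx, hc, haff, fun i => by rw [pow_mul]; exact (hrel i).pow_left k⟩

theorem FiveIn.map {X Y : Type*} [Group X] [Group Y] {E : Set X} {E' : Set Y} {m : ℕ} (h : FiveIn E m)
    (e : X ≃* Y) (he : e '' E = E') : FiveIn E' m := by
  obtain ⟨x, hx, hc, haff, hrel⟩ := h
  refine ⟨e ∘ x, fun i => he ▸ ⟨_, hx i, rfl⟩, fun i j => ?_, fun k => haff ?_, fun i => ?_⟩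
  · rw [← hc i j]; exact commute_map_iff e.injective
  · rw [← commute_map_iff e.injective, map_mul, map_mul]; exact k
  · rw [← List.map_map, ← map_list_prod, ← map_pow]; exact (hrel i).map e

theorem five_in_false {G : Type u} [Group G] [Finite G] {D : Set G} {V : Type u} [AddCommGroup V]
    [DistribMulAction G V] (W : Space D V) {X : Type*} [Group X] {E : Set X} (I : Img D X E) {m : ℕ}
    (h : FiveIn E m) (hm : m ∣ 4) : False := by
  obtain ⟨x, hx, hc, haff, hrel⟩ := h.mono hm
  choose d hd he using fun i => I.lift (hx i)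
  let F : Framed D V 5 4 :=
    { W := W, P := fivePat, d := d
      real := ⟨hd, fun i j => by rw [← I.comm_iff (hd i) (hd j), he, he]; exact hc i j, fun k => haff (by
        have h := k.map I.η
        simpa [map_mul, he, fivePat, Pattern.o, Pattern.e₁, Pattern.e₂] using h)⟩ }
  have hM := F.acts_list fiveWord4
  have hz : ∀ i, Same ((fiveWord4.map d).prod * d i * ((fiveWord4.map d).prod)⁻¹) (d i) := fun i => by
    refine I.same _ (W.hyp.closed.conj _ _ (hd i)) _ (hd i) ?_
    have h1 : I.η (fiveWord4.map d).prod = (fiveWord.map x).prod ^ 4 := by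
      rw [map_list_prod, List.map_map, show I.η ∘ d = x from funext he, fiveWord4, List.map_append, List.map_append,
        List.map_append, List.prod_append, List.prod_append, List.prod_append]
      simp only [pow_succ, pow_zero, one_mul]
    rw [map_mul, map_mul, map_inv, h1, he, (hrel i).eq, mul_inv_cancel_right]
  obtain ⟨ζ, h, -⟩ := F.central_scalar_local hz hM
  obtain ⟨i, hi⟩ := fiveWord4_bad ζ
  exact hi (h i)

/-- Members commuting modulo the centre commute. -/
theorem commute_of_quot {X : Type v} [Group X] {E : Set X} (hE : IsThreeTranspositionSet E) {H : Subgroup X}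
    {x y : H} (hx : (x : X) ∈ E) (hy : (y : X) ∈ E)
    (h : Commute (x : H ⧸ Subgroup.center H) (y : H ⧸ Subgroup.center H)) : Commute x y := by
  by_contra hn
  have hn' : ¬ Commute (x : X) (y : X) := fun k => hn (Subtype.ext k.eq)
  have hb : x * y * x = y * x * y := Subtype.ext (braid hE hx hy hn')
  have h1 : (QuotientGroup.mk (x * y * x) : H ⧸ Subgroup.center H) = QuotientGroup.mk y := by
    rw [QuotientGroup.mk_mul, QuotientGroup.mk_mul, h.eq, mul_assoc, ← QuotientGroup.mk_mul,
      show x * x = 1 from Subtype.ext (mul_self hE hx), QuotientGroup.mk_one, mul_one]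
  have h2 : (QuotientGroup.mk (y * x * y) : H ⧸ Subgroup.center H) = QuotientGroup.mk x := by
    rw [QuotientGroup.mk_mul, QuotientGroup.mk_mul, ← h.eq, mul_assoc, ← QuotientGroup.mk_mul,
      show y * y = 1 from Subtype.ext (mul_self hE hy), QuotientGroup.mk_one, mul_one]
  rw [hb, h2] at h1
  have hc := Subgroup.mem_center_iff.mp (QuotientGroup.eq.mp h1) x
  refine hn ?_
  rw [← mul_assoc, mul_inv_cancel, one_mul] at hc
  show x * y = y * x
  conv_lhs => rw [hc]
  group

/-- One level up. -/
theorem FiveIn.lift {X : Type v} [Group X] {E : Set X} (hE : IsThreeTranspositionSet E) {d : X} {m : ℕ}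
    (h : FiveIn (imgSet E d (QuotientGroup.mk' (Subgroup.center (Hd E d)))) m) : FiveIn E (2 * m) := by
  obtain ⟨y, hy, hc, haff, hrel⟩ := h
  choose -- the lifts
    _hne x hx hxy using hy
  obtain rfl : y = fun i => QuotientGroup.mk' (Subgroup.center (Hd E d)) (x i) := funext fun i => (hxy i).symm
  refine ⟨fun i => (x i : X), fun i => (hx i).1, fun i j => ?_, fun k => haff ?_, fun i => ?_⟩
  · rw [← hc i j]
    exact ⟨fun k => Commute.map (show Commute (x i) (x j) from Subtype.ext k.eq) _,
      fun k => congrArg Subtype.val (commute_of_quot hE (hx i).1 (hx j).1 k).eq⟩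
  · have := Commute.map (show Commute (x 2) (x 0 * x 1 * x 0) from Subtype.ext k.eq)
      (QuotientGroup.mk' (Subgroup.center (Hd E d)))
    simpa [map_mul] using this
  · set z := (fiveWord.map x).prod ^ m with hz
    have hzm : Commute (z : Hd E d ⧸ Subgroup.center (Hd E d)) (x i : Hd E d ⧸ Subgroup.center (Hd E d)) := by
      have h' := hrel i
      rw [show (fiveWord.map fun i => QuotientGroup.mk' (Subgroup.center (Hd E d)) (x i)).prod =
        QuotientGroup.mk' (Subgroup.center (Hd E d)) (fiveWord.map x).prod by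
          rw [map_list_prod, List.map_map]; rfl, ← map_pow] at h'
      exact h'
    set c := (x i)⁻¹ * (z * x i * z⁻¹) with hc'
    have hcc : c ∈ Subgroup.center (Hd E d) := QuotientGroup.eq.mp (by
      rw [QuotientGroup.mk_mul, QuotientGroup.mk_mul, QuotientGroup.mk_inv, hzm.eq, mul_inv_cancel_right])
    have hxx : x i * x i = 1 := Subtype.ext (mul_self hE (hx i).1)
    have hconj : z * x i * z⁻¹ = x i * c := by rw [hc', mul_inv_cancel_left]
    have hsq : c * c = 1 := by
      have h1 : (z * x i * z⁻¹) * (z * x i * z⁻¹) = 1 := by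
        rw [show z * x i * z⁻¹ * (z * x i * z⁻¹) = z * (x i * x i) * z⁻¹ by group, hxx, mul_one, mul_inv_cancel]
      rwa [hconj, (show Commute (x i) c from Subgroup.mem_center_iff.mp hcc _).symm.mul_mul_mul_comm, hxx,
        one_mul] at h1
    have hfin : Commute (z * z) (x i) := by
      have h : x i = z * z * x i * (z * z)⁻¹ := by
        calc x i = x i * c * c := by rw [mul_assoc, hsq, mul_one]
          _ = z * x i * z⁻¹ * c := by rw [hconj]
          _ = z * x i * (c * z⁻¹) := by rw [mul_assoc, Subgroup.mem_center_iff.mp hcc z⁻¹]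
          _ = z * (x i * c) * z⁻¹ := by group
          _ = z * (z * x i * z⁻¹) * z⁻¹ := by rw [hconj]
          _ = z * z * x i * (z * z)⁻¹ := by group
      exact mul_inv_eq_iff_eq_mul.mp h.symm
    have hv := congrArg Subtype.val hfin.eq
    rw [two_mul, pow_add]
    have e : (fiveWord.map fun i => (x i : X)).prod = ((fiveWord.map x).prod : Hd E d) := by
      rw [← Subgroup.coe_subtype, map_list_prod, List.map_map]; rfl
    rw [e, ← Subgroup.coe_pow]
    exact hv

end CfsgLib.TwoRadGen
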