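import Mathlib
import Cfsg.Agent.Lib.TwoRadGen.FischerLift
import Cfsg.Agent.Lib.ThreeTrans.Inst.FiTwentyTwoModel
import Cfsg.Agent.Lib.ThreeTrans.Tower.Types

/-!
# The five members exist in the groups of type M(22), M(23), M(24)
-/

set_option autoImplicit false
set_option maxRecDepth 8000

namespace CfsgLib.TwoRadGen

open Cfsg CfsgLib.ThreeTrans CfsgLib.TwoRadical CfsgLib.Presented
open CfsgLib.Presented.Fi22UCosets (ev)
open CfsgLib.ThreeTrans.Inst.FiTwentyTwo (evW_cat evW_eq_one phi_word)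
open CfsgLib.TwoRadicalSU (hf)
open Fi22UCert (rep)

universe u

/-- Conjugators of the base transposition giving the five members. -/
def fiConj : Fin 5 → List ℕ :=
  ![[7, 8, 3, 7, 4, 3] ++ [1, 2, 0, 1], [5, 4, 3, 2] ++ [0, 1], [8] ++ [3, 7, 2, 3, 1, 2, 0, 1],
    [2, 3, 1, 2, 0, 1], [7, 8, 3, 7, 2, 3, 1, 2, 0, 1]]

/-- The five members as words. -/
def fiMem (i : Fin 5) : List ℕ := fiConj i ++ [0] ++ (fiConj i).reverse

/-- Some of the first points is moved. -/
def moved (w : List ℕ) : Bool := (List.range 64).any fun k => Vec.netPerm (rep.netW w) k != k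

theorem evW_ne_one {w : List ℕ} (hlt : ∀ x ∈ w, x < Fi22UCert.alphabet.eps) (h : moved w = true)
    (hN : 64 ≤ rep.N) : evW ev w ≠ 1 := by
  intro e
  obtain ⟨k, hk, hne⟩ := List.any_eq_true.mp h
  rw [List.mem_range] at hk
  have h' := phi_word hlt ⟨k, lt_of_lt_of_le hk hN⟩
  rw [e, map_one, Equiv.Perm.one_apply] at h'
  simp [← h'] at hne

theorem fiMem_lt : ∀ i, ∀ x ∈ fiMem i, x < Fi22UCert.alphabet.eps := by decide +kernel

theorem fi_inv : ∀ i, rep.relsOK [fiConj i ++ (fiConj i).reverse] = true ∧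
    rep.relsOK [fiMem i ++ fiMem i] = true := by decide +kernel

theorem fi_comm : ∀ i j, if hf (fivePat.p i) (fivePat.p j) = 0
    then rep.relsOK [fiMem i ++ fiMem j ++ (fiMem i ++ fiMem j)] = true
    else moved (fiMem i ++ fiMem j ++ (fiMem i ++ fiMem j)) = true := by decide +kernel

theorem fi_aff : moved (fiMem 2 ++ (fiMem 0 ++ fiMem 1 ++ fiMem 0) ++
    (fiMem 2 ++ (fiMem 0 ++ fiMem 1 ++ fiMem 0))) = true := by decide +kernel

theorem fi_rel : rep.relsOK [(fiveWord.map fiMem).flatten] = true := by decide +kernel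

theorem evW_flatten : ∀ L : List (List ℕ), evW ev L.flatten = (L.map (evW ev)).prod
  | [] => by simp [evW]
  | l :: L => by rw [List.flatten_cons, evW_cat, evW_flatten L, List.map_cons, List.prod_cons]

theorem fiveIn_fi22 : FiveIn CfsgLib.ThreeTrans.Inst.FiTwentyTwo.D 1 := by
  set x : Fin 5 → Cfsg.Spor.Fi22 := fun i => evW ev (fiMem i) with hx
  have hsq : ∀ i, x i * x i = 1 := fun i => by rw [hx, ← evW_cat]; exact evW_eq_one (fi_inv i).2
  have hN : 64 ≤ rep.N := by decide +kernel
  refine ⟨x, fun i => ?_, fun i j => ?_, fun k => ?_, fun i => ?_⟩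
  · refine CfsgLib.ThreeTrans.Inst.FiTwentyTwo.P.mem_D.2 ⟨evW ev (fiConj i), ?_⟩
    have h := evW_eq_one (fi_inv i).1
    rw [evW_cat] at h
    show _ = evW ev (fiConj i ++ [0] ++ (fiConj i).reverse)
    rw [evW_cat, evW_cat, eq_inv_of_mul_eq_one_right h]
    rfl
  · have key := fi_comm i j
    have e : evW ev (fiMem i ++ fiMem j ++ (fiMem i ++ fiMem j)) = x i * x j * (x i * x j) := by
      rw [evW_cat, evW_cat]
    constructor
    · intro k
      by_contra hne
      rw [if_neg hne] at key
      refine evW_ne_one ?_ key hN ?_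
      · simp only [List.mem_append]
        rintro y ((h | h) | (h | h)) <;> exact fiMem_lt _ y h
      · rw [e]
        nth_rewrite 1 [k.eq]
        rw [show x j * x i * (x i * x j) = x j * (x i * x i) * x j by group, hsq, mul_one, hsq]
    · intro h0
      rw [if_pos h0] at key
      have h := evW_eq_one key
      rw [e] at h
      calc x i * x j = x i * x j * (x i * x j) * ((x j)⁻¹ * (x i)⁻¹) := by group
        _ = (x j)⁻¹ * (x i)⁻¹ := by rw [h, one_mul]
        _ = x j * x i := by rw [inv_eq_of_mul_eq_one_right (hsq j), inv_eq_of_mul_eq_one_right (hsq i)]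
  · refine evW_ne_one ?_ fi_aff hN ?_
    · simp only [List.mem_append]
      rintro y ((h | (h | h) | h) | (h | (h | h) | h)) <;> exact fiMem_lt _ y h
    · simp only [evW_cat]
      change x 2 * (x 0 * x 1 * x 0) * (x 2 * (x 0 * x 1 * x 0)) = 1
      have h01 : x 0 * x 1 * x 0 * (x 0 * x 1 * x 0) = 1 := by
        rw [show x 0 * x 1 * x 0 * (x 0 * x 1 * x 0) = x 0 * (x 1 * (x 0 * x 0) * x 1) * x 0 by group, hsq, mul_one,
          hsq, mul_one, hsq]
      generalize x 0 * x 1 * x 0 = y at k h01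
      rw [show x 2 * y * (x 2 * y) = x 2 * (y * x 2) * y by group, ← k.eq,
        show x 2 * (x 2 * y) * y = x 2 * x 2 * (y * y) by group, hsq, h01, one_mul]
  · have h := evW_eq_one fi_rel
    rw [evW_flatten, List.map_map] at h
    rw [pow_one, show (fiveWord.map x).prod = 1 from h]
    exact Commute.one_left _

theorem fiveIn_22 {X : Type u} [Group X] [Finite X] {E : Set X} (hE : IsThreeTranspositionGroup E)
    (hp : IsPrimitiveUnderConj E) (h : IsOfTypeM22 X E) : FiveIn E 1 := by
  obtain ⟨e, he⟩ := CfsgLib.ThreeTrans.Inst.FiTwentyTwo.exists_equiv hE hp h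
  exact fiveIn_fi22.map e he

theorem fiveIn_23 {X : Type u} [Group X] [Finite X] {E : Set X} (hE : IsThreeTranspositionGroup E)
    (hp : IsPrimitiveUnderConj E) (h : IsOfTypeM23 X E) : FiveIn E 2 := by
  obtain ⟨d, c, -, -, hB, h22, -⟩ := Tower.bottom23 hE h
  exact (fiveIn_22 hB.img_group (Tower.prim22 hE hp hB h22) h22).lift hE.1

theorem fiveIn_24 {X : Type u} [Group X] [Finite X] {E : Set X} (hE : IsThreeTranspositionGroup E)
    (hp : IsPrimitiveUnderConj E) (h : IsOfTypeM24 X E) : FiveIn E 4 := by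
  obtain ⟨d, c, -, -, hB, h23⟩ := Tower.bottom24 hE hp h
  exact (fiveIn_23 hB.img_group (Tower.prim23 hE hp hB h23) h23).lift hE.1

theorem fischer_kill {G : Type u} [Group G] [Finite G] {D : Set G} {V : Type u} [AddCommGroup V]
    [DistribMulAction G V] (W : Space D V) {X : Type u} [Group X] [Finite X] {E : Set X} (I : Img D X E)
    (hE : IsThreeTranspositionGroup E) (hp : IsPrimitiveUnderConj E)
    (h : IsOfTypeM22 X E ∨ IsOfTypeM23 X E ∨ IsOfTypeM24 X E) : False := by
  rcases h with h | h | h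
  · exact five_in_false W I (fiveIn_22 hE hp h) (by norm_num)
  · exact five_in_false W I (fiveIn_23 hE hp h) (by norm_num)
  · exact five_in_false W I (fiveIn_24 hE hp h) (dvd_refl 4)

end CfsgLib.TwoRadGen
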