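import Mathlib
import Cfsg.Agent.Lib.TwoRadGen.KillFive
import Cfsg.Agent.Lib.ThreeTrans.Classif.Final

/-!
# Reflection images with six orthogonal vectors of the plus pattern are impossible
-/

set_option autoImplicit false
set_option linter.unusedSectionVars false

namespace CfsgLib.TwoRadGen

open Cfsg CfsgLib.ThreeTrans CfsgLib.TwoRadical
open CfsgLib.ThreeTrans.Classif (ReflPts)
open CfsgLib.TwoRadicalSU (hf)

universe u v

/-- The form of plus type. -/
def plusSix (f g : Fin 6 → ZMod 3) : ZMod 3 :=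
  2 * (f 0 * g 0 + f 1 * g 1 + f 2 * g 2 + f 3 * g 3 + f 4 * g 4 + 2 * (f 5 * g 5))

/-- Five vectors of norm one. -/
def fivePt : Fin 5 → Fin 6 → ZMod 3 :=
  ![![0, 1, 2, 2, 2, 0], ![1, 1, 1, 2, 0, 0], ![1, 2, 2, 0, 1, 0], ![1, 2, 2, 2, 1, 1], ![1, 1, 0, 2, 2, 0]]

theorem fivePt_norm : ∀ i, fivePt i 0 * fivePt i 0 + fivePt i 1 * fivePt i 1 + fivePt i 2 * fivePt i 2 +
    fivePt i 3 * fivePt i 3 + fivePt i 4 * fivePt i 4 + 2 * (fivePt i 5 * fivePt i 5) = 1 := by decide +kernel

theorem fivePt_ne : ∀ i j, i ≠ j → fivePt i ≠ fivePt j ∧ fivePt i ≠ -fivePt j := by decide +kernel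

theorem fivePt_comm : ∀ i j, i ≠ j → (plusSix (fivePt i) (fivePt j) = 0 ↔
    hf (fivePat.p i) (fivePat.p j) = 0) := by decide +kernel

theorem fivePt_iso : ∀ i, hf (fivePat.p i) (fivePat.p i) = 0 := fivePat.iso

theorem fivePt_aff : plusSix (fivePt 2) (fivePt 1 - plusSix (fivePt 0) (fivePt 1) • fivePt 0) ≠ 0 ∧
    fivePt 2 ≠ fivePt 1 - plusSix (fivePt 0) (fivePt 1) • fivePt 0 ∧
    fivePt 2 ≠ -(fivePt 1 - plusSix (fivePt 0) (fivePt 1) • fivePt 0) := by decide +kernel

/-- The coefficients moved by one reflection, given the values against the five vectors. -/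
def fiveStep (b : Fin 5 → ZMod 3) (i : Fin 5) (f : Fin 6 → ZMod 3) : Fin 6 → ZMod 3 :=
  f - (b i + plusSix f (fivePt i)) • fivePt i

theorem fiveWord_id : ∀ b : Fin 5 → ZMod 3, fiveWord.foldr (fun i f => fiveStep b i f) 0 = 0 := by
  decide +kernel

variable {G : Type u} [Group G] [Finite G] {D : Set G}

theorem refl_five_false {V : Type u} [AddCommGroup V] [DistribMulAction G V] (W : Space D V)
    {X : Type v} [Group X] {E : Set X} (I : Img D X E) (hE : ConjClosed E) {n : ℕ}
    {Q : QuadraticForm (ZMod 3) (Fin n → ZMod 3)} {c : ZMod 3} {ψ : X → Fin n → ZMod 3}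
    (hP : ReflPts E Q c ψ) (a : Fin 6 → Fin n → ZMod 3)
    (hQ : ∀ i, Q (a i) = if i = 5 then 2 * c else c)
    (horth : ∀ i j, i ≠ j → QuadraticMap.polar Q (a i) (a j) = 0) : False := by
  classical
  have hc := hP.ne
  have hpm : ∀ z, z = 1 ∨ z = -1 → z * z = (1 : ZMod 3) := by decide
  have hpm' : ∀ r : ZMod 3, r = 1 ∨ r = -1 → r ≠ 0 := by decide
  have hpm2 : ∀ p q : ZMod 3, (p = 1 ∨ p = -1) → (q = 1 ∨ q = -1) → p * q = 1 ∨ p * q = -1 := by decide
  have htwo : (2 : ZMod 3) ≠ 0 := by decide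
  have hsym01 : plusSix (fivePt 1) (fivePt 0) = plusSix (fivePt 0) (fivePt 1) := by decide +kernel
  have : Fact (Nat.Prime 3) := ⟨Nat.prime_three⟩
  have hdiv : ∀ r, r / c * c = r := fun r => div_mul_cancel₀ r hc
  set L : (Fin 6 → ZMod 3) → Fin n → ZMod 3 := fun f => ∑ k, f k • a k with hLdef
  have hadd : ∀ f g, L (f - g) = L f - L g := fun f g => by
    simp only [hLdef, Pi.sub_apply, sub_smul, Finset.sum_sub_distrib]
  have hsmul : ∀ (r : ZMod 3) f, L (r • f) = r • L f := fun r f => by
    simp only [hLdef, Pi.smul_apply, smul_eq_mul, Finset.smul_sum, smul_smul]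
  set B := Q.polarBilin with hBdef
  have hB : ∀ u z, B u z = QuadraticMap.polar Q u z := fun _ _ => rfl
  have hBa : ∀ f g, B (L f) (L g) = c * plusSix f g := by
    intro f g
    have hd : ∀ k, B (a k) (a k) = 2 * Q (a k) := fun k => by rw [hB, QuadraticMap.polar_self]; simp
    have e : ∀ k, B (a k) (L g) = g k * (2 * Q (a k)) := fun k => by
      rw [hLdef, map_sum, Finset.sum_eq_single k]
      · rw [map_smul, hd, smul_eq_mul]
      · intro l _ hl; rw [map_smul, hB, horth k l (Ne.symm hl), smul_zero]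
      · simp
    have e2 : B (L f) (L g) = ∑ k, f k * B (a k) (L g) := by
      conv_lhs => rw [show L f = ∑ k, f k • a k from rfl, map_sum B, LinearMap.sum_apply]
      exact Finset.sum_congr rfl fun k _ => by rw [map_smul, LinearMap.smul_apply, smul_eq_mul]
    rw [e2]
    simp only [e, hQ, plusSix, Fin.sum_univ_succ, Fin.sum_univ_zero]
    simp [Fin.ext_iff]
    ring
  have hself : ∀ f, B (L f) (L f) = 2 * Q (L f) := fun f => by rw [hB, QuadraticMap.polar_self]; simp
  have hnorm : ∀ i, Q (L (fivePt i)) = c := fun i => by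
    have h1 := (hself (fivePt i)).symm.trans (hBa _ _)
    have h2 := congrArg (fun z => 2 * c * z) (fivePt_norm i)
    have h4 : (4 : ZMod 3) = 1 := rfl
    simp only [mul_one] at h2
    calc Q (L (fivePt i)) = 4 * Q (L (fivePt i)) := by rw [h4, one_mul]
      _ = 2 * (c * plusSix (fivePt i) (fivePt i)) := by rw [← h1]; ring
      _ = 2 * (2 * c) := by rw [← h2, plusSix]; ring
      _ = c := by linear_combination c * h4
  have hinj : ∀ f, L f = 0 → f = 0 := fun f hf => by
    funext k
    have e := hBa f (Pi.single k 1)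
    rw [hf, map_zero, LinearMap.zero_apply] at e
    have e' : plusSix f (Pi.single k 1) = 0 := (mul_eq_zero.1 e.symm).resolve_left hc
    revert e'
    fin_cases k <;> simp [plusSix, htwo]
  choose x hx hxu using fun i => hP.surj _ (hnorm i)
  have hsgn : ∀ i, ∃ s : ZMod 3, (s = 1 ∨ s = -1) ∧ ψ (x i) = s • L (fivePt i) := fun i => by
    rcases hxu i with h | h
    · exact ⟨1, Or.inl rfl, by rw [one_smul, h]⟩
    · exact ⟨-1, Or.inr rfl, by rw [neg_one_smul, h]⟩
  choose s hs hsx using hsgn
  have hcomm : ∀ i j, Commute (x i) (x j) ↔ hf (fivePat.p i) (fivePat.p j) = 0 := by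
    intro i j
    rcases eq_or_ne i j with rfl | hij
    · exact ⟨fun _ => fivePt_iso i, fun _ => Commute.refl _⟩
    rw [hP.comm _ (hx i) _ (hx j), ← fivePt_comm i j hij, ← hB, hsx, hsx, map_smul, map_smul,
      LinearMap.smul_apply, hBa, smul_eq_mul, smul_eq_mul]
    constructor
    · rintro (h | h)
      · have h' := congrArg ψ h
        rw [hsx, hsx] at h'
        exfalso
        have h2 : L (fivePt i) = (s i * s j) • L (fivePt j) := by
          rw [← smul_smul, ← h', smul_smul, hpm _ (hs i), one_smul]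
        have h3 := hinj (fivePt i - (s i * s j) • fivePt j) (by rw [hadd, hsmul, h2, sub_self])
        rcases hpm2 _ _ (hs i) (hs j) with k | k <;> rw [k] at h3
        · exact (fivePt_ne i j hij).1 (by simpa [sub_eq_zero] using h3)
        · exact (fivePt_ne i j hij).2 (eq_of_sub_eq_zero (by simpa [neg_one_smul] using h3))
      · rcases mul_eq_zero.1 h with h | h
        · exact absurd h (hpm' _ (hs j))
        · rcases mul_eq_zero.1 h with h | h
          · exact absurd h (hpm' _ (hs i))
          · exact (mul_eq_zero.1 h).resolve_left hc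
    · intro h; right; rw [h]; ring
  -- one reflection on a vector given by coefficients
  have hrefl : ∀ i, ∀ e ∈ E, ∀ (t : ZMod 3) (v : Fin n → ZMod 3) (b : Fin 5 → ZMod 3) (f : Fin 6 → ZMod 3),
      (t = 1 ∨ t = -1) → (∀ k, B v (L (fivePt k)) = c * b k) → ψ e = t • (v + L f) →
      ∃ t' : ZMod 3, (t' = 1 ∨ t' = -1) ∧ ψ (x i * e * x i) = t' • (v + L (fiveStep b i f)) := by
    intro i e he t v b f ht hb hev
    have hcoef : QuadraticMap.polar Q (ψ (x i)) (ψ e) / c = s i * t * (b i + plusSix f (fivePt i)) := by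
      rw [← hB, hsx, hev, map_smul, map_smul, LinearMap.smul_apply, smul_eq_mul, smul_eq_mul,
        show B (L (fivePt i)) (v + L f) = B (v + L f) (L (fivePt i)) from by
          rw [hB, hB, QuadraticMap.polar_comm], map_add, LinearMap.add_apply, hb, hBa]
      rw [show t * (s i * (c * b i + c * plusSix f (fivePt i))) =
        s i * t * (b i + plusSix f (fivePt i)) * c by ring]
      exact mul_div_cancel_right₀ _ hc
    have h := hP.conj _ (hx i) e he
    simp only at h
    have hz : ψ e - (QuadraticMap.polar Q (ψ (x i)) (ψ e) / c) • ψ (x i) = t • (v + L (fiveStep b i f)) := by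
      rw [hcoef, hev, hsx, smul_smul, show s i * t * (b i + plusSix f (fivePt i)) * s i =
        t * (b i + plusSix f (fivePt i)) * (s i * s i) by ring, hpm _ (hs i), mul_one, fiveStep, hadd, hsmul,
        mul_smul, ← smul_sub, add_sub_assoc]
    rw [hz] at h
    rcases h with h | h
    · exact ⟨t, ht, h⟩
    · refine ⟨-t, ?_, by rw [h, neg_smul]⟩
      rcases ht with rfl | rfl
      · exact Or.inr rfl
      · exact Or.inl (neg_neg 1)
  refine five_false W I x hx hcomm (fun k => ?_) (fun e he => ?_)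
  · have hd : x 0 * x 1 * x 0 ∈ E := conj_mem_left hE (hx 0) (hx 1)
    obtain ⟨t, ht, h⟩ := hrefl 0 (x 1) (hx 1) (s 1) 0 0 (fivePt 1) (hs 1)
      (fun k => by rw [map_zero, LinearMap.zero_apply, Pi.zero_apply, mul_zero]) (by rw [zero_add, hsx])
    rw [zero_add, fiveStep, Pi.zero_apply, zero_add,
      hsym01] at h
    obtain ⟨k1, k2, k3⟩ := fivePt_aff
    rcases (hP.comm _ (hx 2) _ hd).1 k with k | k
    · rw [← k, hsx] at h
      have h2 : L (fivePt 2) =
          (s 2 * t) • L (fivePt 1 - plusSix (fivePt 0) (fivePt 1) • fivePt 0) := by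
        rw [← smul_smul, ← h, smul_smul, hpm _ (hs 2), one_smul]
      have h3 := hinj (fivePt 2 - (s 2 * t) • (fivePt 1 - plusSix (fivePt 0) (fivePt 1) • fivePt 0))
        (by rw [hadd, hsmul, h2, sub_self])
      rcases hpm2 _ _ (hs 2) ht with r | r <;> rw [r] at h3
      · exact k2 (eq_of_sub_eq_zero (by simpa using h3))
      · exact k3 (eq_of_sub_eq_zero (by simpa [neg_one_smul] using h3))
    · rw [← hB, hsx, h, map_smul, map_smul, LinearMap.smul_apply, hBa, smul_eq_mul, smul_eq_mul] at k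
      rcases mul_eq_zero.1 k with k | k
      · exact hpm' _ ht k
      · rcases mul_eq_zero.1 k with k | k
        · exact hpm' _ (hs 2) k
        · exact k1 ((mul_eq_zero.1 k).resolve_left hc)
  · set b : Fin 5 → ZMod 3 := fun k => B (ψ e) (L (fivePt k)) / c with hbdef
    have hb : ∀ k, B (ψ e) (L (fivePt k)) = c * b k := fun k => by rw [hbdef, mul_comm, hdiv]
    have key : ∀ l : List (Fin 5), ∃ t : ZMod 3, (t = 1 ∨ t = -1) ∧
        (l.map x).prod * e * (l.map x).prod⁻¹ ∈ E ∧
        ψ ((l.map x).prod * e * (l.map x).prod⁻¹) =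
          t • (ψ e + L (l.foldr (fun i f => fiveStep b i f) 0)) := by
      intro l
      induction l with
      | nil => exact ⟨1, Or.inl rfl, by simpa using he, by simp [hLdef]⟩
      | cons i l ih =>
        obtain ⟨t, ht, hm, hv⟩ := ih
        obtain ⟨t', ht', hv'⟩ := hrefl i _ hm t (ψ e) b _ ht hb hv
        have e1 : ((i :: l).map x).prod * e * ((i :: l).map x).prod⁻¹ =
            x i * ((l.map x).prod * e * (l.map x).prod⁻¹) * x i := by
          rw [List.map_cons, List.prod_cons, mul_inv_rev, ThreeTrans.inv_eq hE.set (hx i)]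
          simp only [mul_assoc]
        exact ⟨t', ht', by rw [e1]; exact conj_mem_left hE (hx i) hm, by rw [e1, List.foldr_cons]; exact hv'⟩
    obtain ⟨t, ht, hm, hv⟩ := key fiveWord
    rw [fiveWord_id b, show L 0 = 0 by simp [hLdef], add_zero] at hv
    refine mul_inv_eq_iff_eq_mul.1 (hP.inj _ hm _ he ?_)
    rcases ht with rfl | rfl
    · exact Or.inl (by rw [hv, one_smul])
    · exact Or.inr (by rw [hv, neg_one_smul])

end CfsgLib.TwoRadGen
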