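import Mathlib
import Cfsg.Agent.Lib.TwoRadGen.KillRefl

/-!
# Six orthogonal vectors of the plus pattern exist from dimension seven on
-/

set_option autoImplicit false
set_option linter.unusedSectionVars false

namespace CfsgLib.TwoRadGen

open Cfsg CfsgLib.ThreeTrans CfsgLib.TwoRadical
open CfsgLib.ThreeTrans.Classif (KindRefl ReflPts)

universe u v

section Vectors

open Module

variable {n : ℕ} {Q : QuadraticForm (ZMod 3) (Fin n → ZMod 3)}

/-- Orthogonal anisotropic vectors which do not fill the space leave an anisotropic vector. -/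
theorem exists_aniso (hQ : (QuadraticMap.polarBilin Q).Nondegenerate) {k : ℕ} (hk : k < n)
    (a : Fin k → Fin n → ZMod 3) (hne : ∀ i, Q (a i) ≠ 0)
    (ho : ∀ i j, i ≠ j → QuadraticMap.polar Q (a i) (a j) = 0) :
    ∃ v, (∀ i, QuadraticMap.polar Q (a i) v = 0) ∧ Q v ≠ 0 := by
  classical
  have htwo : (2 : ZMod 3) ≠ 0 := by decide
  have : Fact (Nat.Prime 3) := ⟨Nat.prime_three⟩
  set B := Q.polarBilin with hBdef
  have hB : ∀ u z, B u z = QuadraticMap.polar Q u z := fun _ _ => rfl
  set φ : (Fin n → ZMod 3) →ₗ[ZMod 3] (Fin k → ZMod 3) := LinearMap.pi fun i => B (a i) with hφ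
  by_contra hno
  push Not at hno
  have hU : ∀ u, u ∈ LinearMap.ker φ ↔ ∀ i, QuadraticMap.polar Q (a i) u = 0 := fun u => by
    rw [LinearMap.mem_ker, hφ, funext_iff]; rfl
  have hd : ∀ i, B (a i) (a i) ≠ 0 := fun i => by
    rw [hB, QuadraticMap.polar_self]; simpa using mul_ne_zero htwo (hne i)
  have hbot : LinearMap.ker φ = ⊥ := (Submodule.eq_bot_iff _).2 fun u hu => hQ.1 u fun z => by
    have hzero : ∀ u z, u ∈ LinearMap.ker φ → z ∈ LinearMap.ker φ → B u z = 0 := fun u z hu hz => by
      rw [hB, QuadraticMap.polar, hno _ ((hU _).1 (add_mem hu hz)), hno _ ((hU _).1 hu), hno _ ((hU _).1 hz)]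
      simp
    set z' := z - ∑ i, (B (a i) z / B (a i) (a i)) • a i with hz'
    have hz'U : z' ∈ LinearMap.ker φ := (hU _).2 fun j => by
      rw [← hB, hz', map_sub, map_sum, Finset.sum_eq_single j]
      · rw [map_smul, smul_eq_mul, div_mul_cancel₀ _ (hd j), sub_self]
      · intro i _ hi; rw [map_smul, show B (a j) (a i) = 0 from (hB _ _).trans (ho j i (Ne.symm hi)), smul_zero]
      · simp
    have e := hzero u z' hu hz'U
    rw [hz', map_sub, map_sum, Finset.sum_eq_zero (fun i _ => ?_), sub_zero] at e
    · exact e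
    · rw [map_smul, hB u, QuadraticMap.polar_comm, (hU u).1 hu i, smul_zero]
  have h1 := LinearMap.finrank_range_add_finrank_ker φ
  have h2 := (LinearMap.range φ).finrank_le
  rw [hbot, finrank_bot] at h1
  simp only [Module.finrank_fintype_fun_eq_card, Fintype.card_fin] at h1 h2
  omega

theorem exists_value (hQ : (QuadraticMap.polarBilin Q).Nondegenerate) {k : ℕ} (hk : k + 2 ≤ n)
    (a : Fin k → Fin n → ZMod 3) (hne : ∀ i, Q (a i) ≠ 0)
    (ho : ∀ i j, i ≠ j → QuadraticMap.polar Q (a i) (a j) = 0) {t : ZMod 3} (ht : t ≠ 0) :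
    ∃ v, (∀ i, QuadraticMap.polar Q (a i) v = 0) ∧ Q v = t := by
  obtain ⟨u, hu, hQu⟩ := exists_aniso hQ (by omega) a hne ho
  obtain ⟨w, hw, hQw⟩ := exists_aniso hQ (k := k + 1) (by omega) (Fin.snoc a u)
    (fun i => by induction i using Fin.lastCases with
      | last => simpa using hQu
      | cast i => simpa using hne i)
    (fun i j hij => by
      induction i using Fin.lastCases with
      | last => induction j using Fin.lastCases with
        | last => exact absurd rfl hij
        | cast j => simpa [QuadraticMap.polar_comm Q u] using hu j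
      | cast i => induction j using Fin.lastCases with
        | last => simpa using hu i
        | cast j => simpa using ho i j fun e => hij (e ▸ rfl))
  have hwu : QuadraticMap.polar Q u w = 0 := by simpa using hw (Fin.last k)
  have hwa : ∀ i, QuadraticMap.polar Q (a i) w = 0 := fun i => by simpa using hw i.castSucc
  have key : ∀ x y r : ZMod 3, x ≠ 0 → y ≠ 0 → r ≠ 0 → x = r ∨ y = r ∨ x + y = r := by decide
  rcases key _ _ t hQu hQw ht with h | h | h
  · exact ⟨u, hu, h⟩
  · exact ⟨w, hwa, h⟩
  · refine ⟨u + w, fun i => by rw [QuadraticMap.polar_add_right, hu i, hwa i, add_zero], ?_⟩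
    rw [QuadraticMap.map_add Q, hwu, add_zero, h]

/-- Orthogonal vectors with prescribed non-zero values, while two dimensions remain. -/
theorem exists_orth (hQ : (QuadraticMap.polarBilin Q).Nondegenerate) :
    ∀ k, k + 1 ≤ n → ∀ t : Fin k → ZMod 3, (∀ i, t i ≠ 0) →
      ∃ a : Fin k → Fin n → ZMod 3, (∀ i, Q (a i) = t i) ∧
        ∀ i j, i ≠ j → QuadraticMap.polar Q (a i) (a j) = 0 := by
  intro k
  induction k with
  | zero => intro _ t _; exact ⟨Fin.elim0, fun i => i.elim0, fun i => i.elim0⟩
  | succ k ih =>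
    intro hk t ht
    obtain ⟨a, ha, ho⟩ := ih (by omega) (fun i => t i.castSucc) fun i => ht _
    obtain ⟨v, hv, hQv⟩ := exists_value hQ (by omega) a (fun i => by rw [ha]; exact ht _) ho (ht (Fin.last k))
    refine ⟨Fin.snoc a v, fun i => ?_, fun i j hij => ?_⟩
    · induction i using Fin.lastCases with
      | last => simpa using hQv
      | cast i => simpa using ha i
    · induction i using Fin.lastCases with
      | last => induction j using Fin.lastCases with
        | last => exact absurd rfl hij
        | cast j => simpa [QuadraticMap.polar_comm Q v] using hv j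
      | cast i => induction j using Fin.lastCases with
        | last => simpa using hv i
        | cast j => simpa using ho i j fun e => hij (e ▸ rfl)

/-- In six dimensions: the plus pattern, or an orthogonal basis of one norm. -/
theorem six_alternative {Q : QuadraticForm (ZMod 3) (Fin 6 → ZMod 3)}
    (hQ : (QuadraticMap.polarBilin Q).Nondegenerate) {c : ZMod 3} (hc : c ≠ 0) :
    (∃ a : Fin 6 → Fin 6 → ZMod 3, (∀ i, Q (a i) = if i = 5 then 2 * c else c) ∧
        ∀ i j, i ≠ j → QuadraticMap.polar Q (a i) (a j) = 0) ∨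
      ∃ a : Fin 6 → Fin 6 → ZMod 3, (∀ i, Q (a i) = c) ∧
        ∀ i j, i ≠ j → QuadraticMap.polar Q (a i) (a j) = 0 := by
  obtain ⟨a, ha, ho⟩ := exists_orth hQ 5 le_rfl (fun _ => c) fun _ => hc
  obtain ⟨v, hv, hQv⟩ := exists_aniso hQ (by omega) a (fun i => by rw [ha]; exact hc) ho
  set b : Fin 6 → Fin 6 → ZMod 3 := Fin.snoc (α := fun _ => Fin 6 → ZMod 3) a v with hb
  have hb1 : b (Fin.last 5) = v := Fin.snoc_last (α := fun _ => Fin 6 → ZMod 3) v a
  have hb2 : ∀ i : Fin 5, b i.castSucc = a i := Fin.snoc_castSucc (α := fun _ => Fin 6 → ZMod 3) v a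
  have horth : ∀ i j : Fin 6, i ≠ j → QuadraticMap.polar Q (b i) (b j) = 0 := by
    intro i j hij
    induction i using Fin.lastCases with
    | last => induction j using Fin.lastCases with
      | last => exact absurd rfl hij
      | cast j => rw [hb1, hb2, QuadraticMap.polar_comm]; exact hv j
    | cast i => induction j using Fin.lastCases with
      | last => rw [hb1, hb2]; exact hv i
      | cast j => rw [hb2, hb2]; exact ho i j fun e => hij (e ▸ rfl)
  rcases (by decide : ∀ x d : ZMod 3, d ≠ 0 → x ≠ 0 → x = d ∨ x = 2 * d) _ _ hc hQv with h | h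
  · refine Or.inr ⟨b, fun i => ?_, horth⟩
    induction i using Fin.lastCases with
    | last => rw [hb1, h]
    | cast i => rw [hb2, ha]
  · refine Or.inl ⟨b, fun i => ?_, horth⟩
    induction i using Fin.lastCases with
    | last => rw [hb1, if_pos (by decide), h]
    | cast i =>
      rw [hb2, ha, if_neg]
      exact fun e => absurd (congrArg Fin.val e) (by have := i.2; simp; omega)

end Vectors

variable {G : Type u} [Group G] [Finite G] {D : Set G}

/-- No reflection image of dimension seven or more. -/
theorem refl_big_false {V : Type u} [AddCommGroup V] [DistribMulAction G V] (W : Space D V)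
    {X : Type v} [Group X] {E : Set X} (I : Img D X E) (hE : ConjClosed E) {n : ℕ} (hn : 7 ≤ n)
    {Q : QuadraticForm (ZMod 3) (Fin n → ZMod 3)} {c : ZMod 3}
    (hQ : (QuadraticMap.polarBilin Q).Nondegenerate) (hc : c ≠ 0) (h : KindRefl E Q c) : False := by
  obtain ⟨ψ, hψ⟩ := Classif.KindPts.refl_points Q c (by omega) hQ hc h
  have ht : ∀ i : Fin 6, (if i = 5 then 2 * c else c) ≠ 0 := fun i => by
    split_ifs
    · exact (by decide : ∀ d : ZMod 3, d ≠ 0 → 2 * d ≠ 0) c hc
    · exact hc
  obtain ⟨a, ha, ho⟩ := exists_orth hQ 6 (by omega) (fun i => if i = 5 then 2 * c else c) ht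
  exact refl_five_false W I hE hψ a ha ho

end CfsgLib.TwoRadGen
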