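import Mathlib
import Cfsg.Agent.Lib.TwoRadGen.KillReflBig

/-!
# The six-dimensional reflection image of minus type

Six members with a pattern over the field of four elements generate; a word in them is trivial in the reflection
group and acts on the pattern as a scalar different from one.
-/

set_option autoImplicit false
set_option linter.unusedSectionVars false
set_option maxRecDepth 8000

namespace CfsgLib.TwoRadGen

open Cfsg CfsgLib.ThreeTrans CfsgLib.TwoRadical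
open CfsgLib.ThreeTrans.Classif (ReflPts KindRefl)
open CfsgLib.TwoRadicalSU (hf tv)

universe u v

/-- Six isotropic vectors. -/
def sixPat : Pattern 6 6 where
  p := ![![1, 0, 0, GF4.w * GF4.w, GF4.w * GF4.w, 1],
    ![1, 0, GF4.w, 0, 0, 0],
    ![GF4.w * GF4.w, GF4.w * GF4.w, GF4.w, GF4.w * GF4.w, 1, 1],
    ![GF4.w, GF4.w, GF4.w * GF4.w, GF4.w, GF4.w, GF4.w * GF4.w],
    ![1, 1, GF4.w, 0, 0, 1],
    ![0, 0, 0, GF4.w, GF4.w, 0]]
  par := ![0, 0, 0, 0, 3, 2]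
  three := by norm_num
  iso := by decide +kernel
  tri := by decide +kernel
  tree := by decide +kernel
  other := by decide +kernel

/-- The word. -/
def sixWord : List (Fin 6) :=
  let l : List (Fin 6) := [4, 0, 2, 1, 0, 2, 3, 5]
  l ++ l ++ l ++ l ++ l

theorem sixWord_bad : ∃ i,
    hf ((fun x => sixWord.foldr (fun i y => tv (sixPat.p i) y) x) (sixPat.p sixPat.o)) (sixPat.p i) ≠
      1 * hf (sixPat.p sixPat.o) (sixPat.p i) := by
  decide +kernel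

/-- Six vectors of norm one in coordinates for an orthogonal basis of one norm. -/
def sixPt : Fin 6 → Fin 6 → ZMod 3 :=
  ![![1, 2, 0, 0, 2, 1],
    ![0, 1, 2, 0, 1, 1],
    ![1, 2, 1, 0, 1, 0],
    ![1, 2, 0, 1, 1, 0],
    ![0, 0, 0, 1, 0, 0],
    ![0, 1, 1, 0, 1, 2]]

/-- The sum of squares. -/
def minusNorm (f : Fin 6 → ZMod 3) : ZMod 3 :=
  f 0 * f 0 + f 1 * f 1 + f 2 * f 2 + f 3 * f 3 + f 4 * f 4 + f 5 * f 5

/-- The form of minus type. -/
def minusSix (f g : Fin 6 → ZMod 3) : ZMod 3 :=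
  2 * (f 0 * g 0 + f 1 * g 1 + f 2 * g 2 + f 3 * g 3 + f 4 * g 4 + f 5 * g 5)

/-- A reflection in coordinates. -/
def minusStep (u f : Fin 6 → ZMod 3) : Fin 6 → ZMod 3 := f - minusSix u f • u

/-- Equal up to sign. -/
abbrev Pm (f g : Fin 6 → ZMod 3) : Prop := f = g ∨ f = -g

/-- For every vector of norm one, a word taking the root to it. -/
def sixTable : List (List (Fin 6)) :=
  [
    [], [3,0,1,2,5,4,0,3,2,1], [3,0,1,2,5,4,0,3,2,1], [2,1], [], [], [2,1], [], [], [5,2,0,3,1,0,2,5,4,3,1,2],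
    [], [], [], [], [], [], [], [], [5,2,0,3,1,0,2,5,4,3,1,2], [], [], [], [], [], [], [], [], [3,4,0,3], [],
    [], [], [], [], [], [], [], [], [], [], [], [5,3,4,0,3,1,2], [2,5,3,1,2,1], [], [0,1,0,2,5,3,4,0,3,1,2],
    [2,5,0,3,2,1], [], [], [], [], [2,5,4,0,3,2,1], [0,1,0,2,5,3,4,0,3,2,1], [], [2,5,4,3,1,2,1],
    [5,3,4,0,3,2,1], [3,4,0,3], [], [], [], [], [], [], [], [], [], [], [], [], [5,3,4,0,3,2,1],
    [2,5,4,3,1,2,1], [], [0,1,0,2,5,3,4,0,3,2,1], [2,5,4,0,3,2,1], [], [], [], [], [2,5,0,3,2,1],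
    [0,1,0,2,5,3,4,0,3,1,2], [], [2,5,3,1,2,1], [5,3,4,0,3,1,2], [5,1,2,1], [], [], [], [], [], [], [], [], [],
    [], [], [], [1], [3,0,1,0,2,5,3,4,0,3,2,1], [], [0,2], [3,1,0,2,5,4,3,1,2,1], [], [], [], [],
    [5,3,2,1,0,2,5,3,4,0,3,1,2], [2,5,1,2,1], [], [5,2,0,3,1,0,2,5,4,3,1,2,1], [5,2], [], [], [], [], [3,2,1],
    [5,4,3,1,2,1], [], [0,3], [0,1,2,5,4,0,3,2,1], [], [5,2,1,0,2,5,3,4,0,3,2,1], [5,0,3,1,2], [2,5,4,0,3,1,2],
    [], [], [5,4,3,2], [], [], [], [4,3,1], [2,5,3,4,0,3,1,2], [5,0,3,2,1], [], [], [1,0,2,5,3,1,2,1], [], [],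
    [], [], [], [], [4,3,2,1], [5,3,1,2,1], [], [4,0,3], [0,1,2,5,0,3,2,1], [], [5,2,1,0,2,5,3,4,0,3,1,2],
    [5,4,0,3,1,2], [2,5,0,3,1,2], [], [], [5,3,2], [], [], [], [3,1], [2,5,3,4,0,3,2,1], [5,4,0,3,2,1], [], [],
    [1,0,2,5,4,3,1,2,1], [], [], [5,1,2,1], [], [], [], [], [], [], [], [], [], [], [], [], [5,2],
    [5,2,0,3,1,0,2,5,4,3,1,2,1], [], [2,5,1,2,1], [5,3,2,1,0,2,5,3,4,0,3,1,2], [], [], [], [],
    [3,1,0,2,5,4,3,1,2,1], [0,2], [], [3,0,1,0,2,5,3,4,0,3,2,1], [1], [], [], [], [], [0,1,2,5,0,3,2,1],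
    [4,0,3], [], [5,3,1,2,1], [4,3,2,1], [], [2,5,3,4,0,3,2,1], [3,1], [1,0,2,5,4,3,1,2,1], [], [],
    [5,4,0,3,2,1], [], [], [], [5,4,0,3,1,2], [5,2,1,0,2,5,3,4,0,3,1,2], [5,3,2], [], [], [2,5,0,3,1,2], [],
    [], [], [], [], [], [0,1,2,5,4,0,3,2,1], [0,3], [], [5,4,3,1,2,1], [3,2,1], [], [2,5,3,4,0,3,1,2], [4,3,1],
    [1,0,2,5,3,1,2,1], [], [], [5,0,3,2,1], [], [], [], [5,0,3,1,2], [5,2,1,0,2,5,3,4,0,3,2,1], [5,4,3,2], [],
    [], [2,5,4,0,3,1,2], [], [], [1,2,0,3,1,0,2,5,4,3,1,2], [], [], [], [], [], [], [], [], [], [], [], [],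
    [2,0,3,1,0,2,5,4,3,1,2,1], [2], [], [3,0,2,5,4,3,1,2,1], [2,0,1], [], [], [], [], [0,3,1,0,2,5,4,3,1,2],
    [5,3,2,0,1,2,5,3,4,0,3,2,1], [], [3,1,0,2,5,3,4,0,3,1,2], [2,5,1,2,0,3,1,0,2,5,4,3,1,2,1], [], [], [], [],
    [1,2,5,3,4,0,3,2,1], [3], [], [2,1,0,2,5,3,4,0,3,2,1], [0,3,1,2], [], [0,2,5,4,0,3,1,2],
    [4,3,0,2,5,1,2,0,3,1,0,2,5,4,3,1,2,1], [1,0,2,5,3,1,2], [], [], [5,3,1,2], [], [], [], [5,3,2,1],
    [4,3,1,2,1], [2,0,1,2,5,3,4,0,3,1,2], [], [], [0,2,5,3,4,0,3,1,2], [], [], [], [], [], [],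
    [1,2,5,3,4,0,3,1,2], [4,3], [], [2,1,0,2,5,3,4,0,3,1,2], [4,0,3,1,2], [], [0,2,5,0,3,1,2],
    [3,0,2,5,1,2,0,3,1,0,2,5,4,3,1,2,1], [1,0,2,5,4,3,1,2], [], [], [5,4,3,1,2], [], [], [], [5,4,3,2,1],
    [3,1,2,1], [2,0,1,2,5,3,4,0,3,2,1], [], [], [0,2,5,3,4,0,3,2,1], [], [], [], [], [], [], [2,5,1,2],
    [3,2,1,0,2,5,3,4,0,3,1,2], [], [5,2,0,1], [3,0,2,5,4,3,1,2], [], [3,1,0,2,5,4,3,1,2], [5,0,2],
    [5,1,2,0,3,1,0,2,5,4,3,1,2], [], [], [0,2,5,1,2,0,3,1,0,2,5,4,3,1,2,1], [], [], [],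
    [3,2,0,1,2,5,3,4,0,3,2,1], [0,3,1,0,2,5,4,3,1,2,1], [0,1], [], [], [1,2,1], [], [], [],
    [0,1,2,5,3,4,0,3,1,2], [1,2,5,0,3,2,1], [4,0,3,2,1], [], [], [4,3,1,2], [], [], [3,2], [], [], [], [], [],
    [], [], [], [5,2,0,1,2,5,3,4,0,3,2,1], [], [], [], [], [], [], [], [], [], [0,1,2,5,3,4,0,3,2,1],
    [1,2,5,4,0,3,2,1], [0,3,2,1], [], [], [3,1,2], [], [], [4,3,2], [], [], [], [], [], [], [], [],
    [5,2,0,1,2,5,3,4,0,3,1,2], [], [], [], [], [], [], [], [], [], [], [], [], [1,2],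
    [1,2,0,3,1,0,2,5,4,3,1,2,1], [], [], [3,0,1,2,5,3,4,0,3,2,1], [], [5,1,2,0,3,1,0,2,5,4,3,1,2,1], [5,1,2],
    [3,0,2,5,4,0,3,1,2], [], [], [2,0,3,1,0,2,5,4,3,1,2], [], [], [], [2,5,1,2,0,3,1,0,2,5,4,3,1,2],
    [3,0,2,5,3,4,0,3,1,2], [5,2,1], [], [], [2,5,0,2], [], [], [], [3,4,0,3,1,2], [2,5,3,1,2], [0,2,5,4,3,1,2],
    [], [], [1,2,5,4,0,3,1,2], [], [], [0,2,5,3,1,2,1], [], [], [], [], [], [], [], [], [1,0,2,5,3,4,0,3,2,1],
    [], [], [], [], [], [], [], [], [], [3,4,0,3,2,1], [2,5,4,3,1,2], [0,2,5,3,1,2], [], [], [1,2,5,0,3,1,2],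
    [], [], [0,2,5,4,3,1,2,1], [], [], [], [], [], [], [], [], [1,0,2,5,3,4,0,3,1,2], [], [], [], [], [], [],
    [], [], [1,2,0,3,1,0,2,5,4,3,1,2], [], [], [], [], [], [], [], [], [], [], [], [],
    [2,5,1,2,0,3,1,0,2,5,4,3,1,2,1], [3,1,0,2,5,3,4,0,3,1,2], [], [5,3,2,0,1,2,5,3,4,0,3,2,1],
    [0,3,1,0,2,5,4,3,1,2], [], [], [], [], [2,0,1], [3,0,2,5,4,3,1,2,1], [], [2], [2,0,3,1,0,2,5,4,3,1,2,1],
    [], [], [], [], [4,0,3,1,2], [2,1,0,2,5,3,4,0,3,1,2], [], [4,3], [1,2,5,3,4,0,3,1,2], [], [3,1,2,1],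
    [5,4,3,2,1], [0,2,5,3,4,0,3,2,1], [], [], [2,0,1,2,5,3,4,0,3,2,1], [], [], [],
    [3,0,2,5,1,2,0,3,1,0,2,5,4,3,1,2,1], [0,2,5,0,3,1,2], [5,4,3,1,2], [], [], [1,0,2,5,4,3,1,2], [], [], [],
    [], [], [], [0,3,1,2], [2,1,0,2,5,3,4,0,3,2,1], [], [3], [1,2,5,3,4,0,3,2,1], [], [4,3,1,2,1], [5,3,2,1],
    [0,2,5,3,4,0,3,1,2], [], [], [2,0,1,2,5,3,4,0,3,1,2], [], [], [], [4,3,0,2,5,1,2,0,3,1,0,2,5,4,3,1,2,1],
    [0,2,5,4,0,3,1,2], [5,3,1,2], [], [], [1,0,2,5,3,1,2], [], [], [], [], [], [], [3,0,1,2,5,3,4,0,3,2,1], [],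
    [], [1,2,0,3,1,0,2,5,4,3,1,2,1], [1,2], [], [3,0,2,5,3,4,0,3,1,2], [2,5,1,2,0,3,1,0,2,5,4,3,1,2],
    [2,5,0,2], [], [], [5,2,1], [], [], [], [5,1,2], [5,1,2,0,3,1,0,2,5,4,3,1,2,1], [2,0,3,1,0,2,5,4,3,1,2],
    [], [], [3,0,2,5,4,0,3,1,2], [], [], [], [2,5,4,3,1,2], [3,4,0,3,2,1], [1,2,5,0,3,1,2], [], [],
    [0,2,5,3,1,2], [], [], [1,0,2,5,3,4,0,3,1,2], [], [], [], [], [], [], [], [], [0,2,5,4,3,1,2,1], [], [],
    [], [], [], [], [], [], [], [2,5,3,1,2], [3,4,0,3,1,2], [1,2,5,4,0,3,1,2], [], [], [0,2,5,4,3,1,2], [], [],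
    [1,0,2,5,3,4,0,3,2,1], [], [], [], [], [], [], [], [], [0,2,5,3,1,2,1], [], [], [], [], [], [], [], [], [],
    [], [], [], [3,0,2,5,4,3,1,2], [5,2,0,1], [], [3,2,1,0,2,5,3,4,0,3,1,2], [2,5,1,2], [],
    [0,3,1,0,2,5,4,3,1,2,1], [3,2,0,1,2,5,3,4,0,3,2,1], [1,2,1], [], [], [0,1], [], [], [], [5,0,2],
    [3,1,0,2,5,4,3,1,2], [0,2,5,1,2,0,3,1,0,2,5,4,3,1,2,1], [], [], [5,1,2,0,3,1,0,2,5,4,3,1,2], [], [], [],
    [1,2,5,4,0,3,2,1], [0,1,2,5,3,4,0,3,2,1], [3,1,2], [], [], [0,3,2,1], [], [], [5,2,0,1,2,5,3,4,0,3,1,2],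
    [], [], [], [], [], [], [], [], [4,3,2], [], [], [], [], [], [], [], [], [], [1,2,5,0,3,2,1],
    [0,1,2,5,3,4,0,3,1,2], [4,3,1,2], [], [], [4,0,3,2,1], [], [], [5,2,0,1,2,5,3,4,0,3,2,1], [], [], [], [],
    [], [], [], [], [3,2], [], [], [], [], [], [], [], []]

/-- The place of a vector in the table. -/
def sixCode (f : Fin 6 → ZMod 3) : ℕ :=
  (f 0).val + 3 * (f 1).val + 9 * (f 2).val + 27 * (f 3).val + 81 * (f 4).val + 243 * (f 5).val

theorem sixPt_norm : ∀ i, minusNorm (sixPt i) = 1 := by decide +kernel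

theorem sixPt_comm : ∀ i j, ((Pm (sixPt i) (sixPt j) ∨ minusSix (sixPt i) (sixPt j) = 0) ↔
    hf (sixPat.p i) (sixPat.p j) = 0) := by decide +kernel

theorem sixPt_aff : ¬ Pm (sixPt 2) (minusStep (sixPt 0) (sixPt 1)) ∧
    minusSix (sixPt 2) (minusStep (sixPt 0) (sixPt 1)) ≠ 0 := by decide +kernel

theorem sixTable_reach : ∀ f, minusNorm f = 1 →
    Pm ((sixTable.getD (sixCode f) []).foldr (fun i g => minusStep (sixPt i) g) (sixPt sixPat.o)) f := by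
  decide +kernel

theorem sixWord_id : ∀ f, minusNorm f = 1 → Pm (sixWord.foldr (fun i g => minusStep (sixPt i) g) f) f := by
  decide +kernel

theorem minusSix_neg_left (u v : Fin 6 → ZMod 3) : minusSix (-u) v = -minusSix u v := by
  simp only [minusSix, Pi.neg_apply]; ring

theorem minusSix_neg_right (u v : Fin 6 → ZMod 3) : minusSix u (-v) = -minusSix u v := by
  simp only [minusSix, Pi.neg_apply]; ring

theorem minusSix_eq_zero_pm {u v u' v' : Fin 6 → ZMod 3} (hu : Pm u u') (hv : Pm v v') :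
    minusSix u v = 0 ↔ minusSix u' v' = 0 := by
  rcases hu with rfl | rfl <;> rcases hv with rfl | rfl <;>
    simp only [minusSix_neg_left, minusSix_neg_right, neg_eq_zero, neg_neg]

theorem minusStep_pm {u u' f f' : Fin 6 → ZMod 3} (hu : Pm u u') (hf' : Pm f f') :
    Pm (minusStep u f) (minusStep u' f') := by
  rcases hu with rfl | rfl <;> rcases hf' with rfl | rfl
  · exact Or.inl rfl
  · right; funext k; simp [minusStep, minusSix]; ring
  · left; funext k; simp [minusStep, minusSix]; ring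
  · right; funext k; simp [minusStep, minusSix]; ring

theorem Pm.symm {f g : Fin 6 → ZMod 3} (h : Pm f g) : Pm g f := by
  rcases h with rfl | rfl
  · exact Or.inl rfl
  · exact Or.inr (neg_neg g).symm

theorem Pm.trans {f g k : Fin 6 → ZMod 3} (h : Pm f g) (h' : Pm g k) : Pm f k := by
  rcases h with rfl | rfl <;> rcases h' with rfl | rfl
  · exact Or.inl rfl
  · exact Or.inr rfl
  · exact Or.inr rfl
  · exact Or.inl (neg_neg k)

/-- Points in coordinates for an orthogonal basis of norm `c`. -/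
structure MinusPts {X : Type v} [Group X] (E : Set X) (κ : X → Fin 6 → ZMod 3) : Prop where
  norm : ∀ a ∈ E, minusNorm (κ a) = 1
  inj : ∀ a ∈ E, ∀ b ∈ E, Pm (κ a) (κ b) → a = b
  surj : ∀ f, minusNorm f = 1 → ∃ a ∈ E, Pm (κ a) f
  comm : ∀ a ∈ E, ∀ b ∈ E, (Commute a b ↔ a = b ∨ minusSix (κ a) (κ b) = 0)
  conj : ∀ a ∈ E, ∀ b ∈ E, Pm (κ (a * b * a)) (minusStep (κ a) (κ b))

theorem exists_minusPts {X : Type v} [Group X] {E : Set X} {Q : QuadraticForm (ZMod 3) (Fin 6 → ZMod 3)}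
    {c : ZMod 3} {ψ : X → Fin 6 → ZMod 3} (hP : ReflPts E Q c ψ) (a : Fin 6 → Fin 6 → ZMod 3)
    (hQ : ∀ i, Q (a i) = c) (horth : ∀ i j, i ≠ j → QuadraticMap.polar Q (a i) (a j) = 0) :
    ∃ κ, MinusPts E κ := by
  have hc := hP.ne
  have htwo : (2 : ZMod 3) ≠ 0 := by decide
  have : Fact (Nat.Prime 3) := ⟨Nat.prime_three⟩
  set L : (Fin 6 → ZMod 3) →ₗ[ZMod 3] (Fin 6 → ZMod 3) := Fintype.linearCombination (ZMod 3) a with hL
  set B := Q.polarBilin with hBdef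
  have hB : ∀ u z, B u z = QuadraticMap.polar Q u z := fun _ _ => rfl
  have hLs : ∀ f, L f = ∑ k, f k • a k := fun f => Fintype.linearCombination_apply _ a f
  have hBa : ∀ f g, B (L f) (L g) = c * minusSix f g := by
    intro f g
    have e : ∀ k, B (a k) (L g) = g k * (2 * c) := fun k => by
      rw [hLs, map_sum, Finset.sum_eq_single k]
      · rw [map_smul, hB, QuadraticMap.polar_self, hQ, smul_eq_mul, two_nsmul, two_mul]
      · intro l _ hl; rw [map_smul, hB, horth k l (Ne.symm hl), smul_zero]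
      · simp
    rw [hLs f, map_sum B, LinearMap.sum_apply]
    simp only [map_smul, LinearMap.smul_apply, e, smul_eq_mul, minusSix, Fin.sum_univ_six]
    ring
  have hinj : Function.Injective L := by
    rw [← LinearMap.ker_eq_bot, Submodule.eq_bot_iff]
    intro f hf0
    funext k
    have e := hBa f (Pi.single k 1)
    rw [show L f = 0 from hf0, map_zero, LinearMap.zero_apply] at e
    have e' : minusSix f (Pi.single k 1) = 0 := (mul_eq_zero.1 e.symm).resolve_left hc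
    revert e'
    fin_cases k <;> simp [minusSix, htwo]
  have hbij : Function.Bijective L := ⟨hinj, Finite.surjective_of_injective hinj⟩
  have hnorm : ∀ f, Q (L f) = c * minusNorm f := fun f => by
    have h1 := hBa f f
    rw [hB, QuadraticMap.polar_self, two_nsmul] at h1
    have h3 : (3 : ZMod 3) = 0 := rfl
    calc Q (L f) = 2 * (Q (L f) + Q (L f)) := by linear_combination (- Q (L f)) * h3
      _ = c * minusNorm f := by
        rw [h1]; simp only [minusSix, minusNorm]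
        linear_combination (c * (f 0 * f 0 + f 1 * f 1 + f 2 * f 2 + f 3 * f 3 + f 4 * f 4 + f 5 * f 5)) * h3
  set κ : X → Fin 6 → ZMod 3 := fun x => (Equiv.ofBijective L hbij).symm (ψ x) with hκ
  have hLκ : ∀ x, L (κ x) = ψ x := fun x => (Equiv.ofBijective L hbij).apply_symm_apply (ψ x)
  have hpm : ∀ x f, Pm (κ x) f ↔ (ψ x = L f ∨ ψ x = -L f) := fun x f => by
    rw [← hLκ, ← map_neg, hinj.eq_iff, hinj.eq_iff]
  refine ⟨κ, fun x hx => ?_, fun x hx y hy h => hP.inj x hx y hy ?_, fun f hf' => ?_, fun x hx y hy => ?_,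
    fun x hx y hy => ?_⟩
  · have h := hP.norm x hx
    rw [← hLκ, hnorm] at h
    exact mul_left_cancel₀ hc (h.trans (mul_one c).symm)
  · rw [← hLκ y]; exact (hpm x _).1 h
  · obtain ⟨x, hx, h⟩ := hP.surj (L f) (by rw [hnorm, hf', mul_one])
    exact ⟨x, hx, (hpm x f).2 h⟩
  · rw [hP.comm x hx y hy, ← hLκ x, ← hLκ y, ← hB, hBa, mul_eq_zero, or_iff_right hc]
  · have h := hP.conj x hx y hy
    simp only at h
    rw [← hB, ← hLκ x, ← hLκ y, hBa, mul_div_cancel_left₀ _ hc, ← map_smul, ← map_sub] at h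
    exact (hpm _ _).2 h

variable {G : Type u} [Group G] [Finite G] {D : Set G}

/-- The reflection image of dimension six and minus type. -/
theorem six_minus_goal {V : Type u} [AddCommGroup V] [DistribMulAction G V] (W : Space D V)
    {X : Type v} [Group X] {E : Set X} (I : Img D X E) (hE : IsThreeTranspositionGroup E)
    {κ : X → Fin 6 → ZMod 3} (hP : MinusPts E κ) : Goal G := by
  choose x hx hxu using fun i => hP.surj _ (sixPt_norm i)
  choose d hd he using fun i => I.lift (hx i)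
  have hcomm : ∀ i j, Commute (x i) (x j) ↔ hf (sixPat.p i) (sixPat.p j) = 0 := by
    intro i j
    rw [hP.comm _ (hx i) _ (hx j), ← sixPt_comm i j]
    refine or_congr ⟨fun h => ?_, fun h => hP.inj _ (hx i) _ (hx j) ?_⟩ (minusSix_eq_zero_pm (hxu i) (hxu j))
    · exact (hxu i).symm.trans (h ▸ hxu j)
    · exact (hxu i).trans (h.trans (hxu j).symm)
  have hinv : ∀ i, (x i)⁻¹ = x i := fun i => inv_eq_of_mul_eq_one_right (mul_self hE.1 (hx i))
  -- conjugation by a product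
  have hword : ∀ (l : List (Fin 6)), ∀ e ∈ E, ∀ f, Pm (κ e) f →
      ((l.map x).prod * e * ((l.map x).prod)⁻¹ ∈ E ∧
        Pm (κ ((l.map x).prod * e * ((l.map x).prod)⁻¹)) (l.foldr (fun i g => minusStep (sixPt i) g) f)) := by
    intro l e he' f hf'
    induction l with
    | nil => simpa using ⟨he', hf'⟩
    | cons i l ih =>
      obtain ⟨hmem, hk⟩ := ih
      rw [List.map_cons, List.prod_cons, mul_inv_rev, hinv,
        show x i * (l.map x).prod * e * (((l.map x).prod)⁻¹ * x i) =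
          x i * ((l.map x).prod * e * ((l.map x).prod)⁻¹) * x i by group, List.foldr_cons]
      refine ⟨?_, (hP.conj _ (hx i) _ hmem).trans (minusStep_pm (hxu i) hk)⟩
      have h := hE.2.1 (x i) _ hmem
      rwa [hinv] at h
  let F : Framed D V 6 6 :=
    { W := W, P := sixPat, d := d
      real := ⟨hd, fun i j => by rw [← I.comm_iff (hd i) (hd j), he, he]; exact hcomm i j, fun k => by
        have h := k.map I.η
        simp only [map_mul, he] at h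
        have hmem : x 0 * x 1 * x 0 ∈ E := by
          have h' := hE.2.1 (x 0) _ (hx 1); rwa [hinv] at h'
        have hk : Pm (κ (x 0 * x 1 * x 0)) (minusStep (sixPt 0) (sixPt 1)) :=
          (hP.conj _ (hx 0) _ (hx 1)).trans (minusStep_pm (hxu 0) (hxu 1))
        obtain ⟨k1, k2⟩ := sixPt_aff
        rcases (hP.comm _ (hx 2) _ hmem).1 h with h' | h'
        · exact k1 ((hxu 2).symm.trans (h' ▸ hk))
        · exact k2 ((minusSix_eq_zero_pm (hxu 2) hk).1 h')⟩ }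
  have hη : ∀ l : List (Fin 6), I.η (l.map d).prod = (l.map x).prod := fun l => by
    rw [map_list_prod, List.map_map, show I.η ∘ d = x from funext he]
  have hG : F.Gen := by
    intro e he'
    set l := sixTable.getD (sixCode (κ (I.η e))) [] with hl
    refine ⟨(l.map d).prod, Subgroup.list_prod_mem _ fun y hy => ?_, I.same _ he' _
      (W.hyp.closed.conj _ _ (hd _)) ?_⟩
    · obtain ⟨i, -, rfl⟩ := List.mem_map.mp hy
      exact Subgroup.subset_closure ⟨i, rfl⟩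
    · obtain ⟨hm, hk⟩ := hword l _ (hx sixPat.o) _ (hxu sixPat.o)
      rw [map_mul, map_mul, map_inv, hη, he]
      refine (hP.inj _ hm _ (I.mem he') ?_).symm
      exact hk.trans (sixTable_reach _ (hP.norm _ (I.mem he')))
  have hz : Central D (sixWord.map d).prod := fun e he' => I.same _ (W.hyp.closed.conj _ e he') e he' (by
    rw [map_mul, map_mul, map_inv, hη]
    obtain ⟨hm, hk⟩ := hword sixWord _ (I.mem he') _ (Or.inl rfl)
    exact hP.inj _ hm _ (I.mem he') (hk.trans (sixWord_id _ (hP.norm _ (I.mem he')))))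
  have hzQ : (sixWord.map d).prod ∉ pCore 2 G := by
    intro hq
    obtain ⟨ζ, h, h'⟩ := F.central_scalar hz (F.acts_list sixWord)
    obtain ⟨v, hv, hv0⟩ := F.exists_root_ne
    have e := h' sixPat.o v hv
    rw [F.core_trivial hG hq, show sixPat.o = F.P.o from rfl, F.φ_root] at e
    have h1 : ζ = 1 := F.sc_inj hv hv0 (e.symm.trans (W.sm_one _ _ _ v).symm)
    obtain ⟨i, hi⟩ := sixWord_bad
    exact hi (h1 ▸ h i)
  exact ⟨F.elementary hG, W.split_of_central (fun q hq v => F.core_trivial hG hq v)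
    (fun z hz => F.central_dichotomy hG hz) hz hzQ⟩

/-- Reflection images of dimension six. -/
theorem goal_refl_six {V : Type u} [AddCommGroup V] [DistribMulAction G V] (W : Space D V)
    {X : Type v} [Group X] {E : Set X} (I : Img D X E) (hE : IsThreeTranspositionGroup E)
    {Q : QuadraticForm (ZMod 3) (Fin 6 → ZMod 3)} {c : ZMod 3}
    (hQ : (QuadraticMap.polarBilin Q).Nondegenerate) (hc : c ≠ 0) (h : KindRefl E Q c) : Goal G := by
  obtain ⟨ψ, hψ⟩ := Classif.KindPts.refl_points Q c (by norm_num) hQ hc h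
  rcases six_alternative hQ hc with ⟨a, ha, ho⟩ | ⟨a, ha, ho⟩
  · exact (refl_five_false W I ⟨hE.1, hE.2.1⟩ hψ a ha ho).elim
  · obtain ⟨κ, hκ⟩ := exists_minusPts hψ a ha ho
    exact six_minus_goal W I hE hκ

end CfsgLib.TwoRadGen
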