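import Mathlib
import Cfsg.Agent.Lib.TwoRadicalSU.Geom

/-!
# No odd central extension of `SU(5,2)` generated by lifted transvections

A group over `SU(5,2)` with central kernel of odd order, with members over the transvections permuted by
conjugation, is `SU(5,2)`: transfers to preimages of subgroups of orders `5`, `11` and `3^5`.
-/

set_option autoImplicit false
set_option linter.unusedSectionVars false

namespace CfsgLib.TwoRadGen

open Cfsg CfsgLib.TwoRadical CfsgLib.TwoRadicalSU CfsgLib.ClassicalGroups Matrix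
open scoped commutatorElement

universe u

/-- An element of the commutator subgroup in the centre has power the index in every derived subgroup. -/
theorem pow_index_mem_commutator {Y : Type u} [Group Y] [Finite Y] {H : Subgroup Y} {z : Y}
    (hz : z ∈ Subgroup.center Y) (hz' : ∀ {A : Type u} [CommGroup A] (f : Y →* A), f z = 1) :
    ∀ hmem : z ^ H.index ∈ H, (⟨z ^ H.index, hmem⟩ : H) ∈ commutator H := by
  intro hmem
  have key : ∀ (k : ℕ) (g₀ : Y), g₀⁻¹ * z ^ k * g₀ ∈ H → g₀⁻¹ * z ^ k * g₀ = z ^ k := fun k g₀ _ => by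
    rw [mul_assoc, ← Subgroup.mem_center_iff.1 (pow_mem hz k) g₀, inv_mul_cancel_left]
  have h := MonoidHom.transfer_eq_pow (Abelianization.of (G := H)) z key
  rw [hz' (MonoidHom.transfer (Abelianization.of (G := H)))] at h
  rw [← Abelianization.ker_of, MonoidHom.mem_ker]
  exact h.symm

/-- A group over `SU(5,2)` with chosen lifts of the transvections. -/
structure Lift5 (Y : Type u) [Group Y] where
  π : Y →* SUn 5
  surj : Function.Surjective π
  central : π.ker ≤ Subgroup.center Y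
  odd : ∀ z, π z = 1 → z * z = 1 → z = 1
  s : Vec 5 → Y
  s_map : ∀ v, Iso v → π (s v) = tEl v
  s_smul : ∀ v, Iso v → ∀ c : GF4, c ≠ 0 → s (c • v) = s v
  s_sq : ∀ v, Iso v → s v * s v = 1
  s_conj : ∀ g v, Iso v → g * s v * g⁻¹ = s ((π g).1.1 *ᵥ v)
  s_gen : Subgroup.closure {y | ∃ v, Iso v ∧ y = s v} = ⊤

namespace Lift5

variable {Y : Type u} [Group Y] (L : Lift5 Y)
include L

theorem π_s_apply {v : Vec 5} (hv : Iso v) (x : Vec 5) : (L.π (L.s v)).1.1 *ᵥ x = tv v x := by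
  rw [L.s_map v hv, tEl_apply hv.2]

theorem s_inv {v : Vec 5} (hv : Iso v) : (L.s v)⁻¹ = L.s v := inv_eq_of_mul_eq_one_right (L.s_sq v hv)

theorem s_tv {a b : Vec 5} (ha : Iso a) (hb : Iso b) : L.s a * L.s b * L.s a = L.s (tv a b) := by
  have h := L.s_conj (L.s a) b hb
  rwa [L.s_inv ha, L.π_s_apply ha] at h

theorem eq_one_of_sq {z : Y} (hz : L.π z = 1) (h : z⁻¹ = z) : z = 1 :=
  L.odd z hz (by nth_rw 1 [← h]; exact inv_mul_cancel z)

/-! ### The diagonal elements -/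

/-- The diagonal element at two places. -/
def u (i j : Fin 5) : Y := L.s (pv i j GF4.w) * L.s (pv i j 1)

theorem rel_pair {i j : Fin 5} (h : i ≠ j) :
    L.s (pv i j GF4.w) * L.s (pv i j 1) * L.s (pv i j GF4.w) = L.s (pv i j (GF4.w ^ 2)) ∧
    L.s (pv i j 1) * L.s (pv i j GF4.w) * L.s (pv i j 1) = L.s (pv i j (GF4.w ^ 2)) := by
  have hw := iso_pv h K.w_ne.1
  have h1 := iso_pv h (one_ne_zero (α := GF4))
  have h2 := iso_pv h K.w_ne.2.2.2.2
  rw [L.s_tv hw h1, L.s_tv h1 hw, tv_pv_same h K.w_ne.1 one_ne_zero, tv_pv_same h one_ne_zero K.w_ne.1,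
    one_pow, one_mul, mul_one, one_mul, L.s_smul _ h2 _ K.w_ne.1]
  exact ⟨by rw [L.s_smul _ h2 _ K.w_ne.2.2.2.2], rfl⟩

theorem u_three {i j : Fin 5} (h : i ≠ j) : L.u i j * L.u i j * L.u i j = 1 := by
  obtain ⟨r1, r2⟩ := L.rel_pair h
  have hsq := L.s_sq _ (iso_pv h K.w_ne.2.2.2.2)
  calc L.u i j * L.u i j * L.u i j
      = (L.s (pv i j GF4.w) * L.s (pv i j 1) * L.s (pv i j GF4.w)) *
        (L.s (pv i j 1) * L.s (pv i j GF4.w) * L.s (pv i j 1)) := by simp only [u]; group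
    _ = 1 := by rw [r1, r2, hsq]

theorem u_phase {i j : Fin 5} (h : i ≠ j) {a : GF4} (ha : a ≠ 0) :
    L.u i j = L.s (pv i j (GF4.w * a)) * L.s (pv i j a) := by
  obtain ⟨r1, r2⟩ := L.rel_pair h
  have hw := iso_pv h K.w_ne.1
  have h1 := iso_pv h (one_ne_zero (α := GF4))
  rcases K.cases a with rfl | rfl | rfl | rfl
  · exact absurd rfl ha
  · rw [mul_one]; rfl
  · rw [← pow_two, ← r1, mul_assoc (L.s (pv i j GF4.w) * L.s (pv i j 1)), L.s_sq _ hw, mul_one]
    rfl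
  · rw [show GF4.w * GF4.w ^ 2 = 1 from K.w_rel.2.2.2, ← r2, ← mul_assoc, ← mul_assoc, L.s_sq _ h1, one_mul]
    rfl

theorem u_swap {i j : Fin 5} (h : i ≠ j) : L.u j i = (L.u i j)⁻¹ := by
  have h1 := iso_pv h (one_ne_zero (α := GF4))
  have hw2 := iso_pv h K.w_ne.2.2.2.2
  have e1 : L.s (pv j i GF4.w) = L.s (pv i j (GF4.w ^ 2)) := by
    have e := pv_swap (i := i) (j := j) K.w_ne.2.2.2.2
    rw [K.sq_sq] at e
    rw [e, L.s_smul _ hw2 _ K.w_ne.1]
  have e2 : L.s (pv j i (1 : GF4)) = L.s (pv i j 1) := by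
    have e := pv_swap (i := i) (j := j) (one_ne_zero (α := GF4))
    rw [one_pow, one_smul] at e
    rw [e]
  rw [L.u_phase h K.w_ne.2.2.2.2, show GF4.w * GF4.w ^ 2 = 1 from K.w_rel.2.2.2]
  show L.s (pv j i GF4.w) * L.s (pv j i 1) = _
  rw [e1, e2, _root_.mul_inv_rev, L.s_inv hw2, L.s_inv h1]

/-- Conjugation by a diagonal element fixes them. -/
theorem conj_u_diag {g : Y} {c : Fin 5 → GF4} (hc : ∀ k, c k ≠ 0)
    (hg : ∀ x, (L.π g).1.1 *ᵥ x = fun k => c k * x k) {i j : Fin 5} (h : i ≠ j) :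
    g * L.u i j * g⁻¹ = L.u i j := by
  have hmove : ∀ a : GF4, a ≠ 0 → g * L.s (pv i j a) * g⁻¹ = L.s (pv i j (a * (c j / c i))) := by
    intro a ha
    have hd : c j / c i ≠ 0 := div_ne_zero (hc j) (hc i)
    rw [L.s_conj g _ (iso_pv h ha), hg, ← L.s_smul _ (iso_pv h (mul_ne_zero ha hd)) (c i) (hc i)]
    congr 1
    funext k
    rw [Pi.smul_apply, smul_eq_mul]
    by_cases hk : k = i
    · rw [hk, pv_left h, pv_left h]
    by_cases hk' : k = j
    · rw [hk', pv_right h, pv_right h, mul_left_comm (c i), mul_div_cancel₀ _ (hc i), mul_comm]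
    rw [pv_other hk hk', pv_other hk hk', mul_zero, mul_zero]
  have hd : c j / c i ≠ 0 := div_ne_zero (hc j) (hc i)
  calc g * L.u i j * g⁻¹ = (g * L.s (pv i j GF4.w) * g⁻¹) * (g * L.s (pv i j 1) * g⁻¹) := by
        simp only [u]; group
    _ = L.s (pv i j (GF4.w * (c j / c i))) * L.s (pv i j (c j / c i)) := by
        rw [hmove _ K.w_ne.1, hmove _ one_ne_zero, one_mul]
    _ = L.u i j := (L.u_phase h hd).symm

/-- Conjugation by a permutation permutes them. -/
theorem conj_u_perm {g : Y} (σ : Equiv.Perm (Fin 5))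
    (hg : ∀ x, (L.π g).1.1 *ᵥ x = fun k => x (σ.symm k)) {i j : Fin 5} (h : i ≠ j) :
    g * L.u i j * g⁻¹ = L.u (σ i) (σ j) := by
  have hmove : ∀ a : GF4, a ≠ 0 → g * L.s (pv i j a) * g⁻¹ = L.s (pv (σ i) (σ j) a) := by
    intro a ha
    rw [L.s_conj g _ (iso_pv h ha), hg]
    congr 1
    funext k
    rw [pv_apply, pv_apply]
    simp only [Equiv.symm_apply_eq]
  calc g * L.u i j * g⁻¹ = (g * L.s (pv i j GF4.w) * g⁻¹) * (g * L.s (pv i j 1) * g⁻¹) := by
        simp only [u]; group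
    _ = _ := by rw [hmove _ K.w_ne.1, hmove _ one_ne_zero]; rfl

/-- The entries of the diagonal element at two places. -/
def du (i j : Fin 5) (k : Fin 5) : GF4 := if k = i then GF4.w ^ 2 else if k = j then GF4.w else 1

theorem π_u {i j : Fin 5} (h : i ≠ j) (x : Vec 5) :
    (L.π (L.u i j)).1.1 *ᵥ x = fun k => du i j k * x k := by
  rw [u, map_mul, SU_mul_mulVec, L.π_s_apply (iso_pv h one_ne_zero), L.π_s_apply (iso_pv h K.w_ne.1)]
  funext k
  rw [tv_pv h K.w_ne.1, tv_pv h one_ne_zero, tv_pv h one_ne_zero, tv_pv h one_ne_zero, du]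
  by_cases hk : k = i
  · simp [hk, h.symm]
  by_cases hk' : k = j
  · simp [hk', h.symm]
  simp [hk, hk']

omit L in
theorem du_ne (i j k : Fin 5) : du i j k ≠ 0 := by
  rw [du]; split_ifs
  · exact K.w_ne.2.2.2.2
  · exact K.w_ne.1
  · exact one_ne_zero

theorem u_comm {i j k l : Fin 5} (h : i ≠ j) (h' : k ≠ l) : Commute (L.u i j) (L.u k l) :=
  mul_inv_eq_iff_eq_mul.1 (L.conj_u_diag (du_ne i j) (L.π_u h) h')

theorem u_triangle {i j k : Fin 5} (hij : i ≠ j) (hjk : j ≠ k) (hik : i ≠ k) :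
    L.u i j * L.u j k = L.u i k := by
  set z := L.u i j * L.u j k * (L.u i k)⁻¹ with hz
  have hzker : L.π z = 1 := SU_ext fun x => by
    rw [hz, ← L.u_swap hik, map_mul, map_mul, SU_mul_mulVec, SU_mul_mulVec, L.π_u hij, L.π_u hjk,
      L.π_u hik.symm, SU_one_mulVec]
    funext l
    have key : GF4.w ^ 2 * GF4.w = 1 ∧ GF4.w * GF4.w ^ 2 = 1 := by decide +kernel
    simp only [du, ← mul_assoc]
    by_cases hi : l = i
    · simp [hi, hij, hik, key.1]
    by_cases hj : l = j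
    · simp [hj, hij.symm, hjk, key.2]
    by_cases hk : l = k
    · simp [hk, hik.symm, hjk.symm, key.2]
    simp [hi, hj, hk]
  have hs := iso_pv hij (one_ne_zero (α := GF4))
  have hg : ∀ x, (L.π (L.s (pv i j 1))).1.1 *ᵥ x = fun k => x ((Equiv.swap i j).symm k) := fun x => by
    rw [L.π_s_apply hs, Equiv.symm_swap]
    funext l
    rw [tv_pv hij one_ne_zero, one_pow, one_mul, one_mul]
    by_cases hi : l = i
    · simp [hi]
    by_cases hj : l = j
    · simp [hj, hij.symm]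
    simp [hi, hj, Equiv.swap_apply_of_ne_of_ne hi hj]
  have e := L.s_inv hs
  have hzc : L.s (pv i j 1) * z * (L.s (pv i j 1))⁻¹ = z := by
    rw [Subgroup.mem_center_iff.1 (L.central hzker) (L.s (pv i j 1)), mul_inv_cancel_right]
  set g := L.s (pv i j 1)
  rw [hz, show g * (L.u i j * L.u j k * (L.u i k)⁻¹) * g⁻¹ =
      (g * L.u i j * g⁻¹) * (g * L.u j k * g⁻¹) * (g * L.u i k * g⁻¹)⁻¹ by group,
    L.conj_u_perm _ hg hij, L.conj_u_perm _ hg hjk, L.conj_u_perm _ hg hik, Equiv.swap_apply_left,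
    Equiv.swap_apply_right, Equiv.swap_apply_of_ne_of_ne hik.symm hjk.symm, L.u_swap hij, ← hz] at hzc
  have hinv : z⁻¹ = z := by
    nth_rw 2 [← hzc]
    rw [hz, _root_.mul_inv_rev, _root_.mul_inv_rev, inv_inv]
    calc L.u i k * ((L.u j k)⁻¹ * (L.u i j)⁻¹)
        = L.u i k * ((L.u i j)⁻¹ * (L.u j k)⁻¹) := by rw [((L.u_comm hij hjk).inv_inv).eq]
      _ = (L.u i j)⁻¹ * L.u i k * (L.u j k)⁻¹ := by
          rw [← mul_assoc, ((L.u_comm hik hij).inv_right).eq]
  have h1 := L.eq_one_of_sq hzker hinv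
  rwa [hz, mul_inv_eq_one] at h1

/-! ### The subgroup of order `3^5` -/

/-- The elements of the diagonal subgroup. -/
def dprod (f : Fin 4 → Fin 3) : Y :=
  L.u 0 1 ^ (f 0).1 * L.u 0 2 ^ (f 1).1 * L.u 0 3 ^ (f 2).1 * L.u 0 4 ^ (f 3).1

/-- The diagonal subgroup. -/
def U : Subgroup Y := Subgroup.closure (Set.range fun l : Fin 4 => L.u 0 l.succ)

theorem u_mem {i j : Fin 5} (h : i ≠ j) : L.u i j ∈ L.U := by
  have h0 : ∀ k : Fin 5, k ≠ 0 → L.u 0 k ∈ L.U := fun k hk => by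
    obtain ⟨l, rfl⟩ := Fin.exists_succ_eq.2 hk
    exact Subgroup.subset_closure ⟨l, rfl⟩
  by_cases hi : i = 0
  · subst hi; exact h0 j h.symm
  by_cases hj : j = 0
  · subst hj; rw [L.u_swap h.symm]; exact inv_mem (h0 i hi)
  rw [← L.u_triangle hi (Ne.symm hj) h, L.u_swap (Ne.symm hi)]
  exact mul_mem (inv_mem (h0 i hi)) (h0 j hj)

theorem dprod_mem (f : Fin 4 → Fin 3) : L.dprod f ∈ L.U :=
  mul_mem (mul_mem (mul_mem (pow_mem (L.u_mem (by decide)) _) (pow_mem (L.u_mem (by decide)) _))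
    (pow_mem (L.u_mem (by decide)) _)) (pow_mem (L.u_mem (by decide)) _)

theorem u_pow_mod {i j : Fin 5} (h : i ≠ j) (a : ℕ) : L.u i j ^ a = L.u i j ^ (a % 3) := by
  conv_lhs => rw [← Nat.mod_add_div a 3, pow_add, pow_mul, pow_succ, pow_two, L.u_three h, one_pow, mul_one]

theorem exists_dprod [Finite Y] {y : Y} (hy : y ∈ L.U) : ∃ f, L.dprod f = y := by
  have hmul : ∀ f g, L.dprod f * L.dprod g = L.dprod fun l => f l + g l := by
    intro f g
    have c := fun (a b : Fin 5) (ha : (0 : Fin 5) ≠ a) (hb : (0 : Fin 5) ≠ b) (p q : ℕ) =>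
      ((L.u_comm ha hb).pow_pow p q).eq
    simp only [dprod, Fin.val_add]
    rw [← L.u_pow_mod (by decide), ← L.u_pow_mod (by decide), ← L.u_pow_mod (by decide), ← L.u_pow_mod (by decide),
      pow_add, pow_add, pow_add, pow_add]
    generalize (f 0).1 = a0, (f 1).1 = a1, (f 2).1 = a2, (f 3).1 = a3, (g 0).1 = b0, (g 1).1 = b1,
      (g 2).1 = b2, (g 3).1 = b3
    have k1 : Commute (L.u 0 1 ^ b0) (L.u 0 2 ^ a1 * L.u 0 3 ^ a2 * L.u 0 4 ^ a3) :=
      ((Commute.mul_right (c 1 2 (by decide) (by decide) b0 a1) (c 1 3 (by decide) (by decide) b0 a2)).mul_right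
        (c 1 4 (by decide) (by decide) b0 a3))
    have k2 : Commute (L.u 0 2 ^ b1) (L.u 0 3 ^ a2 * L.u 0 4 ^ a3) :=
      Commute.mul_right (c 2 3 (by decide) (by decide) b1 a2) (c 2 4 (by decide) (by decide) b1 a3)
    have k3 : Commute (L.u 0 3 ^ b2) (L.u 0 4 ^ a3) := c 3 4 (by decide) (by decide) b2 a3
    calc L.u 0 1 ^ a0 * L.u 0 2 ^ a1 * L.u 0 3 ^ a2 * L.u 0 4 ^ a3
          * (L.u 0 1 ^ b0 * L.u 0 2 ^ b1 * L.u 0 3 ^ b2 * L.u 0 4 ^ b3)
        = L.u 0 1 ^ a0 * ((L.u 0 2 ^ a1 * L.u 0 3 ^ a2 * L.u 0 4 ^ a3) * L.u 0 1 ^ b0)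
          * (L.u 0 2 ^ b1 * L.u 0 3 ^ b2 * L.u 0 4 ^ b3) := by group
      _ = L.u 0 1 ^ a0 * L.u 0 1 ^ b0 * L.u 0 2 ^ a1 * ((L.u 0 3 ^ a2 * L.u 0 4 ^ a3) * L.u 0 2 ^ b1)
          * (L.u 0 3 ^ b2 * L.u 0 4 ^ b3) := by rw [← k1.eq]; group
      _ = L.u 0 1 ^ a0 * L.u 0 1 ^ b0 * (L.u 0 2 ^ a1 * L.u 0 2 ^ b1) * L.u 0 3 ^ a2
          * (L.u 0 4 ^ a3 * L.u 0 3 ^ b2) * L.u 0 4 ^ b3 := by rw [← k2.eq]; group
      _ = _ := by rw [← k3.eq]; group
  have hy' : y ∈ Submonoid.closure (Set.range fun l : Fin 4 => L.u 0 l.succ) := by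
    rw [← Subgroup.closure_toSubmonoid_of_finite]; exact hy
  induction hy' using Submonoid.closure_induction with
  | mem a ha =>
    obtain ⟨l, rfl⟩ := ha
    refine ⟨fun k => if k = l then 1 else 0, ?_⟩
    fin_cases l <;> simp [dprod]
  | one => exact ⟨fun _ => 0, by simp [dprod]⟩
  | mul a b _ _ iha ihb =>
    obtain ⟨f, rfl⟩ := iha
      (by rw [U]; exact Subgroup.le_closure_toSubmonoid _ (by assumption))
    obtain ⟨g, rfl⟩ := ihb
      (by rw [U]; exact Subgroup.le_closure_toSubmonoid _ (by assumption))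
    exact ⟨_, (hmul f g).symm⟩

/-- The entries of the elements of the diagonal subgroup. -/
def dvec (f : Fin 4 → Fin 3) : Fin 5 → GF4 :=
  ![GF4.w ^ (2 * ((f 0).1 + (f 1).1 + (f 2).1 + (f 3).1)), GF4.w ^ (f 0).1, GF4.w ^ (f 1).1,
    GF4.w ^ (f 2).1, GF4.w ^ (f 3).1]

theorem π_dprod (f : Fin 4 → Fin 3) (x : Vec 5) :
    (L.π (L.dprod f)).1.1 *ᵥ x = fun k => dvec f k * x k := by
  have hp : ∀ {i j : Fin 5}, i ≠ j → ∀ (a : ℕ) (x : Vec 5),
      (L.π (L.u i j ^ a)).1.1 *ᵥ x = fun k => du i j k ^ a * x k := by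
    intro i j h a
    induction a with
    | zero => intro x; rw [pow_zero, map_one, SU_one_mulVec]; simp
    | succ a ih =>
      intro x
      rw [pow_succ, map_mul, SU_mul_mulVec, ih, L.π_u h]
      funext k
      rw [pow_succ, mul_assoc]
  rw [dprod, map_mul, map_mul, map_mul, SU_mul_mulVec, SU_mul_mulVec, SU_mul_mulVec, hp (by decide),
    hp (by decide), hp (by decide), hp (by decide)]
  funext k
  simp only [dvec, du]
  fin_cases k <;> simp [pow_add, pow_mul, mul_add, mul_assoc]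

omit L in
theorem w_pow_inj : ∀ a b : Fin 3, GF4.w ^ a.1 = GF4.w ^ b.1 → a = b := by decide +kernel

omit L in
theorem dvec_inj {f g : Fin 4 → Fin 3} (h : dvec f = dvec g) : f = g := by
  funext l
  have e := congrFun h l.succ
  fin_cases l <;> exact w_pow_inj _ _ e

theorem dprod_inj {f g : Fin 4 → Fin 3} (h : L.π (L.dprod f) = L.π (L.dprod g)) : f = g := by
  refine dvec_inj (funext fun k => ?_)
  have e := congrFun (((L.π_dprod f (fun _ => 1)).symm.trans
    (congrArg (fun y : SUn 5 => y.1.1 *ᵥ (fun _ => 1 : Vec 5)) h)).trans (L.π_dprod g (fun _ => 1))) k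
  simpa using e

/-- An element over a three-cycle of the coordinates. -/
def cyc : Y := L.s (pv 0 1 1) * L.s (pv 1 2 1)

/-- The three-cycle. -/
def cycPerm : Equiv.Perm (Fin 5) := Equiv.swap 0 1 * Equiv.swap 1 2

theorem π_cyc (x : Vec 5) : (L.π L.cyc).1.1 *ᵥ x = fun k => x (cycPerm.symm k) := by
  have h01 : (0 : Fin 5) ≠ 1 := by decide
  have h12 : (1 : Fin 5) ≠ 2 := by decide
  rw [cyc, map_mul, SU_mul_mulVec, L.π_s_apply (iso_pv h01 one_ne_zero), L.π_s_apply (iso_pv h12 one_ne_zero)]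
  funext k
  simp only [tv_pv h01 one_ne_zero, tv_pv h12 one_ne_zero, one_pow, one_mul]
  fin_cases k <;> simp [cycPerm] <;> rfl

theorem cyc_three : L.cyc * L.cyc * L.cyc = 1 := by
  have h01 : (0 : Fin 5) ≠ 1 := by decide
  have h12 : (1 : Fin 5) ≠ 2 := by decide
  have h02 : (0 : Fin 5) ≠ 2 := by decide
  have ha := iso_pv h01 (one_ne_zero (α := GF4))
  have hb := iso_pv h12 (one_ne_zero (α := GF4))
  have hc := iso_pv h02 (one_ne_zero (α := GF4))
  have e1 : L.s (pv 1 2 1) * L.s (pv 0 1 1) * L.s (pv 1 2 1) = L.s (pv 0 2 1) := by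
    rw [L.s_tv hb ha, tv_pv_pv h01 h12 h02 one_ne_zero, one_mul]
  have e2 : L.s (pv 0 1 1) * L.s (pv 1 2 1) * L.s (pv 0 1 1) = L.s (pv 0 2 1) := by
    rw [L.s_tv ha hb]
    congr 1
    funext k
    rw [tv_pv h01 one_ne_zero, one_pow, one_mul, one_mul]
    fin_cases k <;> simp [pv_apply]
  calc L.cyc * L.cyc * L.cyc = (L.s (pv 0 1 1) * L.s (pv 1 2 1) * L.s (pv 0 1 1)) *
      (L.s (pv 1 2 1) * L.s (pv 0 1 1) * L.s (pv 1 2 1)) := by simp only [cyc]; group
    _ = 1 := by rw [e1, e2, L.s_sq _ hc]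

theorem cyc_conj_mem (k : ℕ) {y : Y} (hy : y ∈ L.U) : L.cyc ^ k * y * (L.cyc ^ k)⁻¹ ∈ L.U := by
  induction k generalizing y with
  | zero => simpa using hy
  | succ k ih =>
    rw [pow_succ, show L.cyc ^ k * L.cyc * y * (L.cyc ^ k * L.cyc)⁻¹
      = L.cyc ^ k * (L.cyc * y * L.cyc⁻¹) * (L.cyc ^ k)⁻¹ by group]
    apply ih
    clear ih
    induction hy using Subgroup.closure_induction with
    | mem a ha =>
      obtain ⟨l, rfl⟩ := ha
      rw [L.conj_u_perm cycPerm L.π_cyc (Fin.succ_ne_zero l).symm]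
      exact L.u_mem (cycPerm.injective.ne (Fin.succ_ne_zero l).symm)
    | one => simp
    | mul a b _ _ iha ihb =>
      rw [show L.cyc * (a * b) * L.cyc⁻¹ = L.cyc * a * L.cyc⁻¹ * (L.cyc * b * L.cyc⁻¹) by group]
      exact mul_mem iha ihb
    | inv a _ ih =>
      rw [show L.cyc * a⁻¹ * L.cyc⁻¹ = (L.cyc * a * L.cyc⁻¹)⁻¹ by group]
      exact inv_mem ih

/-- The subgroup of order `3^5`. -/
def T : Subgroup Y where
  carrier := {y | ∃ a ∈ L.U, ∃ k : ℕ, y = a * L.cyc ^ k}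
  one_mem' := ⟨1, one_mem _, 0, by simp⟩
  mul_mem' := by
    rintro _ _ ⟨a, ha, k, rfl⟩ ⟨b, hb, l, rfl⟩
    exact ⟨a * (L.cyc ^ k * b * (L.cyc ^ k)⁻¹), mul_mem ha (L.cyc_conj_mem k hb), k + l, by
      rw [pow_add]; group⟩
  inv_mem' := by
    rintro _ ⟨a, ha, k, rfl⟩
    refine ⟨L.cyc ^ (2 * k) * a⁻¹ * (L.cyc ^ (2 * k))⁻¹, L.cyc_conj_mem _ (inv_mem ha), 2 * k, ?_⟩
    have e : (L.cyc ^ k)⁻¹ = L.cyc ^ (2 * k) := inv_eq_of_mul_eq_one_right (by
      rw [← pow_add, show k + 2 * k = 3 * k by ring, pow_mul, pow_succ, pow_two, L.cyc_three, one_pow])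
    rw [_root_.mul_inv_rev, e]
    group

theorem T_param [Finite Y] : Function.Bijective (fun p : (Fin 4 → Fin 3) × Fin 3 =>
    (⟨L.dprod p.1 * L.cyc ^ p.2.1, L.dprod p.1, L.dprod_mem _, p.2.1, rfl⟩ : L.T)) ∧
    ∀ p q : (Fin 4 → Fin 3) × Fin 3,
      L.π (L.dprod p.1 * L.cyc ^ p.2.1) = L.π (L.dprod q.1 * L.cyc ^ q.2.1) → p = q := by
  have hinj : ∀ p q : (Fin 4 → Fin 3) × Fin 3,
      L.π (L.dprod p.1 * L.cyc ^ p.2.1) = L.π (L.dprod q.1 * L.cyc ^ q.2.1) → p = q := by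
    rintro ⟨f, a⟩ ⟨g, b⟩ h
    have hcp : ∀ (k : Fin 3) (x : Vec 5), (L.π (L.cyc ^ k.1)).1.1 *ᵥ x = fun l => x ((cycPerm ^ k.1).symm l) := by
      intro k x
      fin_cases k
      · show (L.π (L.cyc ^ 0)).1.1 *ᵥ x = fun l => x ((cycPerm ^ 0).symm l)
        rw [pow_zero, pow_zero, map_one, SU_one_mulVec]; rfl
      · show (L.π (L.cyc ^ 1)).1.1 *ᵥ x = fun l => x ((cycPerm ^ 1).symm l)
        rw [pow_one, pow_one, L.π_cyc]
      · show (L.π (L.cyc ^ 2)).1.1 *ᵥ x = fun l => x ((cycPerm ^ 2).symm l)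
        rw [pow_two, pow_two, map_mul, SU_mul_mulVec, L.π_cyc, L.π_cyc]; rfl
    have he : ∀ x : Vec 5, (fun l => dvec f l * x ((cycPerm ^ a.1).symm l)) =
        fun l => dvec g l * x ((cycPerm ^ b.1).symm l) := by
      intro x
      have h1 := congrArg (fun y : SUn 5 => y.1.1 *ᵥ x) h
      simp only [map_mul, SU_mul_mulVec, hcp, L.π_dprod] at h1
      exact h1
    have hdne : ∀ (f : Fin 4 → Fin 3) l, dvec f l ≠ 0 := by
      intro f l; fin_cases l <;> simp [dvec, K.w_ne.1]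
    have key : ∀ a b : Fin 3, (cycPerm ^ a.1).symm 0 = (cycPerm ^ b.1).symm 0 → a = b := by decide
    have hab : a = b := by
      apply key
      by_contra hne
      have := congrFun (he (Pi.single ((cycPerm ^ a.1).symm 0) 1)) 0
      rw [Pi.single_eq_same, mul_one, Pi.single_eq_of_ne (Ne.symm hne), mul_zero] at this
      exact hdne f 0 this
    subst hab
    refine Prod.ext (dvec_inj (funext fun l => ?_)) rfl
    have := congrFun (he fun _ => 1) l
    simpa using this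
  refine ⟨⟨fun p q h => hinj p q (congrArg L.π (congrArg Subtype.val h)), ?_⟩, hinj⟩
  rintro ⟨_, a, ha, k, rfl⟩
  obtain ⟨f, rfl⟩ := L.exists_dprod ha
  refine ⟨(f, ⟨k % 3, Nat.mod_lt _ (by norm_num)⟩), Subtype.ext ?_⟩
  show L.dprod f * L.cyc ^ (k % 3) = _
  congr 1
  conv_rhs => rw [← Nat.mod_add_div k 3, pow_add, pow_mul, pow_succ, pow_two, L.cyc_three, one_pow, mul_one]

theorem card_map_T [Finite Y] : Nat.card (L.T.map L.π) = 243 := by
  obtain ⟨hb, hinj⟩ := L.T_param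
  let g : (Fin 4 → Fin 3) × Fin 3 → L.T.map L.π := fun p =>
    ⟨L.π (L.dprod p.1 * L.cyc ^ p.2.1), Subgroup.mem_map_of_mem _ ⟨_, L.dprod_mem _, p.2.1, rfl⟩⟩
  have hg : Function.Bijective g := by
    refine ⟨fun p q h => hinj p q (congrArg Subtype.val h), ?_⟩
    rintro ⟨_, y, hy, rfl⟩
    obtain ⟨p, hp⟩ := hb.2 ⟨y, hy⟩
    exact ⟨p, Subtype.ext (congrArg L.π (congrArg Subtype.val hp))⟩
  rw [← Nat.card_congr (Equiv.ofBijective g hg), Nat.card_prod, Nat.card_pi]
  simp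

theorem T_inter_ker [Finite Y] {y : Y} (hy : y ∈ L.T) (h : L.π y = 1) : y = 1 := by
  obtain ⟨hb, hinj⟩ := L.T_param
  obtain ⟨p, hp⟩ := hb.2 ⟨y, hy⟩
  obtain ⟨q, hq⟩ := hb.2 ⟨1, one_mem _⟩
  have hp' := congrArg Subtype.val hp
  have hq' := congrArg Subtype.val hq
  simp only at hp' hq'
  have hpq := hinj p q (by rw [hp', hq', h, map_one])
  rw [← hp', ← hq', hpq]

/-! ### The transfers -/

omit L in
theorem card_SU_five : Nat.card (SUn 5) = 13685760 := by
  have h := card_SU_mul (F := GF4) (q := 2) TwoRadicalSU.card_eq (n := 5) (by norm_num)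
  rw [card_GU TwoRadicalSU.card_eq] at h
  norm_num [Finset.prod_range_succ, Nat.even_iff] at h
  show Nat.card ↥(Cfsg.SU 5 GF4 2) = _
  omega

theorem index_comap [Finite Y] (H : Subgroup (SUn 5)) :
    Nat.card H * (H.comap L.π).index = 13685760 := by
  rw [Subgroup.index_comap_of_surjective H L.surj, Subgroup.card_mul_index, card_SU_five]

theorem map_triv {z : Y} (hz : L.π z = 1) {A : Type u} [CommGroup A] (f : Y →* A) [Finite Y] : f z = 1 := by
  obtain ⟨v0, hv0⟩ : ∃ v : Vec 5, Iso v := ⟨_, iso_pv (i := (0 : Fin 5)) (j := 1) (by decide) one_ne_zero⟩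
  have hone : ∀ v, Iso v → f (L.s v) * f (L.s v) = 1 := fun v hv => by
    rw [← map_mul, L.s_sq v hv, map_one]
  have hfix : ∀ a b, Iso a → Iso b → f (L.s (tv a b)) = f (L.s b) := fun a b ha hb => by
    rw [← L.s_tv ha hb, map_mul, map_mul, mul_comm (f (L.s a)) (f (L.s b)), mul_assoc, hone a ha, mul_one]
  have hlink : ∀ a b, Iso a → Iso b → hf a b ≠ 0 → f (L.s b) = f (L.s a) := fun a b ha hb hab => by
    have e : tv a (tv b a) = hf a b • b := by
      conv_lhs => rw [TwoRadicalSU.tv]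
      rw [tv, hf_add_left, hf_smul_left, ha.2, zero_add, hf_symm a b, K.cube _ hab, one_smul,
        add_comm a, add_assoc, vadd_self, add_zero]
    rw [← L.s_smul b hb _ hab, ← e, hfix a _ ha (ha.tv hb.2), hfix b a hb ha]
  have hconst : ∀ v, Iso v → f (L.s v) = f (L.s v0) := by
    intro v hv
    obtain ⟨y, hy, hvy, huy⟩ := exists_common_nonorth (q := 2) TwoRadicalSU.card_eq hv0.1 hv0.2 hv.1 hv.2
    have hy' : Iso y := ⟨fun e => hvy (by rw [e]; exact hf_zero_right v0), hy⟩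
    rw [hlink y v hy' hv (fun e => huy (hf_zero_symm e)), hlink v0 y hv0 hy' hvy]
  have hsq : ∀ y : Y, f y * f y = 1 := by
    intro y
    have hy : y ∈ Subgroup.closure {y | ∃ v, Iso v ∧ y = L.s v} := by rw [L.s_gen]; exact Subgroup.mem_top y
    induction hy using Subgroup.closure_induction with
    | mem a ha =>
      obtain ⟨v, hv, rfl⟩ := ha
      rw [← map_mul, L.s_sq v hv, map_one]
    | one => simp
    | mul a b _ _ iha ihb => rw [map_mul, mul_mul_mul_comm, iha, ihb, one_mul]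
    | inv a _ ih => rw [map_inv, ← _root_.mul_inv_rev, ih, inv_one]
  obtain ⟨k, m, hm, hkm⟩ := Nat.exists_eq_two_pow_mul_odd (orderOf_pos z).ne'
  have hpow : ∀ j : ℕ, z ^ 2 ^ j = 1 → z = 1 := by
    intro j
    induction j with
    | zero => simp
    | succ j ih =>
      intro h
      apply ih
      refine L.odd _ (by rw [map_pow, hz, one_pow]) ?_
      rw [← pow_add, ← two_mul, ← pow_succ']; exact h
  have hzm : z ^ m = 1 := by
    refine Classical.byContradiction fun hne => hne ?_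
    have : ∀ j : ℕ, (z ^ m) ^ 2 ^ j = 1 → z ^ m = 1 := by
      intro j
      induction j with
      | zero => simp
      | succ j ih =>
        intro h
        apply ih
        refine L.odd _ (by rw [map_pow, map_pow, hz, one_pow, one_pow]) ?_
        rw [← pow_add, ← two_mul, ← pow_succ']; exact h
    exact this k (by rw [← pow_mul, mul_comm, ← hkm, pow_orderOf_eq_one])
  have h2 : f z ^ m = 1 := by rw [← map_pow, hzm, map_one]
  obtain ⟨r, rfl⟩ := hm
  rwa [pow_succ, pow_mul, pow_two, hsq, one_pow, one_mul] at h2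

theorem pow_cofactor [Finite Y] {z : Y} (hz : L.π z = 1) {p : ℕ} (hp : p.Prime) (hdvd : p ∣ 13685760) :
    z ^ (13685760 / p) = 1 := by
  have : Fact p.Prime := ⟨hp⟩
  obtain ⟨g, hg⟩ := exists_prime_orderOf_dvd_card' (G := SUn 5) p (by rw [card_SU_five]; exact hdvd)
  set H := (Subgroup.zpowers g).comap L.π with hH
  obtain ⟨y0, hy0⟩ := L.surj g
  have hidx : H.index = 13685760 / p := by
    have h := L.index_comap (Subgroup.zpowers g)
    rw [Nat.card_zpowers, hg] at h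
    rw [← h, Nat.mul_div_cancel_left _ hp.pos]
  have hab : commutator H = ⊥ := by
    rw [commutator_def, Subgroup.commutator_eq_bot_iff_le_centralizer]
    intro a _
    rw [Subgroup.mem_centralizer_iff]
    intro b _
    obtain ⟨i, hi⟩ := Subgroup.mem_zpowers_iff.1 (a.2 : L.π a.1 ∈ Subgroup.zpowers g)
    obtain ⟨j, hj⟩ := Subgroup.mem_zpowers_iff.1 (b.2 : L.π b.1 ∈ Subgroup.zpowers g)
    have ha := L.central (show a.1 * (y0 ^ i)⁻¹ ∈ L.π.ker by
      rw [MonoidHom.mem_ker, map_mul, map_inv, map_zpow, hy0, hi, mul_inv_cancel])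
    have hb := L.central (show b.1 * (y0 ^ j)⁻¹ ∈ L.π.ker by
      rw [MonoidHom.mem_ker, map_mul, map_inv, map_zpow, hy0, hj, mul_inv_cancel])
    apply Subtype.ext
    show b.1 * a.1 = a.1 * b.1
    have h1 : Commute (b.1 * (y0 ^ j)⁻¹) a.1 := (Subgroup.mem_center_iff.1 hb a.1).symm
    have h2 : Commute (y0 ^ j) (a.1 * (y0 ^ i)⁻¹) := Subgroup.mem_center_iff.1 ha _
    have h3 : Commute (y0 ^ j) a.1 := by
      have := h2.mul_right (Commute.zpow_zpow_self y0 j i)
      rwa [inv_mul_cancel_right] at this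
    have := h1.mul_left h3
    rwa [inv_mul_cancel_right] at this
  have hmem : z ^ H.index ∈ H := by
    show L.π (z ^ H.index) ∈ Subgroup.zpowers g
    rw [map_pow, hz, one_pow]; exact one_mem _
  have h := pow_index_mem_commutator (H := H) (L.central hz) (fun f => L.map_triv hz f) hmem
  rw [hab, Subgroup.mem_bot, Subtype.ext_iff] at h
  rw [← hidx]; exact h

theorem pow_three_part [Finite Y] {z : Y} (hz : L.π z = 1) : z ^ 56320 = 1 := by
  set H := (L.T.map L.π).comap L.π with hH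
  have hidx : H.index = 56320 := by
    have h := L.index_comap (L.T.map L.π)
    rw [L.card_map_T, ← hH] at h
    omega
  have hmem : z ^ H.index ∈ H := by
    show L.π (z ^ H.index) ∈ L.T.map L.π
    rw [map_pow, hz, one_pow]; exact one_mem _
  have h := pow_index_mem_commutator (H := H) (L.central hz) (fun f => L.map_triv hz f) hmem
  have hle : (commutator H).map H.subtype ≤ L.T := by
    rw [commutator_def, Subgroup.map_commutator, Subgroup.commutator_le]
    intro a ha b hb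
    obtain ⟨a, -, rfl⟩ := ha
    obtain ⟨b, -, rfl⟩ := hb
    obtain ⟨c, hc, ec⟩ := (a.2 : L.π a.1 ∈ L.T.map L.π)
    obtain ⟨d, hd, ed⟩ := (b.2 : L.π b.1 ∈ L.T.map L.π)
    have ha' := L.central (show c⁻¹ * a.1 ∈ L.π.ker by rw [MonoidHom.mem_ker, map_mul, map_inv, ec, inv_mul_cancel])
    have hb' := L.central (show d⁻¹ * b.1 ∈ L.π.ker by rw [MonoidHom.mem_ker, map_mul, map_inv, ed, inv_mul_cancel])
    have e : ⁅(H.subtype a), (H.subtype b)⁆ = ⁅c, d⁆ := by
      show ⁅a.1, b.1⁆ = ⁅c, d⁆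
      have hcomm : ∀ x y : Y, x ∈ Subgroup.center Y → y ∈ Subgroup.center Y → ⁅c * x, d * y⁆ = ⁅c, d⁆ := by
        intro x y hx hy
        rw [commutatorElement_def, commutatorElement_def]
        calc c * x * (d * y) * (c * x)⁻¹ * (d * y)⁻¹
            = c * (x * (d * y)) * x⁻¹ * (c⁻¹ * y⁻¹) * d⁻¹ := by group
          _ = c * ((d * y) * x) * x⁻¹ * (c⁻¹ * y⁻¹) * d⁻¹ := by rw [Subgroup.mem_center_iff.1 hx (d * y)]
          _ = c * d * (y * c⁻¹) * y⁻¹ * d⁻¹ := by group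
          _ = c * d * (c⁻¹ * y) * y⁻¹ * d⁻¹ := by rw [Subgroup.mem_center_iff.1 hy c⁻¹]
          _ = _ := by group
      rw [← hcomm _ _ ha' hb', mul_inv_cancel_left, mul_inv_cancel_left]
    rw [e]
    exact mul_mem (mul_mem (mul_mem hc hd) (inv_mem hc)) (inv_mem hd)
  have hT := hle (Subgroup.mem_map_of_mem _ h)
  rw [← hidx]
  exact L.T_inter_ker hT (by show L.π (z ^ H.index) = 1; rw [map_pow, hz, one_pow])

/-- The kernel is trivial. -/
theorem eq_one [Finite Y] {z : Y} (hz : L.π z = 1) : z = 1 := by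
  have h5 := L.pow_cofactor hz (p := 5) (by norm_num) (by norm_num)
  have h11 := L.pow_cofactor hz (p := 11) (by norm_num) (by norm_num)
  have h3 := L.pow_three_part hz
  have hd : orderOf z ∣ Nat.gcd (Nat.gcd (13685760 / 5) (13685760 / 11)) 56320 :=
    Nat.dvd_gcd (Nat.dvd_gcd (orderOf_dvd_of_pow_eq_one h5) (orderOf_dvd_of_pow_eq_one h11))
      (orderOf_dvd_of_pow_eq_one h3)
  have hg : Nat.gcd (Nat.gcd (13685760 / 5) (13685760 / 11)) 56320 = 2 ^ 10 := by norm_num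
  rw [hg] at hd
  have hpow : ∀ j : ℕ, z ^ 2 ^ j = 1 → z = 1 := by
    intro j
    induction j with
    | zero => simp
    | succ j ih =>
      intro h
      apply ih
      refine L.odd _ (by rw [map_pow, hz, one_pow]) ?_
      rw [← pow_add, ← two_mul, ← pow_succ']; exact h
  exact hpow 10 (orderOf_dvd_iff_pow_eq_one.1 hd)

end Lift5

end CfsgLib.TwoRadGen
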