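import Mathlib
import Cfsg.Agent.Lib.TwoRadicalSU.Geom

/-!
# Supports of isotropic vectors over the field of four elements, and generation of `SU(n,2)`
-/

set_option autoImplicit false
set_option linter.unusedSectionVars false
set_option linter.unusedSimpArgs false

namespace CfsgLib.TwoRadGen.UG

open Cfsg CfsgLib.TwoRadical CfsgLib.TwoRadicalSU CfsgLib.ClassicalGroups Matrix

variable {n : ℕ}

/-- The non-zero coordinates. -/
def supp (v : Vec n) : Finset (Fin n) := Finset.univ.filter fun i => v i ≠ 0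

theorem mem_supp {v : Vec n} {i : Fin n} : i ∈ supp v ↔ v i ≠ 0 := by simp [supp]

theorem not_mem_supp {v : Vec n} {i : Fin n} : i ∉ supp v ↔ v i = 0 := by simp [supp]

theorem hf_def (x y : Vec n) : hf x y = ∑ i, x i * y i ^ 2 := rfl

theorem hf_self (v : Vec n) : hf v v = ((supp v).card : GF4) := by
  rw [hf_def, Finset.card_eq_sum_ones, Nat.cast_sum, supp, Finset.sum_filter]
  refine Finset.sum_congr rfl fun i _ => ?_
  by_cases h : v i = 0
  · simp [h]
  · rw [if_pos h, K.cube _ h, Nat.cast_one]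

theorem even_supp {v : Vec n} (h : hf v v = 0) : Even (supp v).card := by
  rw [hf_self] at h
  exact even_iff_two_dvd.2 ((CharP.cast_eq_zero_iff GF4 2 _).1 h)

theorem two_le_supp {v : Vec n} (h : Iso v) : 2 ≤ (supp v).card := by
  obtain ⟨k, hk⟩ := even_supp h.2
  by_contra hlt
  have h0 : (supp v).card = 0 := by omega
  exact h.1 (funext fun i => not_mem_supp.1 (by rw [Finset.card_eq_zero.1 h0]; simp))

theorem supp_smul {a : GF4} (ha : a ≠ 0) (v : Vec n) : supp (a • v) = supp v := by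
  ext i; simp [mem_supp, ha]

/-- A point is a monomial point or has a large support. -/
theorem supp_cases {v : Vec n} (h : Iso v) :
    (∃ i j : Fin n, ∃ a : GF4, i ≠ j ∧ a ≠ 0 ∧ v = v i • pv i j a) ∨ 4 ≤ (supp v).card := by
  obtain ⟨k, hk⟩ := even_supp h.2
  have h2 := two_le_supp h
  by_cases h4 : 4 ≤ (supp v).card
  · exact Or.inr h4
  obtain ⟨i, j, hij, hs⟩ := Finset.card_eq_two.1 (show (supp v).card = 2 by omega)
  have hi : v i ≠ 0 := mem_supp.1 (by rw [hs]; simp)
  have hj : v j ≠ 0 := mem_supp.1 (by rw [hs]; simp)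
  refine Or.inl ⟨i, j, (v i)⁻¹ * v j, hij, mul_ne_zero (inv_ne_zero hi) hj, funext fun l => ?_⟩
  rw [Pi.smul_apply, smul_eq_mul]
  by_cases hli : l = i
  · rw [hli, pv_left hij, mul_one]
  by_cases hlj : l = j
  · rw [hlj, pv_right hij, ← mul_assoc, mul_inv_cancel₀ hi, one_mul]
  rw [pv_other hli hlj, mul_zero]
  exact not_mem_supp.1 (by rw [hs]; simp [hli, hlj])

theorem supp_pv {i j : Fin n} (h : i ≠ j) {a : GF4} (ha : a ≠ 0) : supp (pv i j a) = {i, j} := by
  ext k
  rw [mem_supp, Finset.mem_insert, Finset.mem_singleton]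
  by_cases hi : k = i
  · simp [hi, pv_left h]
  by_cases hj : k = j
  · simp [hj, pv_right h, ha]
  simp [hi, hj, pv_other hi hj]

/-! ### Splitting off a vector of weight four -/

/-- The coefficients `1, w, w², 1` on four places. -/
def coef (P : Fin 4 → Fin n) (k : Fin n) : GF4 :=
  if k = P 0 ∨ k = P 3 then 1 else if k = P 1 then GF4.w else if k = P 2 then GF4.w ^ 2 else 0

/-- The part of `v` on four places with those coefficients. -/
def xp (P : Fin 4 → Fin n) (v : Vec n) : Vec n := fun k => v k * coef P k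

theorem coef_apply {P : Fin 4 → Fin n} (hP : Function.Injective P) :
    coef P (P 0) = 1 ∧ coef P (P 1) = GF4.w ∧ coef P (P 2) = GF4.w ^ 2 ∧ coef P (P 3) = 1 := by
  simp [coef, hP.eq_iff]

theorem coef_other {P : Fin 4 → Fin n} {k : Fin n} (hk : ∀ i, k ≠ P i) : coef P k = 0 := by
  simp [coef, hk]

theorem coef_ne {P : Fin 4 → Fin n} (hP : Function.Injective P) (i : Fin 4) : coef P (P i) ≠ 0 := by
  obtain ⟨h0, h1, h2, h3⟩ := coef_apply hP
  fin_cases i
  · show coef P (P 0) ≠ 0; rw [h0]; exact one_ne_zero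
  · show coef P (P 1) ≠ 0; rw [h1]; exact K.w_ne.1
  · show coef P (P 2) ≠ 0; rw [h2]; exact K.w_ne.2.2.2.2
  · show coef P (P 3) ≠ 0; rw [h3]; exact one_ne_zero

theorem sum_image_four {P : Fin 4 → Fin n} (hP : Function.Injective P) (f : Fin n → GF4)
    (hf0 : ∀ k, (∀ i, k ≠ P i) → f k = 0) : ∑ k, f k = f (P 0) + f (P 1) + f (P 2) + f (P 3) := by
  rw [← Fin.sum_univ_four (fun i => f (P i)), ← Finset.sum_image (f := f) fun a _ b _ h => hP h]
  refine (Finset.sum_subset (Finset.subset_univ _) fun k _ hk => hf0 k fun i hi => hk ?_).symm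
  exact Finset.mem_image.2 ⟨i, Finset.mem_univ i, hi.symm⟩

variable {P : Fin 4 → Fin n} {v : Vec n}

theorem xp_other {k : Fin n} (hk : ∀ i, k ≠ P i) : xp P v k = 0 := by simp [xp, coef_other hk]

theorem xp_zero {k : Fin n} (hk : v k = 0) : xp P v k = 0 := by simp [xp, hk]

theorem xp_smul (c : GF4) : xp P (c • v) = c • xp P v := funext fun k => by simp [xp, mul_assoc]

theorem supp_xp (hP : Function.Injective P) (hv : ∀ i, v (P i) ≠ 0) :
    supp (xp P v) = Finset.univ.image P := by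
  ext k
  rw [mem_supp, Finset.mem_image]
  constructor
  · intro h
    by_contra hk
    push Not at hk
    exact h (xp_other fun i => (hk i (Finset.mem_univ i)).symm)
  · rintro ⟨i, -, rfl⟩
    exact mul_ne_zero (hv i) (coef_ne hP i)

theorem card_supp_xp (hP : Function.Injective P) (hv : ∀ i, v (P i) ≠ 0) : (supp (xp P v)).card = 4 := by
  rw [supp_xp hP hv, Finset.card_image_of_injective _ hP, Finset.card_univ, Fintype.card_fin]

theorem hf_xp (hP : Function.Injective P) (hv : ∀ i, v (P i) ≠ 0) : hf v (xp P v) = 1 := by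
  rw [hf_def, sum_image_four hP _ fun k hk => by rw [xp_other hk]; simp]
  obtain ⟨h0, h1, h2, h3⟩ := coef_apply hP
  have key : ∀ a : GF4, a ≠ 0 → ∀ c : GF4, a * (a * c) ^ 2 = c ^ 2 := by decide +kernel
  simp only [xp, key _ (hv 0), key _ (hv 1), key _ (hv 2), key _ (hv 3), h0, h1, h2, h3]
  decide +kernel

theorem xp_iso (hP : Function.Injective P) (hv : ∀ i, v (P i) ≠ 0) : Iso (xp P v) := by
  refine ⟨fun h => ?_, ?_⟩
  · have := card_supp_xp hP hv
    rw [h] at this
    simp [supp] at this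
  · rw [hf_self, card_supp_xp hP hv]; decide +kernel

theorem tv_xp_sub (hP : Function.Injective P) (hv : ∀ i, v (P i) ≠ 0) :
    tv (xp P v) v = v + xp P v := by
  rw [tv, hf_xp hP hv, one_smul]

theorem tv_xp (hP : Function.Injective P) (hv : ∀ i, v (P i) ≠ 0) :
    tv (xp P v) (v + xp P v) = v := by
  rw [← tv_xp_sub hP hv, tv_tv (xp_iso hP hv).2]

theorem iso_sub (hP : Function.Injective P) (hv : ∀ i, v (P i) ≠ 0) (h : Iso v) : Iso (v + xp P v) := by
  rw [← tv_xp_sub hP hv]; exact h.tv (xp_iso hP hv).2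

theorem sub_zero_ends (hP : Function.Injective P) :
    (v + xp P v) (P 0) = 0 ∧ (v + xp P v) (P 3) = 0 := by
  obtain ⟨h0, -, -, h3⟩ := coef_apply hP
  simp [xp, h0, h3, K.add_self]

theorem supp_sub (hP : Function.Injective P) :
    supp (v + xp P v) ⊆ (supp v).erase (P 0) := by
  intro k hk
  rw [mem_supp] at hk
  rw [Finset.mem_erase, mem_supp]
  refine ⟨fun e => hk (e ▸ (sub_zero_ends hP).1), fun e => hk ?_⟩
  simp [e, xp_zero e]

theorem card_sub_lt (hP : Function.Injective P) (hv : ∀ i, v (P i) ≠ 0) :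
    (supp (v + xp P v)).card < (supp v).card :=
  (Finset.card_le_card (supp_sub hP)).trans_lt
    (Finset.card_erase_lt_of_mem (mem_supp.2 (hv 0)))

theorem exists_places {T : Finset (Fin n)} (hT : 4 ≤ T.card) :
    ∃ P : Fin 4 → Fin n, Function.Injective P ∧ ∀ i, P i ∈ T := by
  obtain ⟨T', hT', hc⟩ := Finset.exists_subset_card_eq hT
  exact ⟨T'.orderEmbOfFin hc, (T'.orderEmbOfFin hc).injective,
    fun i => hT' (Finset.orderEmbOfFin_mem T' hc i)⟩

/-- Induction on the support. -/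
theorem iso_induction {p : Vec n → Prop} (hsmul : ∀ v, Iso v → ∀ c : GF4, c ≠ 0 → p v → p (c • v))
    (hmono : ∀ i j : Fin n, ∀ a : GF4, i ≠ j → a ≠ 0 → p (pv i j a))
    (hstep : ∀ (v : Vec n) (P : Fin 4 → Fin n), Iso v → Function.Injective P → (∀ i, v (P i) ≠ 0) →
      p (v + xp P v) → p v) (v : Vec n) (hv : Iso v) : p v := by
  induction' hk : (supp v).card using Nat.strong_induction_on with k ih generalizing v
  rcases supp_cases hv with ⟨i, j, a, hij, ha, e⟩ | h4
  · have hi : v i ≠ 0 := fun k => hv.1 (by rw [e, k, zero_smul])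
    rw [e]
    exact hsmul _ (iso_pv hij ha) _ hi (hmono i j a hij ha)
  · obtain ⟨P, hP, hPm⟩ := exists_places h4
    have hvP : ∀ i, v (P i) ≠ 0 := fun i => mem_supp.1 (hPm i)
    exact hstep v P hv hP hvP (ih _ (hk ▸ card_sub_lt hP hvP) _ (iso_sub hP hvP hv) rfl)

/-! ### Diagonal elements -/

theorem exists_dg (c : Fin n → GF4) (hprod : ∏ i, c i = 1) :
    ∃ t : SUn n, ∀ x, t.1.1 *ᵥ x = fun i => c i * x i := by
  have hdet : (Matrix.diagonal c).det = 1 := by rw [Matrix.det_diagonal, hprod]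
  have hc : ∀ i, c i ≠ 0 := fun i h => one_ne_zero (α := GF4) (by
    rw [← hprod]; exact Finset.prod_eq_zero (Finset.mem_univ i) h)
  refine ⟨⟨⟨Matrix.diagonal c, hdet⟩, mem_SU_iff.2 fun u v => ?_⟩, fun x => funext fun i => ?_⟩
  · simp only [Cfsg.hermForm, Matrix.mulVec_diagonal]
    refine Finset.sum_congr rfl fun i _ => ?_
    rw [mul_pow, mul_mul_mul_comm, K.cube _ (hc i), one_mul]
  · exact Matrix.mulVec_diagonal c x i

open Classical in
/-- The diagonal element with the given entries, if their product is one. -/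
noncomputable def dg (c : Fin n → GF4) : SUn n :=
  if h : ∏ i, c i = 1 then (exists_dg c h).choose else 1

theorem dg_apply {c : Fin n → GF4} (h : ∏ i, c i = 1) (x : Vec n) : (dg c).1.1 *ᵥ x = fun i => c i * x i := by
  rw [dg, dif_pos h]; exact (exists_dg c h).choose_spec x

/-! ### Generation -/

theorem closure_iso : Subgroup.closure {g : SUn n | ∃ v, Iso v ∧ g = tEl v} = ⊤ ∨ n < 4 := by
  by_cases hn : n < 4
  · exact Or.inr hn
  left
  set N := Subgroup.closure {g : SUn n | ∃ v, Iso v ∧ g = tEl v} with hN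
  have hNn : N.Normal := ⟨fun x hx g => by
    induction hx using Subgroup.closure_induction with
    | mem x hx =>
      obtain ⟨v, hv, rfl⟩ := hx
      exact Subgroup.subset_closure ⟨_, hv.map g, conj_tEl g hv.2⟩
    | one => simp
    | mul a b _ _ iha ihb =>
      rw [show g * (a * b) * g⁻¹ = g * a * g⁻¹ * (g * b * g⁻¹) by group]
      exact mul_mem iha ihb
    | inv a _ ih => rw [show g * a⁻¹ * g⁻¹ = (g * a * g⁻¹)⁻¹ by group]; exact inv_mem ih⟩
  refine (normal_le_center_or_top (q := 2) (card_eq) (by omega) (by omega) N hNn).resolve_left fun hle => ?_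
  have h01 : (⟨0, by omega⟩ : Fin n) ≠ ⟨1, by omega⟩ := by simp [Fin.ext_iff]
  have hc : ∀ v, Iso v → ∀ g : SUn n, g * tEl v * g⁻¹ = tEl v := fun v hv g => by
    rw [(Subgroup.mem_center_iff.1 (hle (Subgroup.subset_closure ⟨v, hv, rfl⟩)) g), mul_inv_cancel_right]
  obtain ⟨c, -, hcc⟩ := eq_smul_of_tEl_eq (iso_pv h01 one_ne_zero) ((iso_pv h01 one_ne_zero).map
    (tEl (pv ⟨1, by omega⟩ (⟨2, by omega⟩ : Fin n) 1)))
    ((hc _ (iso_pv h01 one_ne_zero) _).symm.trans (conj_tEl _ (iso_pv h01 one_ne_zero).2))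
  have h12 : (⟨1, by omega⟩ : Fin n) ≠ ⟨2, by omega⟩ := by simp [Fin.ext_iff]
  have h02 : (⟨0, by omega⟩ : Fin n) ≠ ⟨2, by omega⟩ := by simp [Fin.ext_iff]
  rw [tEl_apply (iso_pv h12 one_ne_zero).2, tv_pv_pv h01 h12 h02 one_ne_zero] at hcc
  have := congrFun hcc ⟨2, by omega⟩
  rw [pv_right h02, Pi.smul_apply, pv_other h02.symm h12.symm, smul_zero] at this
  exact mul_ne_zero one_ne_zero one_ne_zero this

/-- Swapping and phases: monomial elements reach every vector of weight four. -/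
theorem mem_of_monomial (hn : 4 ≤ n) {M : Subgroup (SUn n)}
    (hmono : ∀ i j : Fin n, ∀ a : GF4, i ≠ j → a ≠ 0 → tEl (pv i j a) ∈ M)
    {x : Vec n} (hx : Iso x) (hx4 : (supp x).card = 4) (hxK : tEl x ∈ M) : M = ⊤ := by
  have hmove : ∀ g ∈ M, ∀ v : Vec n, Iso v → tEl v ∈ M → tEl (g.1.1 *ᵥ v) ∈ M := fun g hg v hv h => by
    rw [← conj_tEl g hv.2]; exact mul_mem (mul_mem hg h) (inv_mem hg)
  -- supports
  have hswap : ∀ v : Vec n, (supp v).card = 4 → ∃ g ∈ M, supp (g.1.1 *ᵥ v) = supp x := by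
    intro v hv
    induction' hk : (supp v \ supp x).card using Nat.strong_induction_on with k ih generalizing v
    by_cases h0 : supp v \ supp x = ∅
    · refine ⟨1, one_mem M, ?_⟩
      rw [SU_one_mulVec]
      exact Finset.eq_of_subset_of_card_le (Finset.sdiff_eq_empty_iff_subset.1 h0) (by omega)
    obtain ⟨i, hi⟩ := Finset.nonempty_iff_ne_empty.2 h0
    obtain ⟨j, hj⟩ : (supp x \ supp v).Nonempty := by
      rw [← Finset.card_pos]
      have e1 := Finset.card_sdiff_add_card_inter (supp v) (supp x)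
      have e2 := Finset.card_sdiff_add_card_inter (supp x) (supp v)
      rw [Finset.inter_comm] at e2
      have := Finset.card_pos.2 ⟨i, hi⟩
      omega
    rw [Finset.mem_sdiff] at hi hj
    have hij : i ≠ j := fun e => hi.2 (e ▸ hj.1)
    set v' := (tEl (pv i j (1 : GF4))).1.1 *ᵥ v with hv'
    have hs : supp v' = insert j ((supp v).erase i) := by
      ext l
      rw [hv', tEl_apply (iso_pv hij one_ne_zero).2, mem_supp, tv_pv hij one_ne_zero, Finset.mem_insert,
        Finset.mem_erase, mem_supp]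
      by_cases hli : l = i
      · simp [hli, not_mem_supp.1 hj.2, hij]
      by_cases hlj : l = j
      · simp [hlj, hij.symm, mem_supp.1 hi.1]
      simp [hli, hlj]
    have hcard : (supp v').card = 4 := by
      rw [hs, Finset.card_insert_of_notMem (fun k => hj.2 (Finset.mem_of_mem_erase k)),
        Finset.card_erase_of_mem hi.1, hv]
    have hlt : (supp v' \ supp x).card < k := by
      rw [← hk, hs]
      refine (Finset.card_le_card (t := (supp v \ supp x).erase i) fun l hl => ?_).trans_lt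
        (Finset.card_erase_lt_of_mem (Finset.mem_sdiff.2 hi))
      rw [Finset.mem_sdiff, Finset.mem_insert] at hl
      rcases hl.1 with rfl | h
      · exact absurd hj.1 hl.2
      · rw [Finset.mem_erase] at h ⊢
        exact ⟨h.1, Finset.mem_sdiff.2 ⟨h.2, hl.2⟩⟩
    obtain ⟨g, hg, e⟩ := ih _ hlt v' hcard rfl
    exact ⟨g * tEl (pv i j 1), mul_mem hg (hmono _ _ _ hij one_ne_zero), by rw [SU_mul_mulVec, e]⟩
  -- phases
  obtain ⟨a, b, c, d, hab, hac, had, hbc, hbd, hcd, hS⟩ :
      ∃ a b c d, a ≠ b ∧ a ≠ c ∧ a ≠ d ∧ b ≠ c ∧ b ≠ d ∧ c ≠ d ∧ supp x = {a, b, c, d} := by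
    obtain ⟨a, ha⟩ := Finset.card_pos.1 (show 0 < (supp x).card by omega)
    have h3 : ((supp x).erase a).card = 3 := by rw [Finset.card_erase_of_mem ha, hx4]
    obtain ⟨b, c, d, hbc, hbd, hcd, he⟩ := Finset.card_eq_three.1 h3
    have hmem : ∀ e ∈ ({b, c, d} : Finset (Fin n)), a ≠ e := fun e hm h => by
      rw [← he, Finset.mem_erase] at hm; exact hm.1 h.symm
    exact ⟨a, b, c, d, hmem b (by simp), hmem c (by simp), hmem d (by simp), hbc, hbd, hcd, by
      rw [← Finset.insert_erase ha, he]⟩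
  have hph : ∀ i : Fin n, i ≠ d → ∀ μ : GF4, μ ≠ 0 → ∃ g ∈ M, ∀ v : Vec n, ∀ l,
      (g.1.1 *ᵥ v) l = if l = i then μ * v i else if l = d then μ ^ 2 * v d else v l := by
    intro i hi μ hμ
    refine ⟨tEl (pv i d (μ ^ 2)) * tEl (pv i d 1),
      mul_mem (hmono _ _ _ hi (pow_ne_zero 2 hμ)) (hmono _ _ _ hi one_ne_zero), fun v l => ?_⟩
    rw [SU_mul_mulVec, tEl_apply (iso_pv hi (pow_ne_zero 2 hμ)).2, tEl_apply (iso_pv hi one_ne_zero).2,
      tv_pv hi (pow_ne_zero 2 hμ)]
    simp only [tv_pv hi one_ne_zero, hi, hi.symm, if_true, if_false, one_mul, one_pow, K.sq_sq]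
    by_cases hli : l = i <;> by_cases hld : l = d <;> simp [hli, hld]
  have hphase : ∀ v : Vec n, supp v = supp x → ∃ g ∈ M, ∃ s : GF4, s ≠ 0 ∧ s • (g.1.1 *ᵥ x) = v := by
    intro v hv
    have hne : ∀ l ∈ supp x, x l ≠ 0 ∧ v l ≠ 0 := fun l hl => ⟨mem_supp.1 hl, mem_supp.1 (hv ▸ hl)⟩
    rw [hS] at hne
    have hxa := hne a (by simp)
    have hxb := hne b (by simp)
    have hxc := hne c (by simp)
    have hxd := hne d (by simp)
    have key : ∀ A B C D : GF4, A ≠ 0 → B ≠ 0 → C ≠ 0 → D ≠ 0 →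
        ∃ p q r s : GF4, p ≠ 0 ∧ q ≠ 0 ∧ r ≠ 0 ∧ s ≠ 0 ∧
          s * p = A ∧ s * q = B ∧ s * r = C ∧ s * (r ^ 2 * (q ^ 2 * p ^ 2)) = D := by decide +kernel
    obtain ⟨p, q, r, s, hp, hq, hr, hs, eA, eB, eC, eD⟩ :=
      key (v a / x a) (v b / x b) (v c / x c) (v d / x d) (div_ne_zero hxa.2 hxa.1) (div_ne_zero hxb.2 hxb.1)
        (div_ne_zero hxc.2 hxc.1) (div_ne_zero hxd.2 hxd.1)
    obtain ⟨g1, hg1, e1⟩ := hph a had p hp
    obtain ⟨g2, hg2, e2⟩ := hph b hbd q hq
    obtain ⟨g3, hg3, e3⟩ := hph c hcd r hr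
    refine ⟨g3 * (g2 * g1), mul_mem hg3 (mul_mem hg2 hg1), s, hs, funext fun l => ?_⟩
    rw [Pi.smul_apply, smul_eq_mul, SU_mul_mulVec, SU_mul_mulVec, e3]
    simp only [e2, e1]
    by_cases la : l = a
    · subst la
      simp [hac, had, hab, ← mul_assoc, eA, div_mul_cancel₀ _ hxa.1]
    by_cases lb : l = b
    · subst lb
      simp [hbc, hbd, hab.symm, had, ← mul_assoc, eB, div_mul_cancel₀ _ hxb.1]
    by_cases lc : l = c
    · subst lc
      simp [hcd, hbc.symm, hac.symm, ← mul_assoc, eC, div_mul_cancel₀ _ hxc.1]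
    by_cases ld : l = d
    · subst ld
      simp [hcd.symm, hbd.symm, had.symm, ← mul_assoc]
      rw [show s * r ^ 2 * q ^ 2 * p ^ 2 = s * (r ^ 2 * (q ^ 2 * p ^ 2)) by ring, eD,
        div_mul_cancel₀ _ hxd.1]
    have hl : l ∉ supp x := by rw [hS]; simp [la, lb, lc, ld]
    simp [la, lb, lc, ld, not_mem_supp.1 hl, not_mem_supp.1 (hv.symm ▸ hl)]
  have hfour : ∀ v : Vec n, Iso v → (supp v).card = 4 → tEl v ∈ M := by
    intro v hv h4
    obtain ⟨g, hg, eg⟩ := hswap v h4
    obtain ⟨g', hg', s, hs, e⟩ := hphase _ eg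
    have h1 : tEl (g.1.1 *ᵥ v) ∈ M := by
      rw [← e, tEl_smul (hx.map g').2 hs]; exact hmove g' hg' x hx hxK
    have h2 := hmove g⁻¹ (inv_mem hg) _ (hv.map g) h1
    rwa [SU_inv_mulVec_mulVec] at h2
  have hall : ∀ v : Vec n, Iso v → tEl v ∈ M :=
    iso_induction (p := fun v => tEl v ∈ M) (fun v hv c hc h => by rw [tEl_smul hv.2 hc]; exact h)
      (fun i j a hij ha => hmono i j a hij ha) fun v P hv hP hvP h => by
        have hxP := hfour _ (xp_iso hP hvP) (card_supp_xp hP hvP)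
        rw [← tv_xp hP hvP, ← conj_tEl_tEl (xp_iso hP hvP).2 (iso_sub hP hvP hv).2]
        exact mul_mem (mul_mem hxP h) hxP
  refine top_unique ?_
  rw [← (closure_iso (n := n)).resolve_right (by omega), Subgroup.closure_le]
  rintro _ ⟨v, hv, rfl⟩
  exact hall v hv

end CfsgLib.TwoRadGen.UG
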