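import Mathlib
import Cfsg.Agent.Lib.TwoRadGen.Interface
import Cfsg.Agent.Lib.TwoRadGen.UnitaryVec

/-!
# The natural module inside a framed space, and members fixed by diagonal elements
-/

set_option autoImplicit false
set_option linter.unusedSectionVars false

namespace CfsgLib.TwoRadGen

open Cfsg CfsgLib.ThreeTrans CfsgLib.TwoRadical CfsgLib.ClassicalGroups Matrix
open CfsgLib.TwoRadicalSU (Vec SUn hf tv tEl Iso pv)
open UG (supp mem_supp not_mem_supp)

universe u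

/-- The quotient by the 2-core is the special unitary group, the frame going to generating transvections. -/
structure UModel {G : Type u} [Group G] [Finite G] (D : Set G) (V : Type u) [AddCommGroup V]
    [DistribMulAction G V] (m n : ℕ) where
  F : Framed D V m n
  π : G →* SUn n
  surj : Function.Surjective π
  ker : π.ker = pCore 2 G
  frame : ∀ i, π (F.d i) = tEl (F.P.p i)
  gen : Subgroup.closure (Set.range fun i => tEl (F.P.p i)) = ⊤
  exists_vec : ∀ d ∈ D, ∃ v, Iso v ∧ π d = tEl v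
  exists_mem : ∀ v : Vec n, Iso v → ∃ d ∈ D, π d = tEl v
  big : 4 ≤ n

namespace UModel

variable {G : Type u} [Group G] [Finite G] {D : Set G}
variable {V : Type u} [AddCommGroup V] [DistribMulAction G V] {m n : ℕ} (M : UModel D V m n)
include M

local notation "o'" => M.F.d M.F.P.o

theorem mem_core {g : G} : g ∈ pCore 2 G ↔ M.π g = 1 := by rw [← M.ker, MonoidHom.mem_ker]

theorem same_of_eq {d e : G} (h : M.π d = M.π e) : Same d e :=
  QuotientGroup.eq.2 (M.mem_core.2 (by rw [map_mul, map_inv, h, inv_mul_cancel]))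

theorem eq_of_same {d e : G} (h : Same d e) : M.π d = M.π e := by
  have h1 := M.mem_core.1 (QuotientGroup.eq.1 h)
  rwa [map_mul, map_inv, inv_mul_eq_one] at h1

theorem commute_of {d e : G} (hd : d ∈ D) (he : e ∈ D) (h : Commute (M.π d) (M.π e)) : Commute d e :=
  commute_of_mk M.F.W.hyp.cls hd he (by
    show (QuotientGroup.mk d : G ⧸ pCore 2 G) * QuotientGroup.mk e = QuotientGroup.mk e * QuotientGroup.mk d
    rw [← QuotientGroup.mk_mul, ← QuotientGroup.mk_mul]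
    exact M.same_of_eq (by rw [map_mul, map_mul, h.eq]))

theorem map_closure_frame : (Subgroup.closure (Set.range M.F.d)).map M.π = ⊤ := by
  rw [MonoidHom.map_closure, ← Set.range_comp, ← M.gen]
  congr 1
  exact congrArg Set.range (funext M.frame)

theorem gen_frame : M.F.Gen := by
  refine M.F.gen_of_sup (top_unique fun g _ => ?_)
  obtain ⟨k, hk, e⟩ := (M.map_closure_frame ▸ Subgroup.mem_top (M.π g) :
    M.π g ∈ (Subgroup.closure (Set.range M.F.d)).map M.π)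
  rw [show g = k * (k⁻¹ * g) by group]
  exact Subgroup.mul_mem_sup hk (M.mem_core.2 (by rw [map_mul, map_inv, e, inv_mul_cancel]))

theorem htriv : ∀ q ∈ pCore 2 G, ∀ v : V, q • v = v := fun _ hq v => M.F.core_trivial M.gen_frame hq v

/-! ### The natural module -/

theorem tEl_iso (i : Fin m) : hf (M.F.P.p i) (M.F.P.p i) = 0 := M.F.P.iso i

theorem eq_zero_of_perp {x : Vec n} (h : ∀ i, hf x (M.F.P.p i) = 0) : x = 0 := by
  have hfix : ∀ g : SUn n, g.1.1 *ᵥ x = x := fun g => by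
    have hg : g ∈ Subgroup.closure (Set.range fun i => tEl (M.F.P.p i)) := by rw [M.gen]; exact Subgroup.mem_top g
    induction hg using Subgroup.closure_induction with
    | mem y hy =>
      obtain ⟨i, rfl⟩ := hy
      rw [TwoRadicalSU.tEl_apply (M.tEl_iso i), TwoRadicalSU.tv_perp (h i)]
    | one => exact SU_one_mulVec x
    | mul a b _ _ iha ihb => rw [SU_mul_mulVec, ihb, iha]
    | inv a _ ih => conv_lhs => rw [← ih]; exact SU_inv_mulVec_mulVec a x
  have hpv : ∀ i j : Fin n, ∀ a : GF4, i ≠ j → a ≠ 0 → hf x (pv i j a) = 0 := fun i j a hij ha => by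
    have e := hfix (tEl (pv i j a))
    rw [TwoRadicalSU.tEl_apply (TwoRadicalSU.iso_pv hij ha).2, TwoRadicalSU.tv, add_eq_left,
      smul_eq_zero] at e
    exact e.resolve_right (TwoRadicalSU.iso_pv hij ha).1
  funext i
  have hn := M.big
  obtain ⟨j, hij⟩ : ∃ j : Fin n, i ≠ j := by
    by_cases h0 : i.1 = 0
    · exact ⟨⟨1, by omega⟩, fun e => by rw [e] at h0; exact one_ne_zero h0⟩
    · exact ⟨⟨0, by omega⟩, fun e => h0 (congrArg Fin.val e)⟩
  have e1 := hpv i j 1 hij one_ne_zero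
  have e2 := hpv i j GF4.w hij TwoRadicalSU.K.w_ne.1
  rw [TwoRadicalSU.hf_pv] at e1 e2
  have key : ∀ A B : GF4, A + 1 ^ 2 * B = 0 → A + GF4.w ^ 2 * B = 0 → A = 0 := by decide +kernel
  exact key _ _ e1 e2

theorem span_p (x : Vec n) : ∃ f : Fin m → GF4, ∑ j, f j • M.F.P.p j = x := by
  rw [← Submodule.mem_span_range_iff_exists_fun]
  set S := Submodule.span GF4 (Set.range M.F.P.p) with hS
  have hinv : ∀ g : SUn n, ∀ y ∈ S, g.1.1 *ᵥ y ∈ S := fun g => by
    have hg : g ∈ Submonoid.closure (Set.range fun i => tEl (M.F.P.p i)) := by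
      rw [← Subgroup.closure_toSubmonoid_of_finite, M.gen]; exact Subgroup.mem_top g
    induction hg using Submonoid.closure_induction with
    | mem a ha =>
      obtain ⟨i, rfl⟩ := ha
      intro y hy
      rw [TwoRadicalSU.tEl_apply (M.tEl_iso i)]
      exact S.add_mem hy (S.smul_mem _ (Submodule.subset_span ⟨i, rfl⟩))
    | one => intro y hy; rwa [SU_one_mulVec]
    | mul a b _ _ iha ihb => intro y hy; rw [SU_mul_mulVec]; exact iha _ (ihb y hy)
  have hiso : ∀ v, Iso v → v ∈ S := by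
    intro v hv
    obtain ⟨i, hi⟩ : ∃ i, hf v (M.F.P.p i) ≠ 0 := by
      by_contra h
      push Not at h
      exact hv.1 (M.eq_zero_of_perp h)
    have hp := Submodule.subset_span (R := GF4) (Set.mem_range_self (f := M.F.P.p) i)
    have h1 := hinv (tEl v) _ hp
    rw [TwoRadicalSU.tEl_apply hv.2, TwoRadicalSU.tv] at h1
    have hne : hf (M.F.P.p i) v ≠ 0 := fun e => hi (TwoRadicalSU.hf_zero_symm e)
    have h2 := S.smul_mem (hf (M.F.P.p i) v)⁻¹ (S.sub_mem h1 hp)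
    rwa [add_sub_cancel_left, inv_smul_smul₀ hne] at h2
  have hn := M.big
  have hsingle : ∀ j : Fin n, (Pi.single j 1 : Vec n) ∈ S := by
    intro j
    obtain ⟨i, hij⟩ : ∃ i : Fin n, i ≠ j := by
      by_cases h0 : j.1 = 0
      · exact ⟨⟨1, by omega⟩, fun e => by rw [← e] at h0; exact one_ne_zero h0⟩
      · exact ⟨⟨0, by omega⟩, fun e => h0 (congrArg Fin.val e).symm⟩
    have h := S.add_mem (hiso _ (TwoRadicalSU.iso_pv hij (one_ne_zero (α := GF4))))
      (hiso _ (TwoRadicalSU.iso_pv hij TwoRadicalSU.K.w_ne.1))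
    have e : pv i j (1 : GF4) + pv i j GF4.w = (GF4.w ^ 2) • (Pi.single j 1 : Vec n) := by
      funext l
      simp only [Pi.add_apply, Pi.smul_apply, TwoRadicalSU.pv_apply, Pi.single_apply, smul_eq_mul]
      by_cases hl : l = j <;> by_cases hl' : l = i <;> simp [hl, hl', hij, hij.symm] <;> decide +kernel
    rw [e] at h
    have := S.smul_mem (GF4.w ^ 2)⁻¹ h
    rwa [inv_smul_smul₀ TwoRadicalSU.K.w_ne.2.2.2.2] at this
  have hx : x = ∑ j, x j • (Pi.single j 1 : Vec n) := by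
    funext l; simp [Finset.sum_apply, Pi.single_apply]
  rw [hx]
  exact S.sum_mem fun j _ => S.smul_mem _ (hsingle j)

theorem comb_eq {f f' : Fin m → GF4} (h : ∑ j, f j • M.F.P.p j = ∑ j, f' j • M.F.P.p j) {α : V}
    (hα : α ∈ img V o') : M.F.comb f α = M.F.comb f' α := by
  have hu : ∀ i, eps V (M.F.d i) (M.F.comb f α + M.F.comb f' α) = 0 := fun i => by
    rw [map_add, M.F.eps_comb i f hα, M.F.eps_comb i f' hα, h, M.F.W.mod.add_self]
  refine M.F.W.mod.eq_of_add (M.F.W.eq_zero_of_fixed fun e _ => ?_)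
  obtain ⟨k, hk, hek⟩ := M.F.same_act M.gen_frame e
  rw [hek]
  obtain ⟨l, rfl⟩ := M.F.exists_list hk
  clear hk hek
  induction l with
  | nil => simp
  | cons i l ih => rw [List.map_cons, List.prod_cons, mul_smul, ih, M.F.W.smul_eq, hu, add_zero]

/-- The coefficients of a vector. -/
noncomputable def co (x : Vec n) : Fin m → GF4 := (M.span_p x).choose

theorem co_spec (x : Vec n) : ∑ j, M.co x j • M.F.P.p j = x := (M.span_p x).choose_spec

/-- The element `x ⊗ α` of the space. -/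
noncomputable def lam (x : Vec n) (α : V) : V := M.F.comb (M.co x) α

theorem lam_zero (x : Vec n) : M.lam x 0 = 0 := by simp [lam, Framed.comb]

theorem lam_add (x : Vec n) (α β : V) : M.lam x (α + β) = M.lam x α + M.lam x β := by
  simp [lam, Framed.comb, map_add, Finset.sum_add_distrib]

theorem lam_add_left (x y : Vec n) {α : V} (hα : α ∈ img V o') :
    M.lam (x + y) α = M.lam x α + M.lam y α := by
  rw [lam, lam, lam, ← M.F.comb_add]
  refine M.comb_eq ?_ hα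
  simp only [Pi.add_apply, add_smul, Finset.sum_add_distrib, co_spec]

theorem lam_smul (c : GF4) (x : Vec n) {α : V} (hα : α ∈ img V o') :
    M.lam (c • x) α = M.lam x (M.F.sc c α) := by
  rw [lam, lam, M.comb_eq (f' := fun j => M.co x j * c) ?_ hα]
  · simp only [Framed.comb, Framed.sc, M.F.W.sm_mul M.F.aff _ _ hα]
  · rw [co_spec]
    simp only [mul_comm _ c, ← smul_smul, ← Finset.smul_sum, co_spec]

theorem act_lam (g : G) (x : Vec n) {α : V} (hα : α ∈ img V o') :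
    g • M.lam x α = M.lam ((M.π g).1.1 *ᵥ x) α := by
  obtain ⟨k, hk, hkg⟩ := (M.map_closure_frame ▸ Subgroup.mem_top (M.π g) :
    M.π g ∈ (Subgroup.closure (Set.range M.F.d)).map M.π)
  have hq : k⁻¹ * g ∈ pCore 2 G := M.mem_core.2 (by rw [map_mul, map_inv, hkg, inv_mul_cancel])
  obtain ⟨l, rfl⟩ := M.F.exists_list hk
  have hπ : ∀ (l : List (Fin m)) (y : Vec n),
      (M.π (l.map M.F.d).prod).1.1 *ᵥ y = l.foldr (fun i z => tv (M.F.P.p i) z) y := by
    intro l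
    induction l with
    | nil => intro y; rw [List.map_nil, List.prod_nil, map_one, SU_one_mulVec]; rfl
    | cons i l ih =>
      intro y
      rw [List.map_cons, List.prod_cons, map_mul, SU_mul_mulVec, ih, M.frame,
        TwoRadicalSU.tEl_apply (M.tEl_iso i), List.foldr_cons]
  obtain ⟨f', hf', hact⟩ := M.F.acts_list l (M.co x)
  rw [show g • M.lam x α = (l.map M.F.d).prod • ((l.map M.F.d).prod⁻¹ * g) • M.lam x α by
    rw [← mul_smul, mul_inv_cancel_left], M.htriv _ hq, lam, hact α hα, lam]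
  refine M.comb_eq ?_ hα
  rw [hf', co_spec, co_spec, ← hkg, hπ]

theorem lam_inj {x : Vec n} (hx : x ≠ 0) {α : V} (hα : α ∈ img V o') (h : M.lam x α = 0) : α = 0 := by
  obtain ⟨i, hi⟩ : ∃ i, hf x (M.F.P.p i) ≠ 0 := by
    by_contra hc
    push Not at hc
    exact hx (M.eq_zero_of_perp hc)
  have e := M.F.eps_comb i (M.co x) hα
  rw [← lam, h, map_zero, co_spec] at e
  exact M.F.W.sm_eq_zero M.F.aff hi hα (M.F.φ_inj i (M.F.W.sm_mem M.F.aff _ hα) e.symm)

theorem lam_p (i : Fin m) {α : V} (hα : α ∈ img V o') : M.lam (M.F.P.p i) α = M.F.φ i α := by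
  classical
  rw [lam, M.comb_eq (f' := Pi.single i 1) ?_ hα, M.F.comb_single, Framed.sc, M.F.W.sm_one]
  rw [co_spec, Finset.sum_eq_single i]
  · rw [Pi.single_eq_same, one_smul]
  · intro j _ hj; rw [Pi.single_eq_of_ne hj, zero_smul]
  · simp

theorem eps_lam {d : G} {v : Vec n} (hv : Iso v) (hπ : M.π d = tEl v) (x : Vec n) {α : V}
    (hα : α ∈ img V o') : eps V d (M.lam x α) = M.lam v (M.F.sc (hf x v) α) := by
  rw [eps_apply, M.act_lam d x hα, hπ, TwoRadicalSU.tEl_apply hv.2, TwoRadicalSU.tv,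
    M.lam_add_left _ _ hα, ← add_assoc, M.F.W.mod.add_self, zero_add, M.lam_smul _ _ hα]

theorem eps_mem_lam {d : G} {v : Vec n} (hv : Iso v) (hπ : M.π d = tEl v) (u : V) :
    ∃ α ∈ img V o', eps V d u = M.lam v α := by
  induction M.F.span M.gen_frame u using AddSubgroup.closure_induction with
  | mem y hy =>
    obtain ⟨j, α, hα, rfl⟩ := hy
    rw [← M.lam_p j hα]
    exact ⟨_, M.F.W.sm_mem M.F.aff _ hα, M.eps_lam hv hπ _ hα⟩
  | zero => exact ⟨0, zero_mem _, by rw [map_zero, lam_zero]⟩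
  | add a b _ _ iha ihb =>
    obtain ⟨α, hα, ea⟩ := iha
    obtain ⟨β, hβ, eb⟩ := ihb
    exact ⟨α + β, add_mem hα hβ, by rw [map_add, ea, eb, lam_add]⟩
  | neg a _ iha =>
    obtain ⟨α, hα, ea⟩ := iha
    refine ⟨α, hα, ?_⟩
    rw [map_neg, ea]
    exact neg_eq_of_add_eq_zero_left (M.F.W.mod.add_self _)

theorem lam_mem_img {d : G} {v : Vec n} (hv : Iso v) (hπ : M.π d = tEl v) {α : V} (hα : α ∈ img V o') :
    M.lam v α ∈ img V d := by
  obtain ⟨y, hy⟩ := exists_pairing_ne (q := 2) TwoRadicalSU.card_eq hv.1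
  have hy' : hf y v = 1 := by rw [TwoRadicalSU.hf_symm v y, show hf v y = 1 from hy]; exact one_pow 2
  have e := M.eps_lam hv hπ y hα
  rw [hy', Framed.sc, M.F.W.sm_one] at e
  rw [← e]
  exact eps_mem d _

/-! ### Members over one point -/

theorem exists_diff {d d' : G} (hd : d ∈ D) (hd' : d' ∈ D) {v : Vec n} (hv : Iso v) (h : M.π d = tEl v)
    (h' : M.π d' = tEl v) : ∃ α ∈ img V o', d' = M.F.W.ι (M.lam v α) * d := by
  have hA := M.F.W.hyp.mul_mem_A hd' hd (M.same_of_eq (h'.trans h.symm)) rfl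
  obtain ⟨u, hu, e⟩ := (M.F.W.mem_A d hd _).1 hA
  obtain ⟨w, rfl⟩ := mem_img.1 hu
  obtain ⟨α, hα, eα⟩ := M.eps_mem_lam hv h w
  refine ⟨α, hα, ?_⟩
  rw [← eα, eps_apply, e, mul_assoc, mul_self M.F.W.hyp.set hd, mul_one]

theorem shift_mem {d : G} (hd : d ∈ D) {v : Vec n} (hv : Iso v) (h : M.π d = tEl v) {α : V}
    (hα : α ∈ img V o') :
    M.F.W.ι (M.lam v α) * d ∈ D ∧ M.π (M.F.W.ι (M.lam v α) * d) = tEl v := by
  have W := M.F.W
  have hu := M.lam_mem_img hv h hα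
  have hQ : M.F.W.ι (M.lam v α) ∈ pCore 2 G :=
    W.hyp.A_le d ((M.F.W.mem_A d hd _).2 ⟨_, hu, rfl⟩)
  obtain ⟨w, hw⟩ := mem_img.1 hu
  refine ⟨?_, by rw [map_mul, M.mem_core.1 hQ, one_mul, h]⟩
  have hinv : (M.F.W.ι w)⁻¹ = M.F.W.ι w := inv_eq_of_mul_eq_one_right (by
    rw [← M.F.W.ι_add, M.F.W.mod.add_self, M.F.W.ι_zero])
  have e : M.F.W.ι w * d * (M.F.W.ι w)⁻¹ = M.F.W.ι (M.lam v α) * d := by
    rw [← hw, M.F.W.ι_add, M.F.W.ι_smul, hinv]
    simp [mul_assoc, ThreeTrans.inv_eq M.F.W.hyp.set hd]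
    exact mul_self M.F.W.hyp.set hd
  rw [← e]
  exact W.hyp.closed.conj _ d hd

theorem conj_shift (g : G) (x : Vec n) {α : V} (hα : α ∈ img V o') (d : G) :
    g * (M.F.W.ι (M.lam x α) * d) * g⁻¹ = M.F.W.ι (M.lam ((M.π g).1.1 *ᵥ x) α) * (g * d * g⁻¹) := by
  rw [← M.act_lam g x hα, M.F.W.ι_smul]
  group

theorem commute_unique {d d' : G} (hd : d ∈ D) (hd' : d' ∈ D) {v : Vec n} (hv : Iso v) (h : M.π d = tEl v)
    (h' : M.π d' = tEl v) {p : G} {ζ : GF4} (hζ : ζ ≠ 1) (hp : (M.π p).1.1 *ᵥ v = ζ • v)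
    (hc : Commute p d) (hc' : Commute p d') : d' = d := by
  obtain ⟨α, hα, e⟩ := M.exists_diff hd hd' hv h h'
  have e1 := M.conj_shift p v hα d
  rw [← e, hc'.eq, mul_inv_cancel_right, hc.eq, mul_inv_cancel_right, hp, M.lam_smul _ _ hα, e] at e1
  have e2 := M.F.W.ι_inj (mul_right_cancel e1)
  have h0 : M.lam v (α + M.F.sc ζ α) = 0 := by
    rw [lam_add, ← e2, M.F.W.mod.add_self]
  have hmem : α + M.F.sc ζ α ∈ img V o' := add_mem hα (M.F.W.sm_mem M.F.aff _ hα)
  have h1 := M.lam_inj hv.1 hmem h0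
  have h2 : M.F.sc (1 + ζ) α = 0 := by rw [Framed.sc, M.F.W.sm_add, M.F.W.sm_one]; exact h1
  have hne : (1 : GF4) + ζ ≠ 0 := fun k => hζ (by
    rw [← add_zero ζ, ← TwoRadicalSU.K.add_self (1 : GF4), add_comm ζ, add_assoc, k, add_zero])
  rw [e, M.F.W.sm_eq_zero M.F.aff hne hα h2, lam_zero, M.F.W.ι_zero, one_mul]

theorem commute_exists {v : Vec n} (hv : Iso v) {p : G} {ζ : GF4} (hζ : ζ ≠ 1) (hζ0 : ζ ≠ 0)
    (hp : (M.π p).1.1 *ᵥ v = ζ • v) : ∃ d ∈ D, M.π d = tEl v ∧ Commute p d := by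
  obtain ⟨d, hd, h⟩ := M.exists_mem v hv
  have hd2 : p * d * p⁻¹ ∈ D := M.F.W.hyp.closed.conj p d hd
  have h2 : M.π (p * d * p⁻¹) = tEl v := by
    rw [map_mul, map_mul, map_inv, h, TwoRadicalSU.conj_tEl _ hv.2, hp, TwoRadicalSU.tEl_smul hv.2 hζ0]
  obtain ⟨α, hα, e⟩ := M.exists_diff hd hd2 hv h h2
  have hne : (1 : GF4) + ζ ≠ 0 := fun k => hζ (by
    rw [← add_zero ζ, ← TwoRadicalSU.K.add_self (1 : GF4), add_comm ζ, add_assoc, k, add_zero])
  set β := M.F.sc (1 + ζ)⁻¹ α with hβdef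
  have hβ : β ∈ img V o' := M.F.W.sm_mem M.F.aff _ hα
  have hsum : M.F.sc ζ β + α = β := by
    have : M.F.sc (1 + ζ) β = α := by
      rw [hβdef, Framed.sc, M.F.W.sm_mul M.F.aff _ _ hα, mul_inv_cancel₀ hne, M.F.W.sm_one]
    rw [Framed.sc, M.F.W.sm_add, M.F.W.sm_one] at this
    rw [← this, ← add_assoc, add_comm _ β, add_assoc, M.F.W.mod.add_self, add_zero]
  refine ⟨_, (M.shift_mem hd hv h hβ).1, (M.shift_mem hd hv h hβ).2, ?_⟩
  show p * _ = _ * p
  rw [← mul_inv_eq_iff_eq_mul, M.conj_shift p v hβ d, hp, M.lam_smul _ _ hβ, e, ← mul_assoc,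
    ← M.F.W.ι_add, ← lam_add, hsum]

/-! ### The torus -/

theorem exists_torus : ∃ T : Subgroup G, (∀ c : Fin n → GF4, ∏ i, c i = 1 → ∃ t ∈ T, M.π t = UG.dg c) ∧
    (∀ t ∈ T, ∀ t' ∈ T, M.π t = M.π t' → t = t') ∧
    (∀ t ∈ T, ∃ c : Fin n → GF4, ∏ i, c i = 1 ∧ M.π t = UG.dg c) := by
  classical
  have : Fact (Nat.Prime 3) := ⟨Nat.prime_three⟩
  have : Fact (Nat.Prime 2) := ⟨Nat.prime_two⟩
  let Tc : Subgroup (SUn n) :=
    { carrier := {g | ∃ c : Fin n → GF4, ∏ i, c i = 1 ∧ g = UG.dg c}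
      one_mem' := ⟨fun _ => 1, by simp, SU_ext fun x => by
        rw [UG.dg_apply (by simp), SU_one_mulVec]; simp⟩
      mul_mem' := by
        rintro a b ⟨c, hc, rfl⟩ ⟨c', hc', rfl⟩
        have hp : ∏ i, c i * c' i = 1 := by rw [Finset.prod_mul_distrib, hc, hc', one_mul]
        exact ⟨fun i => c i * c' i, hp, SU_ext fun x => by
          rw [SU_mul_mulVec, UG.dg_apply hc, UG.dg_apply hc', UG.dg_apply hp]; simp [mul_assoc]⟩
      inv_mem' := by
        rintro a ⟨c, hc, rfl⟩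
        have hp : ∏ i, (c i)⁻¹ = 1 := by rw [Finset.prod_inv_distrib, hc, inv_one]
        refine ⟨fun i => (c i)⁻¹, hp, inv_eq_of_mul_eq_one_right (SU_ext fun x => ?_)⟩
        rw [SU_mul_mulVec, UG.dg_apply hc, UG.dg_apply hp, SU_one_mulVec]
        funext i
        have hci : c i ≠ 0 := fun h => one_ne_zero (α := GF4) (by
          rw [← hc]; exact Finset.prod_eq_zero (Finset.mem_univ i) h)
        rw [mul_inv_cancel_left₀ hci] }
  have hTp : IsPGroup 3 Tc := by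
    rintro ⟨g, c, hc, rfl⟩
    refine ⟨1, Subtype.ext ?_⟩
    show UG.dg c ^ 3 ^ 1 = 1
    refine SU_ext fun x => ?_
    simp only [pow_succ, pow_zero, one_mul, SU_mul_mulVec, UG.dg_apply hc, SU_one_mulVec]
    funext i
    have hci : c i ≠ 0 := fun h => one_ne_zero (α := GF4) (by
      rw [← hc]; exact Finset.prod_eq_zero (Finset.mem_univ i) h)
    have key : ∀ a : GF4, a ≠ 0 → a * (a * a) = 1 := by decide +kernel
    rw [← mul_assoc, ← mul_assoc, mul_assoc (c i) (c i) (c i), key _ hci, one_mul]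
  set H := Tc.comap M.π with hH
  let f : H →* Tc := (M.π.comp H.subtype).codRestrict Tc fun x => x.2
  have hf : Function.Surjective f := fun ⟨y, hy⟩ => by
    obtain ⟨g, hg⟩ := M.surj y
    exact ⟨⟨g, by show M.π g ∈ Tc; rw [hg]; exact hy⟩, Subtype.ext hg⟩
  obtain ⟨P⟩ := (inferInstance : Nonempty (Sylow 3 H))
  have hPT : (P : Subgroup H).map f = ⊤ := by
    exact ((P.mapSurjective hf).3 (Q := ⊤) (IsPGroup.to_subgroup hTp ⊤) le_top).symm
  refine ⟨(P : Subgroup H).map H.subtype, fun c hc => ?_, ?_, ?_⟩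
  · obtain ⟨y, hy, e⟩ := (hPT ▸ Subgroup.mem_top (⟨UG.dg c, c, hc, rfl⟩ : Tc) :
      (⟨UG.dg c, c, hc, rfl⟩ : Tc) ∈ (P : Subgroup H).map f)
    exact ⟨y, Subgroup.mem_map_of_mem _ hy, congrArg Subtype.val e⟩
  · intro t ht t' ht' e
    have hmem := mul_mem (inv_mem ht) ht'
    have hQ : t⁻¹ * t' ∈ pCore 2 G := M.mem_core.2 (by rw [map_mul, map_inv, e, inv_mul_cancel])
    obtain ⟨j, hj⟩ := (P.2.map H.subtype) ⟨_, hmem⟩
    obtain ⟨k, hk⟩ := CfsgLib.PCore.pCore_isPGroup (G := G) (p := 2) ⟨_, hQ⟩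
    have hj' : (t⁻¹ * t') ^ 3 ^ j = 1 := congrArg Subtype.val hj
    have hk' : (t⁻¹ * t') ^ 2 ^ k = 1 := congrArg Subtype.val hk
    have hco : Nat.Coprime (3 ^ j) (2 ^ k) := ((Nat.coprime_primes Nat.prime_three Nat.prime_two).mpr (by norm_num)).pow j k
    have h3 := pow_gcd_eq_one.mpr ⟨hj', hk'⟩
    rw [hco, pow_one, inv_mul_eq_one] at h3
    exact h3
  · intro t ht
    obtain ⟨y, -, rfl⟩ := Subgroup.mem_map.1 ht
    exact y.2

/-- The lifted torus. -/
noncomputable def torus : Subgroup G := M.exists_torus.choose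

theorem torus_inj {t t' : G} (ht : t ∈ M.torus) (ht' : t' ∈ M.torus) (h : M.π t = M.π t') : t = t' :=
  M.exists_torus.choose_spec.2.1 t ht t' ht' h

theorem torus_form {t : G} (ht : t ∈ M.torus) : ∃ c : Fin n → GF4, ∏ i, c i = 1 ∧ M.π t = UG.dg c :=
  M.exists_torus.choose_spec.2.2 t ht

/-- The lift of a diagonal element. -/
noncomputable def tl (c : Fin n → GF4) : G :=
  if h : ∏ i, c i = 1 then (M.exists_torus.choose_spec.1 c h).choose else 1

theorem tl_mem (c : Fin n → GF4) : M.tl c ∈ M.torus := by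
  rw [tl]; split_ifs with h
  · exact (M.exists_torus.choose_spec.1 c h).choose_spec.1
  · exact one_mem _

theorem π_tl {c : Fin n → GF4} (h : ∏ i, c i = 1) (x : Vec n) :
    (M.π (M.tl c)).1.1 *ᵥ x = fun i => c i * x i := by
  rw [tl, dif_pos h, (M.exists_torus.choose_spec.1 c h).choose_spec.2, UG.dg_apply h]

theorem torus_comm {t t' : G} (ht : t ∈ M.torus) (ht' : t' ∈ M.torus) : Commute t t' := by
  obtain ⟨c, hc, e⟩ := M.torus_form ht
  obtain ⟨c', hc', e'⟩ := M.torus_form ht'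
  refine M.torus_inj (mul_mem ht ht') (mul_mem ht' ht) (SU_ext fun x => ?_)
  rw [map_mul, map_mul, SU_mul_mulVec, SU_mul_mulVec, e, e', UG.dg_apply hc, UG.dg_apply hc',
    UG.dg_apply hc, UG.dg_apply hc']
  funext i
  exact mul_left_comm _ _ _

/-- The diagonal entries with `w` off one coordinate. -/
def offCoef (r : Fin n) : Fin n → GF4 := fun k => if k = r then (GF4.w ^ (n - 1))⁻¹ else GF4.w

omit M in
theorem offCoef_prod (r : Fin n) : ∏ k, offCoef r k = 1 := by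
  rw [Fintype.prod_eq_mul_prod_compl r, Finset.prod_congr rfl (g := fun _ => GF4.w) fun k hk => by
    simp only [Finset.mem_compl, Finset.mem_singleton] at hk
    simp [offCoef, hk], Finset.prod_const, Finset.card_compl, Fintype.card_fin, Finset.card_singleton]
  simp [offCoef, inv_mul_cancel₀ (pow_ne_zero _ TwoRadicalSU.K.w_ne.1)]

theorem tl_off {v : Vec n} {r : Fin n} (hr : v r = 0) : (M.π (M.tl (offCoef r))).1.1 *ᵥ v = GF4.w • v := by
  rw [M.π_tl (offCoef_prod r)]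
  funext k
  by_cases hk : k = r <;> simp [offCoef, hk, hr]

theorem exists_point {d : G} (hd : d ∈ D) {g : G} {v : Vec n} (hv : Iso v) (h : M.π d = tEl v) :
    g * d * g⁻¹ ∈ D ∧ M.π (g * d * g⁻¹) = tEl ((M.π g).1.1 *ᵥ v) :=
  ⟨M.F.W.hyp.closed.conj g d hd, by rw [map_mul, map_mul, map_inv, h, TwoRadicalSU.conj_tEl _ hv.2]⟩

/-- A member over `v` fixed by the torus elements fixing that point. -/
def Nice (v : Vec n) (d : G) : Prop :=
  d ∈ D ∧ M.π d = tEl v ∧ ∀ t ∈ M.torus, ∀ ζ : GF4, ζ ≠ 0 → (M.π t).1.1 *ᵥ v = ζ • v → Commute t d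

theorem nice_exists {v : Vec n} (hv : Iso v) {r : Fin n} (hr : v r = 0) : ∃ d, M.Nice v d := by
  obtain ⟨d, hd, h, hc⟩ := M.commute_exists hv TwoRadicalSU.K.w_ne.2.1 TwoRadicalSU.K.w_ne.1 (M.tl_off hr)
  refine ⟨d, hd, h, fun t ht ζ hζ hζv => ?_⟩
  obtain ⟨h1, h2⟩ := M.exists_point hd (g := t) hv h
  rw [hζv, TwoRadicalSU.tEl_smul hv.2 hζ] at h2
  have hc' : Commute (M.tl (offCoef r)) (t * d * t⁻¹) :=
    ((M.torus_comm (M.tl_mem _) ht).mul_right hc).mul_right (M.torus_comm (M.tl_mem _) ht).inv_right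
  exact mul_inv_eq_iff_eq_mul.1 (M.commute_unique hd h1 hv h h2 TwoRadicalSU.K.w_ne.2.1 (M.tl_off hr) hc hc')

theorem nice_unique {v : Vec n} (hv : Iso v) {r : Fin n} (hr : v r = 0) {d d' : G} (h : M.Nice v d)
    (h' : M.Nice v d') : d' = d :=
  M.commute_unique h.1 h'.1 hv h.2.1 h'.2.1 TwoRadicalSU.K.w_ne.2.1 (M.tl_off hr) (h.2.2 _ (M.tl_mem _) _ TwoRadicalSU.K.w_ne.1 (M.tl_off hr))
    (h'.2.2 _ (M.tl_mem _) _ TwoRadicalSU.K.w_ne.1 (M.tl_off hr))

open Classical in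
/-- The chosen member over a point with a zero coordinate. -/
noncomputable def sg (v : Vec n) : G := if h : ∃ d, M.Nice v d then h.choose else 1

theorem sg_nice {v : Vec n} (hv : Iso v) {r : Fin n} (hr : v r = 0) : M.Nice v (M.sg v) := by
  rw [sg, dif_pos (M.nice_exists hv hr)]; exact (M.nice_exists hv hr).choose_spec

theorem sg_smul {v : Vec n} (hv : Iso v) {r : Fin n} (hr : v r = 0) {c : GF4} (hc : c ≠ 0) :
    M.sg (c • v) = M.sg v := by
  have h := M.sg_nice (hv.smul hc) (r := r) (by simp [hr])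
  refine M.nice_unique hv hr (M.sg_nice hv hr) ⟨h.1, h.2.1.trans (TwoRadicalSU.tEl_smul hv.2 hc), fun t ht ζ hζ e => ?_⟩
  exact h.2.2 t ht ζ hζ (by rw [Matrix.mulVec_smul, e, smul_comm])

theorem sg_pair {a b : Vec n} (ha : Iso a) (hb : Iso b) {r : Fin n} (har : a r = 0) (hbr : b r = 0) :
    M.sg a * M.sg b * M.sg a = M.sg (tv a b) := by
  have hcr : (tv a b) r = 0 := by simp [TwoRadicalSU.tv, har, hbr]
  have hc := hb.tv ha.2
  have hA := M.sg_nice ha har
  have hB := M.sg_nice hb hbr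
  have hC := M.sg_nice hc hcr
  have hinv := ThreeTrans.inv_eq M.F.W.hyp.set hA.1
  obtain ⟨h1, h2⟩ := M.exists_point hB.1 (g := M.sg a) hb hB.2.1
  rw [hinv, hA.2.1, TwoRadicalSU.tEl_apply ha.2] at h2
  rw [hinv] at h1
  have cA := hA.2.2 _ (M.tl_mem _) _ TwoRadicalSU.K.w_ne.1 (M.tl_off har)
  have cB := hB.2.2 _ (M.tl_mem _) _ TwoRadicalSU.K.w_ne.1 (M.tl_off hbr)
  exact M.commute_unique hC.1 h1 hc hC.2.1 h2 TwoRadicalSU.K.w_ne.2.1 (M.tl_off hcr)
    (hC.2.2 _ (M.tl_mem _) _ TwoRadicalSU.K.w_ne.1 (M.tl_off hcr)) ((cA.mul_right cB).mul_right cA)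

theorem sg_perp {a b : Vec n} (ha : Iso a) (hb : Iso b) {r s : Fin n} (har : a r = 0) (hbs : b s = 0)
    (h : hf a b = 0) : M.sg a * M.sg b * M.sg a = M.sg b := by
  have hA := M.sg_nice ha har
  have hB := M.sg_nice hb hbs
  have hc : Commute (M.sg a) (M.sg b) := M.commute_of hA.1 hB.1 (by
    rw [hA.2.1, hB.2.1]; exact TwoRadicalSU.commute_of_perp ha.2 hb.2 h)
  rw [hc.eq, mul_assoc, mul_self M.F.W.hyp.set hA.1, mul_one]

theorem sg_torus {v : Vec n} (hv : Iso v) {r : Fin n} (hr : v r = 0) {t : G} (ht : t ∈ M.torus) :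
    t * M.sg v * t⁻¹ = M.sg ((M.π t).1.1 *ᵥ v) := by
  have h := M.sg_nice hv hr
  obtain ⟨h1, h2⟩ := M.exists_point h.1 (g := t) hv h.2.1
  obtain ⟨c, hc, e⟩ := M.torus_form ht
  have hr' : ((M.π t).1.1 *ᵥ v) r = 0 := by rw [e, UG.dg_apply hc]; simp [hr]
  refine M.nice_unique (hv.map _) hr' (M.sg_nice (hv.map _) hr') ⟨h1, h2, fun t' ht' ζ hζ e' => ?_⟩
  have hcm := M.torus_comm ht' ht
  refine ((hcm.mul_right (h.2.2 t' ht' ζ hζ ?_)).mul_right hcm.inv_right)
  have hh : (M.π t').1.1 *ᵥ ((M.π t).1.1 *ᵥ v) = (M.π t).1.1 *ᵥ ((M.π t').1.1 *ᵥ v) := by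
    rw [← SU_mul_mulVec, ← SU_mul_mulVec, ← map_mul, ← map_mul, hcm.eq]
  rw [hh] at e'
  have := congrArg (fun x => (M.π t)⁻¹.1.1 *ᵥ x) e'
  simpa only [Matrix.mulVec_smul, SU_inv_mulVec_mulVec] using this

end UModel

end CfsgLib.TwoRadGen
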