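import Mathlib
import Cfsg.Agent.Lib.TwoRadGen.UnitaryNat

/-!
# Complements over unitary quotients in dimension four

The eighteen monomial points carry the members fixed by the torus; the twenty-seven other points form one
orbit of the torus, and any member over `(1,1,1,1)` extends the choice.
-/

set_option autoImplicit false
set_option linter.unusedSectionVars false

namespace CfsgLib.TwoRadGen

open Cfsg CfsgLib.ThreeTrans CfsgLib.TwoRadical CfsgLib.ClassicalGroups Matrix
open CfsgLib.TwoRadicalSU (Vec SUn hf tv tEl Iso pv)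
open UG (supp mem_supp not_mem_supp)

universe u

/-- Transvections move with the group. -/
theorem map_tv {n : ℕ} (g : SUn n) (v x : Vec n) :
    g.1.1 *ᵥ tv v x = tv (g.1.1 *ᵥ v) (g.1.1 *ᵥ x) := by
  rw [TwoRadicalSU.tv, TwoRadicalSU.tv, Matrix.mulVec_add, Matrix.mulVec_smul, TwoRadicalSU.hf_map]

/-- Two non-commuting members braid. -/
theorem braid_members {G : Type u} [Group G] {D : Set G} (hs : IsThreeTranspositionSet D) {d e : G}
    (hd : d ∈ D) (he : e ∈ D) (h : ¬ Commute d e) : d * e * d = e * d * e := by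
  exact ThreeTrans.braid hs hd he h

namespace UModel

variable {G : Type u} [Group G] [Finite G] {D : Set G}
variable {V : Type u} [AddCommGroup V] [DistribMulAction G V] {m n : ℕ} (M : UModel D V m n)
include M

theorem tl_mul {c c' : Fin n → GF4} (h : ∏ i, c i = 1) (h' : ∏ i, c' i = 1) :
    M.tl c * M.tl c' = M.tl fun i => c i * c' i := by
  have hp : ∏ i, c i * c' i = 1 := by rw [Finset.prod_mul_distrib, h, h', one_mul]
  refine M.torus_inj (mul_mem (M.tl_mem c) (M.tl_mem c')) (M.tl_mem _) (SU_ext fun x => ?_)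
  rw [map_mul, SU_mul_mulVec, M.π_tl h, M.π_tl h', M.π_tl hp]
  funext i
  exact (mul_assoc _ _ _).symm

theorem tl_one : M.tl (fun _ => 1) = 1 := by
  refine M.torus_inj (M.tl_mem _) (one_mem _) (SU_ext fun x => ?_)
  rw [M.π_tl (by simp), map_one, SU_one_mulVec]
  simp

theorem torus_eq_tl {t : G} (ht : t ∈ M.torus) : ∃ c : Fin n → GF4, ∏ i, c i = 1 ∧ t = M.tl c := by
  obtain ⟨c, hc, e⟩ := M.torus_form ht
  refine ⟨c, hc, M.torus_inj ht (M.tl_mem c) (SU_ext fun x => ?_)⟩
  rw [M.π_tl hc, e, UG.dg_apply hc]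

theorem π_sg_apply {v : Vec n} (hv : Iso v) {r : Fin n} (hr : v r = 0) (x : Vec n) :
    (M.π (M.sg v)).1.1 *ᵥ x = tv v x := by
  rw [(M.sg_nice hv hr).2.1, TwoRadicalSU.tEl_apply hv.2]

/-- A swapping member normalises the torus. -/
theorem swap_torus {i j l : Fin n} (hij : i ≠ j) (hli : l ≠ i) (hlj : l ≠ j) {c : Fin n → GF4}
    (hc : ∏ k, c k = 1) :
    M.sg (pv i j 1) * M.tl c * M.sg (pv i j 1) = M.tl fun k => c (Equiv.swap i j k) := by
  classical
  have ha : Iso (pv i j (1 : GF4)) := TwoRadicalSU.iso_pv hij one_ne_zero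
  have hr : pv i j (1 : GF4) l = 0 := TwoRadicalSU.pv_other hli hlj 1
  have hS := M.sg_nice ha hr
  set s := M.sg (pv i j 1) with hsdef
  have hss : s * s = 1 := mul_self M.F.W.hyp.set hS.1
  have hswap : ∀ x : Vec n, (M.π s).1.1 *ᵥ x = fun k => x (Equiv.swap i j k) := fun x => by
    rw [hsdef, M.π_sg_apply ha hr]
    funext k
    rw [TwoRadicalSU.tv_pv hij one_ne_zero, one_pow, one_mul, one_mul]
    by_cases hk : k = i
    · simp [hk]
    by_cases hk' : k = j
    · simp [hk', hij.symm]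
    simp [hk, hk', Equiv.swap_apply_of_ne_of_ne hk hk']
  -- equal entries at the two places
  have hfix : ∀ c : Fin n → GF4, ∏ k, c k = 1 → c i = c j → s * M.tl c * s = M.tl c := by
    intro c hc he
    have hci : c i ≠ 0 := fun h => one_ne_zero (α := GF4) (by
      rw [← hc]; exact Finset.prod_eq_zero (Finset.mem_univ i) h)
    have hcomm : Commute (M.tl c) s := hS.2.2 _ (M.tl_mem c) (c i) hci (by
      rw [M.π_tl hc]
      funext k
      rw [Pi.smul_apply, smul_eq_mul]
      by_cases hk : k = i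
      · rw [hk]
      by_cases hk' : k = j
      · rw [hk', he]
      rw [TwoRadicalSU.pv_other hk hk', mul_zero, mul_zero])
    rw [← hcomm.eq, mul_assoc, hss, mul_one]
  -- the opposite entries
  set dv : Fin n → GF4 := fun k => if k = i then GF4.w else if k = j then GF4.w ^ 2 else 1 with hdv
  have hprod : ∏ k, dv k = 1 := by
    rw [Finset.prod_eq_mul (s := Finset.univ) i j hij (fun k _ hk => by simp [hdv, hk.1, hk.2])
      (fun h => absurd (Finset.mem_univ i) h) (fun h => absurd (Finset.mem_univ j) h)]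
    simp only [hdv, if_true, if_neg hij.symm]
    exact TwoRadicalSU.K.w_rel.2.2.2
  set dv' : Fin n → GF4 := fun k => dv k * dv k with hdv'
  have hdvsq : ∀ k, dv (Equiv.swap i j k) = dv' k := by
    intro k
    have h22 : GF4.w * GF4.w = GF4.w ^ 2 ∧ GF4.w ^ 2 * GF4.w ^ 2 = GF4.w := by decide +kernel
    by_cases hk : k = i
    · simp [hdv', hdv, hk, hij.symm, h22.1]
    by_cases hk' : k = j
    · simp [hdv', hdv, hk', hij.symm, h22.2]
    simp [hdv', hdv, hk, hk', Equiv.swap_apply_of_ne_of_ne hk hk']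
  have hm3 : M.tl dv * M.tl dv * M.tl dv = 1 := by
    rw [M.tl_mul hprod hprod, M.tl_mul (by rw [Finset.prod_mul_distrib, hprod, one_mul]) hprod, ← M.tl_one]
    congr 1
    funext k
    have key : GF4.w * GF4.w * GF4.w = 1 ∧ GF4.w ^ 2 * GF4.w ^ 2 * GF4.w ^ 2 = 1 := by decide +kernel
    simp only [hdv]
    split_ifs
    · exact key.1
    · exact key.2
    · simp
  set t := M.tl dv with htdef
  set q := s * t * s * t with hqdef
  have hq : q ∈ pCore 2 G := M.mem_core.2 (SU_ext fun x => by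
    rw [hqdef, map_mul, map_mul, map_mul, SU_mul_mulVec, SU_mul_mulVec, SU_mul_mulVec, M.π_tl hprod,
      hswap, M.π_tl hprod, hswap, SU_one_mulVec]
    funext k
    simp only [Equiv.swap_apply_self]
    rw [← mul_assoc, show dv (Equiv.swap i j k) * dv k = 1 by
      rw [hdvsq, hdv']
      have h := hm3
      simp only
      by_cases hk : k = i
      · simp only [hdv, hk, if_true]; decide +kernel
      by_cases hk' : k = j
      · simp only [hdv, hk', if_true, if_neg hij.symm]; decide +kernel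
      simp [hdv, hk, hk'], one_mul])
  have hp : (M.π (M.tl (offCoef l))).1.1 *ᵥ pv i j 1 = GF4.w • pv i j 1 := M.tl_off hr
  have hps : Commute (M.tl (offCoef l)) s := hS.2.2 _ (M.tl_mem _) _ TwoRadicalSU.K.w_ne.1 hp
  have hpt : Commute (M.tl (offCoef l)) t := M.torus_comm (M.tl_mem _) (M.tl_mem _)
  have hpq : Commute (M.tl (offCoef l)) q := ((hps.mul_right hpt).mul_right hps).mul_right hpt
  have hqs : q * s * q⁻¹ = s := by
    obtain ⟨h1, h2⟩ := M.exists_point hS.1 (g := q) ha hS.2.1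
    rw [M.mem_core.1 hq, SU_one_mulVec] at h2
    exact M.commute_unique hS.1 h1 ha hS.2.1 h2 TwoRadicalSU.K.w_ne.2.1 hp hps
      ((hpq.mul_right hps).mul_right hpq.inv_right)
  have hsq : s * q * s = q := by
    have e : q * s = s * q := mul_inv_eq_iff_eq_mul.1 hqs
    rw [← e, mul_assoc, hss, mul_one]
  have hqt : Commute q t := by
    show q * t = t * q
    have e : t * q = q * t := by
      calc t * q = (t * s * t * s) * t := by rw [hqdef]; group
        _ = (s * q * s) * t := by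
          rw [hqdef, show s * (s * t * s * t) * s = s * s * (t * s * t * s) by group, hss, one_mul]
        _ = q * t := by rw [hsq]
    exact e.symm
  have hsts : s * t * s = q * t⁻¹ := by rw [hqdef]; group
  have hq3 : q * q * q = 1 := by
    have e : (s * t * s) * (s * t * s) * (s * t * s) = 1 := by
      rw [show (s * t * s) * (s * t * s) * (s * t * s) = s * t * (s * s) * t * (s * s) * t * s by group, hss,
        mul_one, mul_one, show s * t * t * t * s = s * (t * t * t) * s by group, hm3, mul_one, hss]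
    rw [hsts, show q * t⁻¹ * (q * t⁻¹) * (q * t⁻¹) = q * (t⁻¹ * q) * t⁻¹ * q * t⁻¹ by group,
      ← hqt.inv_right.eq, show q * (q * t⁻¹) * t⁻¹ * q * t⁻¹ = q * q * (t⁻¹ * t⁻¹ * q) * t⁻¹ by group,
      ← (hqt.inv_right.mul_right hqt.inv_right).eq,
      show q * q * (q * (t⁻¹ * t⁻¹)) * t⁻¹ = q * q * q * (t * t * t)⁻¹ by group, hm3, inv_one, mul_one] at e
    exact e
  have hq1 : q = 1 := by
    have : Fact (Nat.Prime 2) := ⟨Nat.prime_two⟩
    obtain ⟨k, hk⟩ := CfsgLib.PCore.pCore_isPGroup (G := G) (p := 2) ⟨q, hq⟩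
    have hk' : q ^ 2 ^ k = 1 := congrArg Subtype.val hk
    have h3 : q ^ 3 = 1 := by rw [pow_succ, pow_two]; exact hq3
    have hco : Nat.Coprime 3 (2 ^ k) := Nat.Coprime.pow_right k (by norm_num)
    have h := pow_gcd_eq_one.mpr ⟨h3, hk'⟩
    rwa [hco, pow_one] at h
  have hsw : s * t * s = M.tl dv' := by
    rw [hsts, hq1, one_mul, hdv', ← M.tl_mul hprod hprod, ← htdef]
    exact inv_eq_of_mul_eq_one_left hm3
  -- the general element
  have hdec : ∀ A B : GF4, A ≠ 0 → B ≠ 0 → ∃ k : Fin 3, ∃ C : GF4, C ≠ 0 ∧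
      A = C * GF4.w ^ k.1 ∧ B = C * (GF4.w ^ 2) ^ k.1 := by decide +kernel
  have hne : ∀ k, c k ≠ 0 := fun k h => one_ne_zero (α := GF4) (by
    rw [← hc]; exact Finset.prod_eq_zero (Finset.mem_univ k) h)
  obtain ⟨k, C, -, eA, eB⟩ := hdec (c i) (c j) (hne i) (hne j)
  -- the case of each power
  have hd'prod : ∏ x, dv' x = 1 := by rw [hdv', Finset.prod_mul_distrib, hprod, one_mul]
  have hsplit : ∀ e : Fin n → GF4, ∏ x, e x = 1 → ∀ f : Fin n → GF4, ∏ x, f x = 1 →
      (c i * e i = c j * e j) → (∀ x, e x * f x = 1) →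
      s * M.tl f * s = M.tl (fun x => f (Equiv.swap i j x)) →
      s * M.tl c * s = M.tl fun x => c (Equiv.swap i j x) := by
    intro e he f hf heq hef hf'
    have hce : ∏ x, c x * e x = 1 := by rw [Finset.prod_mul_distrib, hc, he, one_mul]
    have efact : M.tl c = M.tl (fun x => c x * e x) * M.tl f := by
      rw [M.tl_mul hce hf]
      congr 1
      funext x
      rw [mul_assoc, hef, mul_one]
    rw [efact, show s * (M.tl (fun x => c x * e x) * M.tl f) * s
      = s * M.tl (fun x => c x * e x) * 1 * M.tl f * s by group, ← hss,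
      show s * M.tl (fun x => c x * e x) * (s * s) * M.tl f * s
      = s * M.tl (fun x => c x * e x) * s * (s * M.tl f * s) by group, hfix _ hce heq, hf',
      M.tl_mul hce (by rw [Equiv.prod_comp (Equiv.swap i j) f, hf])]
    congr 1
    funext x
    have key : c (Equiv.swap i j x) * e (Equiv.swap i j x) = c x * e x := by
      by_cases hx : x = i
      · rw [hx, Equiv.swap_apply_left]; exact heq.symm
      by_cases hx' : x = j
      · rw [hx', Equiv.swap_apply_right]; exact heq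
      rw [Equiv.swap_apply_of_ne_of_ne hx hx']
    rw [← key, mul_assoc, hef, mul_one]
  fin_cases k
  · have he : c i = c j := by simpa using eA.trans (by simpa using eB.symm)
    rw [hfix c hc he]
    congr 1
    funext x
    by_cases hx : x = i
    · rw [hx, Equiv.swap_apply_left, he]
    by_cases hx' : x = j
    · rw [hx', Equiv.swap_apply_right, he]
    rw [Equiv.swap_apply_of_ne_of_ne hx hx']
  · refine hsplit dv' hd'prod dv hprod ?_ (fun x => ?_) (by rw [← htdef, hsw, funext hdvsq])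
    · rw [eA, eB, hdv', hdv]
      simp only [if_true, if_neg hij.symm]
      have key : ∀ C : GF4, C * GF4.w ^ 1 * (GF4.w * GF4.w) = C * (GF4.w ^ 2) ^ 1 * (GF4.w ^ 2 * GF4.w ^ 2) := by
        decide +kernel
      exact key C
    · simp only [hdv', hdv]; split_ifs <;> decide +kernel
  · refine hsplit dv hprod dv' hd'prod ?_ (fun x => ?_) ?_
    · rw [eA, eB, hdv]
      simp only [if_true, if_neg hij.symm]
      have key : ∀ C : GF4, C * GF4.w ^ 2 * GF4.w = C * (GF4.w ^ 2) ^ 2 * GF4.w ^ 2 := by decide +kernel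
      exact key C
    · simp only [hdv', hdv]; split_ifs <;> decide +kernel
    · rw [← hsw, show s * (s * t * s) * s = (s * s) * t * (s * s) by group, hss, one_mul, mul_one, htdef]
      congr 1
      funext x
      rw [← hdvsq, Equiv.swap_apply_self]

end UModel

namespace UModel

variable {G : Type u} [Group G] [Finite G] {D : Set G}
variable {V : Type u} [AddCommGroup V] [DistribMulAction G V] {m : ℕ} (M : UModel D V m 4)
include M

omit M in
theorem iso_one : Iso (fun _ => 1 : Vec 4) := by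
  refine ⟨fun h => one_ne_zero (α := GF4) (congrFun h 0), ?_⟩
  rw [UG.hf_def]
  decide +kernel

omit M in
/-- A vector with a zero coordinate is a multiple of a monomial one. -/
theorem four_mono {v : Vec 4} (hv : Iso v) {r : Fin 4} (hr : v r = 0) :
    ∃ i j : Fin 4, ∃ a : GF4, i ≠ j ∧ a ≠ 0 ∧ v = v i • pv i j a := by
  refine (UG.supp_cases hv).resolve_right fun h => ?_
  have := Finset.eq_univ_of_card (supp v) (le_antisymm (Finset.card_le_univ _) (by simpa using h))
  exact mem_supp.1 (this.symm ▸ Finset.mem_univ r) hr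

theorem sg_mono {a b : Vec 4} (ha : Iso a) (hb : Iso b) {r s : Fin 4} (har : a r = 0) (hbs : b s = 0) :
    M.sg a * M.sg b * M.sg a = M.sg (tv a b) := by
  by_cases h : ∃ k, a k = 0 ∧ b k = 0
  · obtain ⟨k, h1, h2⟩ := h
    exact M.sg_pair ha hb h1 h2
  push Not at h
  have two : ∀ {v : Vec 4}, Iso v → ∀ {r : Fin 4}, v r = 0 → (supp v).card = 2 := by
    intro v hv r hr
    obtain ⟨i, j, c, hij, hc, e⟩ := four_mono hv hr
    have hi : v i ≠ 0 := fun k => hv.1 (by rw [e, k, zero_smul])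
    rw [e, UG.supp_smul hi, UG.supp_pv hij hc, Finset.card_pair hij]
  have hu : supp a ∪ supp b = Finset.univ := Finset.eq_univ_of_forall fun k => by
    rw [Finset.mem_union, mem_supp, mem_supp]
    exact or_iff_not_imp_left.2 fun e => h k (not_not.1 e)
  have hi := Finset.card_union_add_card_inter (supp a) (supp b)
  rw [hu, two ha har, two hb hbs, Finset.card_univ, Fintype.card_fin] at hi
  have hperp : hf a b = 0 := by
    rw [UG.hf_def]
    refine Finset.sum_eq_zero fun k _ => ?_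
    by_contra hk
    simp only [mul_eq_zero, pow_eq_zero_iff two_ne_zero, not_or] at hk
    have : k ∈ supp a ∩ supp b := Finset.mem_inter.2 ⟨mem_supp.2 hk.1, mem_supp.2 hk.2⟩
    rw [Finset.card_eq_zero.1 (show (supp a ∩ supp b).card = 0 by omega)] at this
    exact Finset.notMem_empty k this
  rw [TwoRadicalSU.tv_perp (TwoRadicalSU.hf_zero_symm hperp)]
  exact M.sg_perp ha hb har hbs hperp

omit M in
/-- The multiple with product one. -/
def hat (v : Vec 4) : Vec 4 := fun k => (∏ i, v i)⁻¹ * v k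

omit M in
theorem hat_prod {v : Vec 4} (h : ∀ k, v k ≠ 0) : ∏ k, hat v k = 1 := by
  have key : ∀ P : GF4, P ≠ 0 → (P⁻¹) ^ 4 * P = 1 := by decide +kernel
  simp only [hat]
  rw [Finset.prod_mul_distrib, Finset.prod_const, Finset.card_univ, Fintype.card_fin]
  exact key _ (Finset.prod_ne_zero_iff.2 fun i _ => h i)

omit M in
theorem hat_smul (c : GF4) (hc : c ≠ 0) (v : Vec 4) : hat (c • v) = hat v := by
  funext k
  simp only [hat, Pi.smul_apply, smul_eq_mul]
  rw [Finset.prod_mul_distrib, Finset.prod_const, Finset.card_univ, Fintype.card_fin, mul_inv]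
  have key : ∀ c : GF4, c ≠ 0 → (c ^ 4)⁻¹ * c = 1 := by decide +kernel
  calc (c ^ 4)⁻¹ * (∏ i, v i)⁻¹ * (c * v k) = ((c ^ 4)⁻¹ * c) * ((∏ i, v i)⁻¹ * v k) := by ring
    _ = _ := by rw [key c hc, one_mul]

/-- The member over `(1,1,1,1)`. -/
noncomputable def base : G := (M.exists_mem _ iso_one).choose

theorem base_spec : M.base ∈ D ∧ M.π M.base = tEl (fun _ => 1 : Vec 4) :=
  (M.exists_mem _ iso_one).choose_spec

open Classical in
/-- The chosen member over any vector. -/
noncomputable def sec4 (v : Vec 4) : G :=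
  if ∀ k, v k ≠ 0 then M.tl (hat v) * M.base * (M.tl (hat v))⁻¹ else M.sg v

theorem sec4_zero {v : Vec 4} {r : Fin 4} (hr : v r = 0) : M.sec4 v = M.sg v :=
  if_neg fun h => h r hr

theorem sec4_mem {v : Vec 4} (hv : Iso v) : M.sec4 v ∈ D ∧ M.π (M.sec4 v) = tEl v := by
  by_cases h : ∀ k, v k ≠ 0
  · rw [sec4, if_pos h]
    obtain ⟨h1, h2⟩ := M.exists_point M.base_spec.1 (g := M.tl (hat v)) iso_one M.base_spec.2
    refine ⟨h1, h2.trans ?_⟩
    rw [M.π_tl (hat_prod h)]
    have e : (fun i => hat v i * (1 : GF4)) = (∏ i, v i)⁻¹ • v := funext fun i => by simp [hat]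
    rw [e, TwoRadicalSU.tEl_smul hv.2 (inv_ne_zero (Finset.prod_ne_zero_iff.2 fun i _ => h i))]
  · push Not at h
    obtain ⟨r, hr⟩ := h
    rw [M.sec4_zero hr]
    exact ⟨(M.sg_nice hv hr).1, (M.sg_nice hv hr).2.1⟩

theorem sec4_smul {v : Vec 4} (hv : Iso v) {c : GF4} (hc : c ≠ 0) : M.sec4 (c • v) = M.sec4 v := by
  by_cases h : ∀ k, v k ≠ 0
  · rw [sec4, sec4, if_pos h, if_pos (fun k => by simp [hc, h k]), hat_smul c hc]
  · push Not at h
    obtain ⟨r, hr⟩ := h
    rw [M.sec4_zero hr, M.sec4_zero (r := r) (by simp [hr]), M.sg_smul hv hr hc]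

theorem sec4_congr {u v : Vec 4} (hu : Iso u) (hv : Iso v) (h : tEl u = tEl v) : M.sec4 u = M.sec4 v := by
  obtain ⟨c, hc, rfl⟩ := TwoRadicalSU.eq_smul_of_tEl_eq hu hv h
  rw [M.sec4_smul hu hc]

theorem sec4_torus {v : Vec 4} (hv : Iso v) {t : G} (ht : t ∈ M.torus) :
    t * M.sec4 v * t⁻¹ = M.sec4 ((M.π t).1.1 *ᵥ v) := by
  by_cases h : ∀ k, v k ≠ 0
  · obtain ⟨c, hc, rfl⟩ := M.torus_eq_tl ht
    rw [M.π_tl hc]
    have hne : ∀ k, c k ≠ 0 := fun k e => one_ne_zero (α := GF4) (by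
      rw [← hc]; exact Finset.prod_eq_zero (Finset.mem_univ k) e)
    rw [sec4, sec4, if_pos h, if_pos (fun k => mul_ne_zero (hne k) (h k)),
      show hat (fun i => c i * v i) = fun i => c i * hat v i by
        funext k
        simp only [hat]
        rw [Finset.prod_mul_distrib, hc, one_mul, mul_left_comm],
      ← M.tl_mul hc (hat_prod h)]
    group
  · push Not at h
    obtain ⟨r, hr⟩ := h
    obtain ⟨c, hc, e⟩ := M.torus_form ht
    rw [M.sec4_zero hr, M.sec4_zero (r := r) (by rw [e, UG.dg_apply hc]; simp [hr]), M.sg_torus hv hr ht]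

theorem sec4_one : M.sec4 (fun _ => 1 : Vec 4) = M.base := by
  rw [sec4, if_pos (fun _ => one_ne_zero), show hat (fun _ => 1 : Vec 4) = fun _ => 1 by
    funext k; simp [hat], M.tl_one, one_mul, inv_one, mul_one]

omit M in
theorem exists_third : ∀ i j : Fin 4, ∃ l, l ≠ i ∧ l ≠ j := by decide

/-- A swapping member moves the choice. -/
theorem sec4_swap {i j : Fin 4} (hij : i ≠ j) {b : Vec 4} (hb : Iso b) :
    M.sg (pv i j 1) * M.sec4 b * M.sg (pv i j 1) = M.sec4 (tv (pv i j 1) b) := by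
  obtain ⟨l, hli, hlj⟩ := exists_third i j
  have ha : Iso (pv i j (1 : GF4)) := TwoRadicalSU.iso_pv hij one_ne_zero
  have hr : pv i j (1 : GF4) l = 0 := TwoRadicalSU.pv_other hli hlj 1
  have htv : tv (pv i j 1) b = fun k => b (Equiv.swap i j k) := by
    funext k
    rw [TwoRadicalSU.tv_pv hij one_ne_zero, one_pow, one_mul, one_mul]
    by_cases hk : k = i
    · simp [hk]
    by_cases hk' : k = j
    · simp [hk', hij.symm]
    simp [hk, hk', Equiv.swap_apply_of_ne_of_ne hk hk']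
  by_cases h : ∀ k, b k ≠ 0
  · have hss : M.sg (pv i j 1) * M.sg (pv i j 1) = 1 := mul_self M.F.W.hyp.set (M.sg_nice ha hr).1
    have hc : Commute (M.sg (pv i j 1)) M.base :=
      M.commute_of (M.sg_nice ha hr).1 M.base_spec.1 (by
        rw [(M.sg_nice ha hr).2.1, M.base_spec.2]
        refine TwoRadicalSU.commute_of_perp ha.2 iso_one.2 (TwoRadicalSU.hf_zero_symm ?_)
        rw [TwoRadicalSU.hf_pv, one_pow, one_mul, TwoRadicalSU.K.add_self])
    have hst := M.swap_torus hij hli hlj (hat_prod h)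
    rw [htv, sec4, sec4, if_pos h, if_pos (fun k => h _), show hat (fun k => b (Equiv.swap i j k)) =
      fun k => hat b (Equiv.swap i j k) by
        funext k; simp only [hat]; rw [Equiv.prod_comp (Equiv.swap i j) b], ← hst]
    set s := M.sg (pv i j 1)
    have hinv : (s * M.tl (hat b) * s)⁻¹ = s * (M.tl (hat b))⁻¹ * s := by
      rw [_root_.mul_inv_rev, _root_.mul_inv_rev, inv_eq_of_mul_eq_one_right hss]; group
    rw [hinv]
    calc s * (M.tl (hat b) * M.base * (M.tl (hat b))⁻¹) * s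
        = s * M.tl (hat b) * (M.base * (s * s)) * (M.tl (hat b))⁻¹ * s := by rw [hss, mul_one]; group
      _ = s * M.tl (hat b) * (M.base * s * s) * (M.tl (hat b))⁻¹ * s := by group
      _ = s * M.tl (hat b) * (s * M.base * s) * (M.tl (hat b))⁻¹ * s := by rw [hc.eq]
      _ = _ := by group
  · push Not at h
    obtain ⟨r, hbr⟩ := h
    rw [M.sec4_zero hbr, M.sec4_zero (r := Equiv.swap i j r) (by rw [htv]; simp [hbr]),
      M.sg_mono ha hb hr hbr]

/-- Conjugating a conjugation rule by the torus. -/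
theorem conj_transfer {t d : G} (ht : t ∈ M.torus) {a0 : Vec 4} (ha0 : Iso a0)
    (h : ∀ b, Iso b → d * M.sec4 b * d = M.sec4 (tv a0 b)) {b : Vec 4} (hb : Iso b) :
    t * d * t⁻¹ * M.sec4 b * (t * d * t⁻¹) = M.sec4 (tv ((M.π t).1.1 *ᵥ a0) b) := by
  have hb' : Iso ((M.π t⁻¹).1.1 *ᵥ b) := hb.map _
  have e := M.sec4_torus (hb'.tv ha0.2) ht
  rw [← h _ hb', ← M.sec4_torus hb (inv_mem ht), map_tv, map_inv, SU_mulVec_inv_mulVec] at e
  rw [← e]
  group

/-- Conjugation by a member with a zero coordinate. -/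
theorem sec4_mono {a b : Vec 4} (ha : Iso a) (hb : Iso b) {r : Fin 4} (hr : a r = 0) :
    M.sg a * M.sec4 b * M.sg a = M.sec4 (tv a b) := by
  obtain ⟨i, j, α, hij, hα, e⟩ := four_mono ha hr
  have hai : a i ≠ 0 := fun k => ha.1 (by rw [e, k, zero_smul])
  obtain ⟨l, hli, hlj⟩ := exists_third i j
  have hp := TwoRadicalSU.iso_pv hij hα
  have hpr : pv i j α l = 0 := TwoRadicalSU.pv_other hli hlj α
  rw [e, M.sg_smul hp hpr hai, TwoRadicalSU.tv_smul hai]
  set c : Fin 4 → GF4 := fun k => if k = j then α else if k = l then α⁻¹ else 1 with hc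
  have hcp : ∏ k, c k = 1 := by
    rw [Finset.prod_eq_mul (s := Finset.univ) j l hlj.symm (fun k _ hk => by simp [hc, hk.1, hk.2])
      (fun h => absurd (Finset.mem_univ j) h) (fun h => absurd (Finset.mem_univ l) h)]
    simp [hc, hlj, mul_inv_cancel₀ hα]
  have hp1 := TwoRadicalSU.iso_pv hij (one_ne_zero (α := GF4))
  have hpr1 : pv i j (1 : GF4) l = 0 := TwoRadicalSU.pv_other hli hlj 1
  have hvec : (M.π (M.tl c)).1.1 *ᵥ pv i j 1 = pv i j α := by
    rw [M.π_tl hcp]
    funext k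
    by_cases hk : k = i
    · subst hk; simp [hc, hij, hli.symm, TwoRadicalSU.pv_left hij]
    by_cases hk' : k = j
    · subst hk'; simp [hc, TwoRadicalSU.pv_right hij]
    simp [TwoRadicalSU.pv_other hk hk']
  have h := M.conj_transfer (M.tl_mem c) hp1 (fun b hb => M.sec4_swap hij hb) hb
  rwa [hvec, M.sg_torus hp1 hpr1 (M.tl_mem c), hvec] at h

omit M in
theorem four_cases : ∀ b0 b1 b2 b3 : GF4, b0 ≠ 0 → b1 ≠ 0 → b2 ≠ 0 → b3 ≠ 0 → b0 * b1 * b2 * b3 = 1 →
    b0 + b1 + b2 + b3 = 0 ∨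
    (∃ k : Fin 4, ![b0, b1, b2, b3] k + (b0 + b1 + b2 + b3) = 0) ∨
    (∃ k : Fin 4, ![b0, b1, b2, b3] k = 1 ∧
      ((∀ l, l ≠ k → ![b0, b1, b2, b3] l = GF4.w) ∨ ∀ l, l ≠ k → ![b0, b1, b2, b3] l = GF4.w ^ 2)) := by
  decide +kernel

omit M in
theorem tv_one (b : Vec 4) : tv (fun _ => 1 : Vec 4) b = fun k => b k + (b 0 + b 1 + b 2 + b 3) := by
  funext k
  rw [TwoRadicalSU.tv, Pi.add_apply, Pi.smul_apply, smul_eq_mul, UG.hf_def, Fin.sum_univ_four]
  simp

/-- The one relation among vectors without zero coordinates. -/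
theorem base_three :
    M.base * M.sec4 ![1, GF4.w, GF4.w, GF4.w] * M.base = M.sec4 ![1, GF4.w ^ 2, GF4.w ^ 2, GF4.w ^ 2] := by
  set y : Vec 4 := ![1, GF4.w, GF4.w, GF4.w] with hy
  set z : Vec 4 := ![1, GF4.w ^ 2, GF4.w ^ 2, GF4.w ^ 2] with hz
  set one : Vec 4 := fun _ => 1 with hone
  have hym : ∏ k, y k = 1 := by rw [hy, Fin.prod_univ_four]; decide +kernel
  have hyi : Iso y := by
    refine ⟨fun h => one_ne_zero (α := GF4) (congrFun h 0), ?_⟩
    rw [UG.hf_def, hy]; decide +kernel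
  have hzi : Iso z := by
    refine ⟨fun h => one_ne_zero (α := GF4) (congrFun h 0), ?_⟩
    rw [UG.hf_def, hz]; decide +kernel
  set t := M.tl y with ht
  have hπt : ∀ x : Vec 4, (M.π t).1.1 *ᵥ x = fun k => y k * x k := fun x => M.π_tl hym x
  have e1 : (M.π t).1.1 *ᵥ one = y := by rw [hπt]; funext k; simp [hone]
  have e2 : (M.π t).1.1 *ᵥ y = z := by rw [hπt, hy, hz]; decide +kernel
  have e3 : (M.π t).1.1 *ᵥ z = one := by rw [hπt, hy, hz, hone]; decide +kernel
  have e4 : tv y z = GF4.w • one := by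
    rw [TwoRadicalSU.tv, UG.hf_def, hy, hz, hone]; decide +kernel
  have e5 : tv one y = GF4.w • z := by
    rw [hone, tv_one, hy, hz]; decide +kernel
  have hone_i : Iso one := iso_one
  have c1 := M.sec4_torus hone_i (M.tl_mem y)
  have c2 := M.sec4_torus hyi (M.tl_mem y)
  have c3 := M.sec4_torus hzi (M.tl_mem y)
  rw [← ht, e1, M.sec4_one] at c1
  rw [← ht, e2] at c2
  rw [← ht, e3, M.sec4_one] at c3
  set C := M.base
  set C' := M.sec4 y
  set C'' := M.sec4 z
  have hC := M.base_spec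
  have hC' := M.sec4_mem hyi
  have hC'' := M.sec4_mem hzi
  have hs := M.F.W.hyp.set
  have hn : ¬ Commute C C' := fun k => by
    have hp := TwoRadicalSU.perp_of_commute hone_i hyi (by
      have := k.map M.π; rwa [hC.2, hC'.2] at this)
    rw [UG.hf_def, hy, hone] at hp
    revert hp; decide +kernel
  have hbr : C * C' * C = C' * C * C' := braid_members hs hC.1 hC'.1 hn
  obtain ⟨hX, hXπ⟩ := M.exists_point hC'.1 (g := C) hyi hC'.2
  rw [hC.2, TwoRadicalSU.tEl_apply hone_i.2, e5, TwoRadicalSU.tEl_smul hzi.2 TwoRadicalSU.K.w_ne.1] at hXπ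
  rw [ThreeTrans.inv_eq hs hC.1] at hX hXπ
  obtain ⟨α, hα, eα⟩ := M.exists_diff hC''.1 hX hzi hC''.2 hXπ
  -- move by the torus
  have j1 : C' * C'' * C' = M.F.W.ι (M.lam one α) * C := by
    calc C' * C'' * C' = (t * C * t⁻¹) * (t * C' * t⁻¹) * (t * C * t⁻¹) := by rw [c1, c2]
      _ = t * (C * C' * C) * t⁻¹ := by group
      _ = _ := by rw [eα, M.conj_shift t z hα C'', e3, c3]
  have j2 : C' * C'' * C' = M.F.W.ι (M.lam (GF4.w • one) α) * C := by
    have hsum : M.lam z α + M.lam z α = 0 := M.F.W.mod.add_self _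
    have hC''eq : C'' = M.F.W.ι (M.lam z α) * (C' * C * C') := by
      rw [← hbr, eα, ← mul_assoc, ← M.F.W.ι_add, hsum, M.F.W.ι_zero, one_mul]
    have hinv := ThreeTrans.inv_eq hs hC'.1
    have hsq : C' * C' = 1 := mul_self hs hC'.1
    have e := M.conj_shift C' z hα (C' * C * C')
    rw [hinv, hC'.2, TwoRadicalSU.tEl_apply hyi.2, e4, ← hC''eq,
      show C' * (C' * C * C') * C' = C' * C' * C * (C' * C') by group, hsq, one_mul, mul_one] at e
    exact e
  have h0 : M.lam one (α + M.F.sc GF4.w α) = 0 := by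
    have := M.F.W.ι_inj (mul_right_cancel (j1.symm.trans j2))
    rw [M.lam_smul _ _ hα] at this
    rw [lam_add, ← this, M.F.W.mod.add_self]
  have h1 := M.lam_inj hone_i.1 (add_mem hα (M.F.W.sm_mem M.F.aff _ hα)) h0
  have h2 : M.F.sc (1 + GF4.w) α = 0 := by rw [Framed.sc, M.F.W.sm_add, M.F.W.sm_one]; exact h1
  have h3 := M.F.W.sm_eq_zero M.F.aff (by decide +kernel) hα h2
  rw [eα, h3, lam_zero, M.F.W.ι_zero, one_mul]

/-- Conjugation by the member over `(1,1,1,1)`. -/
theorem sec4_base {b : Vec 4} (hb : Iso b) :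
    M.base * M.sec4 b * M.base = M.sec4 (tv (fun _ => 1 : Vec 4) b) := by
  have hC := M.base_spec
  have hs := M.F.W.hyp.set
  have hCC : M.base * M.base = 1 := mul_self hs hC.1
  have hi := iso_one
  have hrev : ∀ u, Iso u → M.base * M.sec4 u * M.base = M.sec4 (tv (fun _ => 1 : Vec 4) u) →
      M.base * M.sec4 (tv (fun _ => 1 : Vec 4) u) * M.base = M.sec4 u := by
    intro u hu e
    rw [← e, show M.base * (M.base * M.sec4 u * M.base) * M.base
      = M.base * M.base * M.sec4 u * (M.base * M.base) by group, hCC, one_mul, mul_one]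
  by_cases hperp : hf b (fun _ => 1 : Vec 4) = 0
  · have hc : Commute M.base (M.sec4 b) := M.commute_of hC.1 (M.sec4_mem hb).1 (by
      rw [hC.2, (M.sec4_mem hb).2]
      exact TwoRadicalSU.commute_of_perp hi.2 hb.2 (TwoRadicalSU.hf_zero_symm hperp))
    rw [TwoRadicalSU.tv_perp hperp, hc.eq, mul_assoc, hCC, mul_one]
  have mono : ∀ p : Vec 4, Iso p → hf p (fun _ => 1 : Vec 4) ≠ 0 → ∀ r, p r = 0 →
      M.base * M.sec4 p * M.base = M.sec4 (tv (fun _ => 1 : Vec 4) p) := by
    intro p hp hne r hr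
    have hn : ¬ Commute M.base (M.sg p) := fun k => hne (TwoRadicalSU.hf_zero_symm
      (TwoRadicalSU.perp_of_commute hi hp (by
        have := k.map M.π; rwa [hC.2, (M.sg_nice hp hr).2.1] at this)))
    rw [M.sec4_zero hr, braid_members hs hC.1 (M.sg_nice hp hr).1 hn, ← M.sec4_one,
      M.sec4_mono hp hi hr]
    refine M.sec4_congr (hi.tv hp.2) (hp.tv hi.2) ?_
    have e := congrArg M.π (braid_members hs hC.1 (M.sg_nice hp hr).1 hn)
    simp only [map_mul, hC.2, (M.sg_nice hp hr).2.1, TwoRadicalSU.conj_tEl_tEl hi.2 hp.2,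
      TwoRadicalSU.conj_tEl_tEl hp.2 hi.2] at e
    exact e.symm
  by_cases hb0 : ∀ k, b k ≠ 0
  swap
  · push Not at hb0
    obtain ⟨r, hr⟩ := hb0
    exact mono b hb hperp r hr
  by_cases hq0 : ∀ k, tv (fun _ => 1 : Vec 4) b k ≠ 0
  swap
  · push Not at hq0
    obtain ⟨r, hr⟩ := hq0
    have hne : hf (tv (fun _ => 1 : Vec 4) b) (fun _ => 1 : Vec 4) ≠ 0 := by
      rw [TwoRadicalSU.tv, TwoRadicalSU.hf_add_left, TwoRadicalSU.hf_smul_left, hi.2, mul_zero, add_zero]
      exact hperp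
    have e := hrev _ (hb.tv hi.2) (mono _ (hb.tv hi.2) hne r hr)
    rwa [TwoRadicalSU.tv_tv hi.2] at e
  -- both without zero coordinates
  have hsc : Iso (hat b) := hb.smul (inv_ne_zero (Finset.prod_ne_zero_iff.2 fun i _ => hb0 i))
  have hbs : M.sec4 b = M.sec4 (hat b) :=
    (M.sec4_smul hb (inv_ne_zero (Finset.prod_ne_zero_iff.2 fun i _ => hb0 i))).symm
  have hP : ∀ k, hat b k ≠ 0 := fun k =>
    mul_ne_zero (inv_ne_zero (Finset.prod_ne_zero_iff.2 fun i _ => hb0 i)) (hb0 k)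
  have htvs : M.sec4 (tv (fun _ => 1 : Vec 4) b) = M.sec4 (tv (fun _ => 1 : Vec 4) (hat b)) := by
    rw [show hat b = (∏ i, b i)⁻¹ • b from rfl, TwoRadicalSU.tv_apply_smul,
      M.sec4_smul (hb.tv hi.2) (inv_ne_zero (Finset.prod_ne_zero_iff.2 fun i _ => hb0 i))]
  rw [hbs, htvs]
  have hprod := hat_prod hb0
  rw [Fin.prod_univ_four] at hprod
  have hvec : ∀ k, ![hat b 0, hat b 1, hat b 2, hat b 3] k = hat b k := fun k => by fin_cases k <;> rfl
  have hcases := four_cases _ _ _ _ (hP 0) (hP 1) (hP 2) (hP 3) hprod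
  simp only [hvec] at hcases
  rcases hcases with h | ⟨k, hk⟩ | ⟨k, hk, hl⟩
  · exfalso
    apply hperp
    rw [UG.hf_def, Fin.sum_univ_four]
    simp only [one_pow, mul_one]
    simp only [hat, ← mul_add] at h
    exact (mul_eq_zero.1 h).resolve_left (inv_ne_zero (Finset.prod_ne_zero_iff.2 fun i _ => hb0 i))
  · exfalso
    apply hq0 k
    simp only [hat, ← mul_add] at hk
    rw [tv_one]
    exact (mul_eq_zero.1 hk).resolve_left (inv_ne_zero (Finset.prod_ne_zero_iff.2 fun i _ => hb0 i))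
  -- the two kinds with one coordinate one
  have main : ∀ v : Vec 4, (v = ![1, GF4.w, GF4.w, GF4.w] ∨ v = ![1, GF4.w ^ 2, GF4.w ^ 2, GF4.w ^ 2]) →
      M.base * M.sec4 v * M.base = M.sec4 (tv (fun _ => 1 : Vec 4) v) := by
    have hy : Iso ![1, GF4.w, GF4.w, GF4.w] := by
      refine ⟨fun h => one_ne_zero (α := GF4) (congrFun h 0), ?_⟩
      rw [UG.hf_def]; decide +kernel
    have hz : Iso ![1, GF4.w ^ 2, GF4.w ^ 2, GF4.w ^ 2] := by
      refine ⟨fun h => one_ne_zero (α := GF4) (congrFun h 0), ?_⟩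
      rw [UG.hf_def]; decide +kernel
    have e1 : tv (fun _ => 1 : Vec 4) ![1, GF4.w, GF4.w, GF4.w]
        = GF4.w • ![1, GF4.w ^ 2, GF4.w ^ 2, GF4.w ^ 2] := by rw [tv_one]; decide +kernel
    have h1 : M.base * M.sec4 ![1, GF4.w, GF4.w, GF4.w] * M.base
        = M.sec4 (tv (fun _ => 1 : Vec 4) ![1, GF4.w, GF4.w, GF4.w]) := by
      rw [e1, M.sec4_smul hz TwoRadicalSU.K.w_ne.1]; exact M.base_three
    have h2 := hrev _ hy h1
    rw [e1, M.sec4_smul hz TwoRadicalSU.K.w_ne.1] at h2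
    have e2 : tv (fun _ => 1 : Vec 4) ![1, GF4.w ^ 2, GF4.w ^ 2, GF4.w ^ 2]
        = GF4.w ^ 2 • ![1, GF4.w, GF4.w, GF4.w] := by rw [tv_one]; decide +kernel
    rintro v (rfl | rfl)
    · exact h1
    · rw [e2, M.sec4_smul hy TwoRadicalSU.K.w_ne.2.2.2.2]; exact h2
  by_cases hk0 : k = 0
  · subst hk0
    refine main _ (hl.imp (fun h => ?_) fun h => ?_) <;> funext l <;> fin_cases l
    all_goals first | exact hk | exact h _ (by decide)
  obtain ⟨r, hr0, hrk⟩ := exists_third 0 k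
  have hp := TwoRadicalSU.iso_pv (Ne.symm hk0) (one_ne_zero (α := GF4))
  have hpr : pv 0 k (1 : GF4) r = 0 := TwoRadicalSU.pv_other hr0 hrk 1
  have hpp : hf (fun _ => 1 : Vec 4) (pv 0 k 1) = 0 := by
    rw [TwoRadicalSU.hf_pv, one_pow, one_mul, TwoRadicalSU.K.add_self]
  have hsw : ∀ l, tv (pv 0 k 1) (hat b) l = hat b (Equiv.swap 0 k l) := by
    intro l
    rw [TwoRadicalSU.tv_pv (Ne.symm hk0) one_ne_zero, one_pow, one_mul, one_mul]
    by_cases hl0 : l = 0
    · simp [hl0]
    by_cases hlk : l = k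
    · simp [hlk, hk0]
    simp [hl0, hlk, Equiv.swap_apply_of_ne_of_ne hl0 hlk]
  set v' := tv (pv 0 k 1) (hat b) with hv'
  have hv'i : Iso v' := hsc.tv hp.2
  have hv'm : v' = ![1, GF4.w, GF4.w, GF4.w] ∨ v' = ![1, GF4.w ^ 2, GF4.w ^ 2, GF4.w ^ 2] := by
    have h0 : v' 0 = 1 := by rw [hsw, Equiv.swap_apply_left]; exact hk
    have hne : ∀ l : Fin 4, l ≠ 0 → Equiv.swap 0 k l ≠ k := fun l hl0 e =>
      hl0 ((Equiv.swap 0 k).injective (e.trans (Equiv.swap_apply_left 0 k).symm))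
    refine hl.imp (fun h => ?_) fun h => ?_ <;> funext l <;> fin_cases l
    all_goals first | exact h0 | (rw [hsw]; exact h _ (hne _ (by decide)))
  set s := M.sg (pv 0 k 1) with hs'
  have hss : s * s = 1 := mul_self hs (M.sg_nice hp hpr).1
  have hcomm : Commute s M.base := M.commute_of (M.sg_nice hp hpr).1 hC.1 (by
    rw [hs', (M.sg_nice hp hpr).2.1, hC.2]
    exact TwoRadicalSU.commute_of_perp hp.2 hi.2 (TwoRadicalSU.hf_zero_symm hpp))
  have e := M.sec4_mono hp (hv'i.tv hi.2) hpr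
  rw [← main v' hv'm] at e
  rw [hv', ← M.sec4_mono hp hsc hpr] at e
  have hone : tv (pv 0 k 1) (fun _ => 1 : Vec 4) = (fun _ => 1) := TwoRadicalSU.tv_perp hpp
  have hcomm' : tv (pv 0 k 1) (tv (fun _ => 1 : Vec 4) (tv (pv 0 k 1) (hat b))) = tv (fun _ => 1 : Vec 4) (hat b) := by
    have hT : ∀ x, (M.π s).1.1 *ᵥ x = tv (pv 0 k 1) x := M.π_sg_apply hp hpr
    have h := map_tv (M.π s) (fun _ => 1 : Vec 4) (tv (pv 0 k 1) (hat b))
    rw [hT, hT, hT, hone, TwoRadicalSU.tv_tv hp.2] at h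
    exact h
  rw [hcomm'] at e
  rw [← e, ← hs', show s * (M.base * (s * M.sec4 (hat b) * s) * M.base) * s
    = s * M.base * s * M.sec4 (hat b) * (s * M.base * s) by group, hcomm.eq, mul_assoc M.base s s, hss, mul_one]

theorem sec4_conj {a b : Vec 4} (ha : Iso a) (hb : Iso b) :
    M.sec4 a * M.sec4 b * M.sec4 a = M.sec4 (tv a b) := by
  by_cases h : ∀ k, a k ≠ 0
  · have hc := M.conj_transfer (M.tl_mem (hat a)) iso_one (fun b hb => M.sec4_base hb) hb
    have e : (M.π (M.tl (hat a))).1.1 *ᵥ (fun _ => 1 : Vec 4) = (∏ i, a i)⁻¹ • a := by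
      rw [M.π_tl (hat_prod h)]; funext i; simp [hat]
    rw [e, TwoRadicalSU.tv_smul (inv_ne_zero (Finset.prod_ne_zero_iff.2 fun i _ => h i))] at hc
    rw [show M.sec4 a = M.tl (hat a) * M.base * (M.tl (hat a))⁻¹ from if_pos h]
    exact hc
  · push Not at h
    obtain ⟨r, hr⟩ := h
    rw [M.sec4_zero hr]
    exact M.sec4_mono ha hb hr

/-- The complement in dimension four. -/
theorem split_four : Split G := by
  refine M.F.W.split_of_section M.htriv {d | ∃ v, Iso v ∧ d = M.sec4 v}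
    (fun d ⟨v, hv, e⟩ => e ▸ (M.sec4_mem hv).1) (fun d hd => ?_) ?_ ?_
  · obtain ⟨v, hv, e⟩ := M.exists_vec d hd
    exact ⟨_, ⟨v, hv, rfl⟩, M.same_of_eq (e.trans (M.sec4_mem hv).2.symm)⟩
  · rintro _ ⟨v, hv, rfl⟩ _ ⟨v', hv', rfl⟩ h
    have e := M.eq_of_same h
    rw [(M.sec4_mem hv).2, (M.sec4_mem hv').2] at e
    exact M.sec4_congr hv hv' e
  · rintro _ ⟨v, hv, rfl⟩ _ ⟨v', hv', rfl⟩
    exact ⟨tv v v', hv'.tv hv.2, M.sec4_conj hv hv'⟩

end UModel

end CfsgLib.TwoRadGen
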