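import Mathlib
import Cfsg.Agent.Lib.TwoRadGen.UnitaryNat

/-!
# Complements over unitary quotients in dimension at least eight

Members over vectors with a zero coordinate are chosen fixed by the torus; a member over a vector
without zero coordinates is defined by conjugation and does not depend on the four places used.
-/

set_option autoImplicit false
set_option linter.unusedSectionVars false

namespace CfsgLib.TwoRadGen

open Cfsg CfsgLib.ThreeTrans CfsgLib.TwoRadical CfsgLib.ClassicalGroups Matrix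
open CfsgLib.TwoRadicalSU (Vec SUn hf tv tEl Iso pv)
open UG (supp xp coef mem_supp not_mem_supp)

universe u

namespace UModel

variable {G : Type u} [Group G] [Finite G] {D : Set G}
variable {V : Type u} [AddCommGroup V] [DistribMulAction G V] {m n : ℕ} (M : UModel D V m n)
include M

theorem sg_mul_self {v : Vec n} (hv : Iso v) {r : Fin n} (hr : v r = 0) : M.sg v * M.sg v = 1 :=
  mul_self M.F.W.hyp.set (M.sg_nice hv hr).1

theorem sg_commute {a b : Vec n} (ha : Iso a) (hb : Iso b) {r s : Fin n} (har : a r = 0) (hbs : b s = 0)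
    (h : hf a b = 0) : Commute (M.sg a) (M.sg b) :=
  M.commute_of (M.sg_nice ha har).1 (M.sg_nice hb hbs).1 (by
    rw [(M.sg_nice ha har).2.1, (M.sg_nice hb hbs).2.1]
    exact TwoRadicalSU.commute_of_perp ha.2 hb.2 h)

omit M in
theorem exists_zero_of_card {v : Vec n} (h : (supp v).card < n) : ∃ r, v r = 0 := by
  by_contra hc
  push Not at hc
  have : supp v = Finset.univ := Finset.eq_univ_of_forall fun i => mem_supp.2 (hc i)
  rw [this, Finset.card_univ, Fintype.card_fin] at h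
  omega

omit M in
theorem hf_disjoint {a b : Vec n} (h : ∀ k, a k = 0 ∨ b k = 0) : hf a b = 0 := by
  rw [UG.hf_def]
  refine Finset.sum_eq_zero fun k _ => ?_
  rcases h k with e | e <;> simp [e]

/-- Conjugation by a member with a small support preserves the chosen members with a zero coordinate. -/
theorem sg_small {a b : Vec n} (ha : Iso a) (hb : Iso b) (hcard : (supp a).card + 4 ≤ n) {rb rc : Fin n}
    (hrb : b rb = 0) (hrc : tv a b rc = 0) : M.sg a * M.sg b * M.sg a = M.sg (tv a b) := by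
  obtain ⟨ra, hra⟩ := exists_zero_of_card (v := a) (by omega)
  by_cases hcom : ∃ r, a r = 0 ∧ b r = 0
  · obtain ⟨r, h1, h2⟩ := hcom
    exact M.sg_pair ha hb h1 h2
  push Not at hcom
  by_cases hperp : hf a b = 0
  · rw [TwoRadicalSU.tv_perp (TwoRadicalSU.hf_zero_symm hperp)]
    exact M.sg_perp ha hb hra hrb hperp
  obtain ⟨P, hP, hPT⟩ := UG.exists_places (T := (supp a)ᶜ) (by
    rw [Finset.card_compl, Fintype.card_fin]; omega)
  have haP : ∀ i, a (P i) = 0 := fun i => not_mem_supp.1 (Finset.mem_compl.1 (hPT i))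
  have hbP : ∀ i, b (P i) ≠ 0 := fun i => hcom _ (haP i)
  set x := xp P b with hxdef
  set b' := b + x with hb'def
  have hx : Iso x := UG.xp_iso hP hbP
  have hb' : Iso b' := UG.iso_sub hP hbP hb
  have hax : ∀ k, a k = 0 ∨ x k = 0 := fun k => by
    by_cases hk : ∃ i, k = P i
    · obtain ⟨i, rfl⟩ := hk; exact Or.inl (haP i)
    · push Not at hk; exact Or.inr (UG.xp_other hk)
  have hxa : hf x a = 0 := hf_disjoint fun k => (hax k).symm
  have hxrb : x rb = 0 := UG.xp_zero hrb
  have hb'rb : b' rb = 0 := by rw [hb'def, Pi.add_apply, hrb, hxrb, add_zero]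
  have hb'0 : b' (P 0) = 0 := (UG.sub_zero_ends hP).1
  have e1 : tv x b' = b := UG.tv_xp hP hbP
  have ec : tv x (tv a b') = tv a b := by
    have h1 : hf (tv a b') x = hf b' x := by
      conv_lhs => rw [← TwoRadicalSU.tv_perp hxa]
      exact TwoRadicalSU.hf_tv ha.2 b' x
    have h2 : hf b' a = hf b a := by
      rw [hb'def, TwoRadicalSU.hf_add_left, hxa, add_zero]
    have h3 : hf b' x = 1 := by
      rw [hb'def, TwoRadicalSU.hf_add_left, UG.hf_xp hP hbP, hx.2, add_zero]
    show tv a b' + hf (tv a b') x • x = tv a b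
    rw [h1, h3, one_smul, TwoRadicalSU.tv, TwoRadicalSU.tv, h2, hb'def]
    rw [add_right_comm (b + x), add_assoc b x x, TwoRadicalSU.vadd_self, add_zero]
  have hrcP : ∀ i, rc ≠ P i := fun i e => by
    subst e
    rw [TwoRadicalSU.tv, Pi.add_apply, Pi.smul_apply, haP i, smul_zero, add_zero] at hrc
    exact hbP i hrc
  have hxrc : x rc = 0 := UG.xp_other hrcP
  have hc'rc : tv a b' rc = 0 := by
    have := congrFun ec rc
    rw [hrc, TwoRadicalSU.tv, Pi.add_apply, Pi.smul_apply, hxrc, smul_zero, add_zero] at this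
    exact this
  have hc' := hb'.tv ha.2
  have hsx : M.sg x * M.sg b' * M.sg x = M.sg b := by
    rw [← e1]; exact M.sg_pair hx hb' hxrb hb'rb
  have hsa : M.sg a * M.sg b' * M.sg a = M.sg (tv a b') := M.sg_pair ha hb' (haP 0) hb'0
  have hcomm := M.sg_commute hx ha hxrb hra hxa
  calc M.sg a * M.sg b * M.sg a
      = (M.sg a * M.sg x) * M.sg b' * (M.sg x * M.sg a) := by rw [← hsx]; group
    _ = (M.sg x * M.sg a) * M.sg b' * (M.sg a * M.sg x) := by rw [← hcomm.eq]
    _ = M.sg x * (M.sg a * M.sg b' * M.sg a) * M.sg x := by group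
    _ = M.sg x * M.sg (tv a b') * M.sg x := by rw [hsa]
    _ = M.sg (tv a b) := by rw [M.sg_pair hx hc' hxrc hc'rc, ec]

/-! ### Vectors without zero coordinates -/

/-- The member over a vector without zero coordinates, by four places. -/
noncomputable def sfull (P : Fin 4 → Fin n) (v : Vec n) : G :=
  M.sg (xp P v) * M.sg (v + xp P v) * M.sg (xp P v)

omit M in
theorem first_inj (hn : 8 ≤ n) : Function.Injective (fun i : Fin 4 => (⟨i.1, by omega⟩ : Fin n)) :=
  fun a b h => by simpa [Fin.ext_iff] using h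

variable (h8 : 8 ≤ n)
include h8

theorem zero_xp {P : Fin 4 → Fin n} (hP : Function.Injective P) {v : Vec n} (hv : ∀ i, v (P i) ≠ 0) :
    ∃ r, xp P v r = 0 := exists_zero_of_card (by rw [UG.card_supp_xp hP hv]; omega)

theorem sfull_linked {v : Vec n} (hv : Iso v) (hfull : ∀ k, v k ≠ 0) {P Q : Fin 4 → Fin n}
    (hP : Function.Injective P) (hQ : Function.Injective Q) (hperp : hf (xp P v) (xp Q v) = 0)
    {r : Fin n} (hr : (v + xp P v + xp Q v) r = 0) : M.sfull P v = M.sfull Q v := by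
  have hvP : ∀ i, v (P i) ≠ 0 := fun i => hfull _
  have hvQ : ∀ i, v (Q i) ≠ 0 := fun i => hfull _
  have hx := UG.xp_iso hP hvP
  have hy := UG.xp_iso hQ hvQ
  obtain ⟨rx, hrx⟩ := M.zero_xp h8 hP hvP
  obtain ⟨ry, hry⟩ := M.zero_xp h8 hQ hvQ
  have h1 := UG.iso_sub hP hvP hv
  have h2 := UG.iso_sub hQ hvQ hv
  have e1 : tv (xp Q v) (v + xp P v) = v + xp P v + xp Q v := by
    rw [TwoRadicalSU.tv, TwoRadicalSU.hf_add_left, UG.hf_xp hQ hvQ, hperp, add_zero, one_smul]
  have e2 : tv (xp P v) (v + xp Q v) = v + xp P v + xp Q v := by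
    rw [TwoRadicalSU.tv, TwoRadicalSU.hf_add_left, UG.hf_xp hP hvP, TwoRadicalSU.hf_zero_symm hperp,
      add_zero, one_smul, add_right_comm]
  have k1 := M.sg_small hy h1 (by rw [UG.card_supp_xp hQ hvQ]; omega) (UG.sub_zero_ends hP).1
    (e1.symm ▸ hr)
  have k2 := M.sg_small hx h2 (by rw [UG.card_supp_xp hP hvP]; omega) (UG.sub_zero_ends hQ).1
    (e2.symm ▸ hr)
  rw [e1] at k1
  rw [e2] at k2
  have hc := M.sg_commute hx hy hrx hry hperp
  have sx := M.sg_mul_self hx hrx
  have sy := M.sg_mul_self hy hry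
  set X := M.sg (xp P v)
  set Y := M.sg (xp Q v)
  set U := M.sg (v + xp P v + xp Q v)
  have j1 : M.sg (v + xp P v) = Y * U * Y := by
    rw [← k1, show Y * (Y * M.sg (v + xp P v) * Y) * Y = Y * Y * M.sg (v + xp P v) * (Y * Y) by group, sy,
      one_mul, mul_one]
  have j2 : M.sg (v + xp Q v) = X * U * X := by
    rw [← k2, show X * (X * M.sg (v + xp Q v) * X) * X = X * X * M.sg (v + xp Q v) * (X * X) by group, sx,
      one_mul, mul_one]
  show X * M.sg (v + xp P v) * X = Y * M.sg (v + xp Q v) * Y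
  rw [j1, j2]
  calc X * (Y * U * Y) * X = X * Y * U * (Y * X) := by group
    _ = Y * X * U * (X * Y) := by rw [hc.eq]
    _ = Y * (X * U * X) * Y := by group

theorem sfull_disjoint {v : Vec n} (hv : Iso v) (hfull : ∀ k, v k ≠ 0) {P Q : Fin 4 → Fin n}
    (hP : Function.Injective P) (hQ : Function.Injective Q) (hd : ∀ i j, P i ≠ Q j) :
    M.sfull P v = M.sfull Q v := by
  refine M.sfull_linked h8 hv hfull hP hQ (hf_disjoint fun k => ?_) (r := P 0) ?_
  · by_cases hk : ∃ i, k = P i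
    · obtain ⟨i, rfl⟩ := hk; exact Or.inr (UG.xp_other fun j => hd i j)
    · push Not at hk; exact Or.inl (UG.xp_other hk)
  · rw [Pi.add_apply, (UG.sub_zero_ends hP).1, zero_add]
    exact UG.xp_other fun j => hd 0 j

theorem sfull_perm {v : Vec n} (hv : Iso v) (hfull : ∀ k, v k ≠ 0) {P Q : Fin 4 → Fin n}
    (hP : Function.Injective P) (hQ : Function.Injective Q) (he : ∀ i, ∃ j, Q i = P j) :
    M.sfull P v = M.sfull Q v := by
  obtain ⟨R, hR, hRT⟩ := UG.exists_places (T := (Finset.univ.image P)ᶜ) (by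
    rw [Finset.card_compl, Fintype.card_fin, Finset.card_image_of_injective _ hP, Finset.card_univ,
      Fintype.card_fin]
    omega)
  have hne : ∀ i j, P i ≠ R j := fun i j e =>
    Finset.mem_compl.1 (hRT j) (e ▸ Finset.mem_image_of_mem P (Finset.mem_univ i))
  rw [M.sfull_disjoint h8 hv hfull hP hR hne, M.sfull_disjoint h8 hv hfull hQ hR fun i j => ?_]
  obtain ⟨k, hk⟩ := he i
  rw [hk]; exact hne k j

theorem sfull_two {v : Vec n} (hv : Iso v) (hfull : ∀ k, v k ≠ 0) {P Q : Fin 4 → Fin n}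
    (hP : Function.Injective P) (hQ : Function.Injective Q) (e0 : Q 0 = P 0) (e1 : Q 1 = P 1)
    (hd : ∀ i, Q 2 ≠ P i ∧ Q 3 ≠ P i) : M.sfull P v = M.sfull Q v := by
  refine M.sfull_linked h8 hv hfull hP hQ ?_ (r := P 3) ?_
  · rw [UG.hf_def, UG.sum_image_four hP _ fun k hk => by rw [UG.xp_other hk, zero_mul]]
    have h2 : xp Q v (P 2) = 0 := UG.xp_other fun i e => by
      fin_cases i
      · exact absurd (e.trans e0) (hP.ne (by decide))
      · exact absurd (e.trans e1) (hP.ne (by decide))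
      · exact (hd 2).1 e.symm
      · exact (hd 2).2 e.symm
    have h3 : xp Q v (P 3) = 0 := UG.xp_other fun i e => by
      fin_cases i
      · exact absurd (e.trans e0) (hP.ne (by decide))
      · exact absurd (e.trans e1) (hP.ne (by decide))
      · exact (hd 3).1 e.symm
      · exact (hd 3).2 e.symm
    have key : ∀ a : GF4, a ≠ 0 → ∀ c : GF4, c ≠ 0 → a * c * (a * c) ^ 2 = 1 := by decide +kernel
    obtain ⟨p0, p1, -, -⟩ := UG.coef_apply hP
    obtain ⟨q0, q1, -, -⟩ := UG.coef_apply hQ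
    rw [e0] at q0
    rw [e1] at q1
    rw [h2, h3]
    simp only [UG.xp, p0, p1, q0, q1, key _ (hfull _) _ one_ne_zero, key _ (hfull _) _ TwoRadicalSU.K.w_ne.1]
    simp [TwoRadicalSU.K.add_self]
  · rw [Pi.add_apply, (UG.sub_zero_ends hP).2, zero_add]
    refine UG.xp_other fun i e => ?_
    fin_cases i
    · exact absurd (e.trans e0) (hP.ne (by decide))
    · exact absurd (e.trans e1) (hP.ne (by decide))
    · exact (hd 3).1 e.symm
    · exact (hd 3).2 e.symm

theorem sfull_one {v : Vec n} (hv : Iso v) (hfull : ∀ k, v k ≠ 0) {P : Fin 4 → Fin n}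
    (hP : Function.Injective P) {e : Fin n} (he : ∀ i, e ≠ P i) :
    Function.Injective ![P 0, P 1, P 2, e] ∧ M.sfull P v = M.sfull ![P 0, P 1, P 2, e] v := by
  have hinjP : ∀ i j, i ≠ j → P i ≠ P j := fun i j h k => h (hP k)
  have hmk : ∀ a b c d : Fin n, a ≠ b → a ≠ c → a ≠ d → b ≠ c → b ≠ d → c ≠ d →
      Function.Injective ![a, b, c, d] := by
    intro a b c d h1 h2 h3 h4 h5 h6 i j hij
    fin_cases i <;> fin_cases j <;> simp_all [eq_comm]
  have h01 := hinjP 0 1 (by decide)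
  have h02 := hinjP 0 2 (by decide)
  have h12 := hinjP 1 2 (by decide)
  have hinj := hmk (P 0) (P 1) (P 2) e h01 h02 (he 0).symm h12 (he 1).symm (he 2).symm
  refine ⟨hinj, ?_⟩
  have hT : 1 < ((insert e (Finset.univ.image P))ᶜ).card := by
    rw [Finset.card_compl, Fintype.card_fin,
      Finset.card_insert_of_notMem (by simpa using fun i => (he i).symm),
      Finset.card_image_of_injective _ hP, Finset.card_univ, Fintype.card_fin]
    omega
  obtain ⟨f, hf', g, hg', hfg⟩ := Finset.one_lt_card.1 hT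
  rw [Finset.mem_compl, Finset.mem_insert, not_or] at hf' hg'
  have hfP : ∀ i, f ≠ P i := fun i k => hf'.2 (k ▸ Finset.mem_image_of_mem P (Finset.mem_univ i))
  have hgP : ∀ i, g ≠ P i := fun i k => hg'.2 (k ▸ Finset.mem_image_of_mem P (Finset.mem_univ i))
  have hR := hmk (P 0) (P 1) f g h01 (hfP 0).symm (hgP 0).symm (hfP 1).symm (hgP 1).symm hfg
  refine (M.sfull_two h8 hv hfull hP hR rfl rfl fun i => ⟨hfP i, hgP i⟩).trans
    (M.sfull_two h8 hv hfull hinj hR rfl rfl fun i => ?_).symm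
  fin_cases i
  · exact ⟨hfP 0, hgP 0⟩
  · exact ⟨hfP 1, hgP 1⟩
  · exact ⟨hfP 2, hgP 2⟩
  · exact ⟨hf'.1, hg'.1⟩

theorem sfull_eq {v : Vec n} (hv : Iso v) (hfull : ∀ k, v k ≠ 0) {Q : Fin 4 → Fin n}
    (hQ : Function.Injective Q) (P : Fin 4 → Fin n) (hP : Function.Injective P) :
    M.sfull P v = M.sfull Q v := by
  induction' hk : (Finset.univ.image P \ Finset.univ.image Q).card using Nat.strong_induction_on
    with k ih generalizing P
  by_cases h0 : Finset.univ.image P \ Finset.univ.image Q = ∅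
  · have heq : Finset.univ.image P = Finset.univ.image Q :=
      Finset.eq_of_subset_of_card_le (Finset.sdiff_eq_empty_iff_subset.1 h0) (by
        rw [Finset.card_image_of_injective _ hP, Finset.card_image_of_injective _ hQ])
    refine M.sfull_perm h8 hv hfull hP hQ fun i => ?_
    obtain ⟨j, -, hj⟩ := Finset.mem_image.1 (heq.symm ▸ Finset.mem_image_of_mem Q (Finset.mem_univ i))
    exact ⟨j, hj.symm⟩
  obtain ⟨d, hd⟩ := Finset.nonempty_iff_ne_empty.2 h0
  rw [Finset.mem_sdiff] at hd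
  obtain ⟨i, -, rfl⟩ := Finset.mem_image.1 hd.1
  obtain ⟨e, heQ, heP⟩ : ∃ e, e ∈ Finset.univ.image Q ∧ e ∉ Finset.univ.image P := by
    by_contra hc
    push Not at hc
    exact hd.2 ((Finset.eq_of_subset_of_card_le hc (by
      rw [Finset.card_image_of_injective _ hP, Finset.card_image_of_injective _ hQ])).symm ▸ hd.1)
  set P' := P ∘ Equiv.swap i 3 with hP'
  have hP'inj : Function.Injective P' := hP.comp (Equiv.swap i 3).injective
  have hP'3 : P' 3 = P i := by simp [hP']
  have he : ∀ j, e ≠ P' j := fun j k => heP (k ▸ Finset.mem_image_of_mem P (Finset.mem_univ _))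
  obtain ⟨hinj, hone⟩ := M.sfull_one h8 hv hfull hP'inj he
  rw [M.sfull_perm h8 hv hfull hP hP'inj (fun j => ⟨_, rfl⟩), hone]
  refine ih _ ?_ _ hinj rfl
  rw [← hk]
  refine (Finset.card_le_card (t := (Finset.univ.image P \ Finset.univ.image Q).erase (P i))
    fun z hz => ?_).trans_lt (Finset.card_erase_lt_of_mem (Finset.mem_sdiff.2 hd))
  rw [Finset.mem_sdiff] at hz
  obtain ⟨j, -, rfl⟩ := Finset.mem_image.1 hz.1
  have hne3 : ∀ j : Fin 4, j ≠ 3 → P' j ≠ P i := fun j hj k => hj (hP'inj (k.trans hP'3.symm))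
  rw [Finset.mem_erase, Finset.mem_sdiff]
  fin_cases j
  · exact ⟨hne3 0 (by decide), Finset.mem_image_of_mem P (Finset.mem_univ _), hz.2⟩
  · exact ⟨hne3 1 (by decide), Finset.mem_image_of_mem P (Finset.mem_univ _), hz.2⟩
  · exact ⟨hne3 2 (by decide), Finset.mem_image_of_mem P (Finset.mem_univ _), hz.2⟩
  · exact absurd heQ hz.2

open Classical in
/-- The chosen member over any vector. -/
noncomputable def sec (v : Vec n) : G :=
  if ∀ k, v k ≠ 0 then M.sfull (fun i : Fin 4 => (⟨i.1, by omega⟩ : Fin n)) v else M.sg v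

theorem sec_zero {v : Vec n} {r : Fin n} (hr : v r = 0) : M.sec h8 v = M.sg v :=
  if_neg fun h => h r hr

theorem sec_full {v : Vec n} (hv : Iso v) (hfull : ∀ k, v k ≠ 0) {P : Fin 4 → Fin n}
    (hP : Function.Injective P) : M.sec h8 v = M.sfull P v := by
  rw [sec, if_pos hfull]; exact M.sfull_eq h8 hv hfull hP _ (first_inj h8)

theorem sec_mem {v : Vec n} (hv : Iso v) : M.sec h8 v ∈ D ∧ M.π (M.sec h8 v) = tEl v := by
  by_cases hfull : ∀ k, v k ≠ 0
  · set P := fun i : Fin 4 => (⟨i.1, by omega⟩ : Fin n)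
    have hP : Function.Injective P := first_inj h8
    have hx := UG.xp_iso hP fun i => hfull (P i)
    obtain ⟨rx, hrx⟩ := M.zero_xp h8 hP fun i => hfull (P i)
    have hX := M.sg_nice hx hrx
    have hB := M.sg_nice (UG.iso_sub hP (fun i => hfull (P i)) hv) (UG.sub_zero_ends hP).1
    rw [M.sec_full h8 hv hfull hP]
    refine ⟨?_, ?_⟩
    · have h := M.F.W.hyp.closed.conj (M.sg (xp P v)) _ hB.1
      rwa [ThreeTrans.inv_eq M.F.W.hyp.set hX.1] at h
    · rw [sfull, map_mul, map_mul, hX.2.1, hB.2.1,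
        TwoRadicalSU.conj_tEl_tEl hx.2 (UG.iso_sub hP (fun i => hfull (P i)) hv).2,
        UG.tv_xp hP fun i => hfull (P i)]
  · push Not at hfull
    obtain ⟨r, hr⟩ := hfull
    rw [M.sec_zero h8 hr]
    exact ⟨(M.sg_nice hv hr).1, (M.sg_nice hv hr).2.1⟩

theorem sec_smul {v : Vec n} (hv : Iso v) {c : GF4} (hc : c ≠ 0) : M.sec h8 (c • v) = M.sec h8 v := by
  by_cases hfull : ∀ k, v k ≠ 0
  · set P := fun i : Fin 4 => (⟨i.1, by omega⟩ : Fin n)
    have hP : Function.Injective P := first_inj h8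
    obtain ⟨rx, hrx⟩ := M.zero_xp h8 hP fun i => hfull (P i)
    rw [M.sec_full h8 hv hfull hP, M.sec_full h8 (hv.smul hc) (fun k => by simp [hc, hfull k]) hP, sfull,
      sfull, UG.xp_smul, ← smul_add, M.sg_smul (UG.xp_iso hP fun i => hfull (P i)) hrx hc,
      M.sg_smul (UG.iso_sub hP (fun i => hfull (P i)) hv) (UG.sub_zero_ends hP).1 hc]
  · push Not at hfull
    obtain ⟨r, hr⟩ := hfull
    rw [M.sec_zero h8 hr, M.sec_zero h8 (r := r) (by simp [hr]), M.sg_smul hv hr hc]

/-- Conjugation by a member of weight at most four. -/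
theorem sec_small {a b : Vec n} (ha : Iso a) (hb : Iso b) (h4 : (supp a).card ≤ 4) :
    M.sg a * M.sec h8 b * M.sg a = M.sec h8 (tv a b) := by
  obtain ⟨ra, hra⟩ := exists_zero_of_card (v := a) (by omega)
  have main : ∀ u : Vec n, Iso u → (∀ k, u k ≠ 0) → M.sg a * M.sec h8 u * M.sg a = M.sec h8 (tv a u) := by
    intro u hu hfull
    obtain ⟨P, hP, hPT⟩ := UG.exists_places (T := (supp a)ᶜ) (by
      rw [Finset.card_compl, Fintype.card_fin]; omega)
    have haP : ∀ i, a (P i) = 0 := fun i => not_mem_supp.1 (Finset.mem_compl.1 (hPT i))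
    have huP : ∀ i, u (P i) ≠ 0 := fun i => hfull _
    set x := xp P u with hxdef
    have hx : Iso x := UG.xp_iso hP huP
    obtain ⟨rx, hrx⟩ := M.zero_xp h8 hP huP
    have hxa : hf x a = 0 := hf_disjoint fun k => by
      by_cases hk : ∃ i, k = P i
      · obtain ⟨i, rfl⟩ := hk; exact Or.inr (haP i)
      · push Not at hk; exact Or.inl (UG.xp_other hk)
    have hu' : Iso (u + x) := UG.iso_sub hP huP hu
    have hu'0 : (u + x) (P 0) = 0 := (UG.sub_zero_ends hP).1
    set c := tv a u with hcdef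
    have hc : Iso c := hu.tv ha.2
    have hcP : ∀ i, c (P i) = u (P i) := fun i => by
      rw [hcdef, TwoRadicalSU.tv, Pi.add_apply, Pi.smul_apply, haP i, smul_zero, add_zero]
    have hxc : xp P c = x := funext fun k => by
      by_cases hk : ∃ i, k = P i
      · obtain ⟨i, rfl⟩ := hk; simp only [hxdef, xp, hcP i]
      · push Not at hk; rw [hxdef, UG.xp_other hk, UG.xp_other hk]
    have hcP' : ∀ i, c (P i) ≠ 0 := fun i => by rw [hcP]; exact huP i
    have hc' : tv a (u + x) = c + x := by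
      rw [TwoRadicalSU.tv, TwoRadicalSU.hf_add_left, hxa, add_zero, hcdef, TwoRadicalSU.tv, add_right_comm]
    have hcx : Iso (c + x) := hc' ▸ hu'.tv ha.2
    have hcx0 : (c + x) (P 0) = 0 := hxc ▸ (UG.sub_zero_ends hP).1
    have hcomm := M.sg_commute hx ha hrx hra hxa
    have e : M.sg a * M.sec h8 u * M.sg a = M.sg x * M.sg (c + x) * M.sg x := by
      rw [M.sec_full h8 hu hfull hP, sfull, ← hc', ← M.sg_pair ha hu' (haP 0) hu'0]
      calc M.sg a * (M.sg x * M.sg (u + x) * M.sg x) * M.sg a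
          = (M.sg a * M.sg x) * M.sg (u + x) * (M.sg x * M.sg a) := by group
        _ = (M.sg x * M.sg a) * M.sg (u + x) * (M.sg a * M.sg x) := by rw [← hcomm.eq]
        _ = _ := by group
    rw [e]
    by_cases hcfull : ∀ k, c k ≠ 0
    · rw [M.sec_full h8 hc hcfull hP, sfull, hxc]
    · push Not at hcfull
      obtain ⟨r, hr⟩ := hcfull
      have hrP : ∀ i, r ≠ P i := fun i k => hcP' i (k ▸ hr)
      have hxr : x r = 0 := UG.xp_other hrP
      rw [M.sec_zero h8 hr, M.sg_pair hx hcx hxr (by simp [hr, hxr])]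
      congr 1
      rw [← hxc]; exact UG.tv_xp hP hcP'
  by_cases hbfull : ∀ k, b k ≠ 0
  · exact main b hb hbfull
  push Not at hbfull
  obtain ⟨rb, hrb⟩ := hbfull
  by_cases hcfull : ∀ k, tv a b k ≠ 0
  · have e := main _ (hb.tv ha.2) hcfull
    rw [TwoRadicalSU.tv_tv ha.2] at e
    have s := M.sg_mul_self ha hra
    rw [← e, show M.sg a * (M.sg a * M.sec h8 (tv a b) * M.sg a) * M.sg a
      = M.sg a * M.sg a * M.sec h8 (tv a b) * (M.sg a * M.sg a) by group, s, one_mul, mul_one]
  push Not at hcfull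
  obtain ⟨rc, hrc⟩ := hcfull
  rw [M.sec_zero h8 hrb, M.sec_zero h8 hrc]
  exact M.sg_small ha hb (by omega) hrb hrc

theorem sec_conj {a : Vec n} (ha : Iso a) :
    ∀ b, Iso b → M.sec h8 a * M.sec h8 b * M.sec h8 a = M.sec h8 (tv a b) := by
  refine UG.iso_induction (p := fun a => ∀ b, Iso b →
    M.sec h8 a * M.sec h8 b * M.sec h8 a = M.sec h8 (tv a b)) ?_ ?_ ?_ a ha
  · intro v hv c hc h b hb
    rw [M.sec_smul h8 hv hc, h b hb, TwoRadicalSU.tv_smul hc]
  · intro i j a hij ha b hb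
    have h2 : (supp (pv i j a)).card = 2 := by rw [UG.supp_pv hij ha, Finset.card_pair hij]
    obtain ⟨r, hr⟩ := exists_zero_of_card (v := pv i j a) (by omega)
    rw [M.sec_zero h8 hr]
    exact M.sec_small h8 (TwoRadicalSU.iso_pv hij ha) hb (by omega)
  · intro v P hv hP hvP h b hb
    have hx := UG.xp_iso hP hvP
    obtain ⟨rx, hrx⟩ := M.zero_xp h8 hP hvP
    have h4 : (supp (xp P v)).card ≤ 4 := le_of_eq (UG.card_supp_xp hP hvP)
    have hv' := UG.iso_sub hP hvP hv
    have evs : M.sec h8 v = M.sg (xp P v) * M.sec h8 (v + xp P v) * M.sg (xp P v) := by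
      rw [M.sec_small h8 hx hv' h4, UG.tv_xp hP hvP]
    have etv : tv v b = tv (xp P v) (tv (v + xp P v) (tv (xp P v) b)) := by
      have e := TwoRadicalSU.conj_tEl_tEl hx.2 hv'.2
      rw [UG.tv_xp hP hvP] at e
      have := congrArg (fun g : SUn n => g.1.1 *ᵥ b) e
      simp only [SU_mul_mulVec, TwoRadicalSU.tEl_apply hx.2, TwoRadicalSU.tEl_apply hv'.2,
        TwoRadicalSU.tEl_apply hv.2] at this
      exact this.symm
    rw [evs, etv]
    calc _ = M.sg (xp P v) * (M.sec h8 (v + xp P v) * (M.sg (xp P v) * M.sec h8 b * M.sg (xp P v))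
          * M.sec h8 (v + xp P v)) * M.sg (xp P v) := by group
      _ = _ := by
        rw [M.sec_small h8 hx hb h4, h _ (hb.tv hx.2), M.sec_small h8 hx ((hb.tv hx.2).tv hv'.2) h4]

/-- The complement in dimension at least eight. -/
theorem split_large : Split G := by
  refine M.F.W.split_of_section M.htriv {d | ∃ v, Iso v ∧ d = M.sec h8 v}
    (fun d ⟨v, hv, e⟩ => e ▸ (M.sec_mem h8 hv).1) (fun d hd => ?_) ?_ ?_
  · obtain ⟨v, hv, e⟩ := M.exists_vec d hd
    exact ⟨_, ⟨v, hv, rfl⟩, M.same_of_eq (e.trans (M.sec_mem h8 hv).2.symm)⟩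
  · rintro _ ⟨v, hv, rfl⟩ _ ⟨v', hv', rfl⟩ h
    have e := M.eq_of_same h
    rw [(M.sec_mem h8 hv).2, (M.sec_mem h8 hv').2] at e
    obtain ⟨c, hc, rfl⟩ := TwoRadicalSU.eq_smul_of_tEl_eq hv hv' e
    rw [M.sec_smul h8 hv hc]
  · rintro _ ⟨v, hv, rfl⟩ _ ⟨v', hv', rfl⟩
    exact ⟨tv v v', hv'.tv hv.2, M.sec_conj h8 hv v' hv'⟩

end UModel

end CfsgLib.TwoRadGen
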