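import Mathlib
import Cfsg.Agent.Lib.TwoRadGen.Interface
import Cfsg.Agent.Lib.TwoRadGen.UnitaryVec

/-!
# A generating pattern in the unitary space over the field of four elements
-/

set_option autoImplicit false
set_option linter.unusedSectionVars false
set_option linter.unusedSimpArgs false

namespace CfsgLib.TwoRadGen.UG

open Cfsg CfsgLib.TwoRadical CfsgLib.TwoRadicalSU CfsgLib.ClassicalGroups Matrix

variable {n : ℕ}

/-- The last vector: four equal coordinates at the end. -/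
def xv (n : ℕ) : Vec n := fun k => if n - 4 ≤ k.1 then (if n = 4 then GF4.w else 1) else 0

/-- The vectors of the pattern, indexed by natural numbers. -/
def pt (hn : 4 ≤ n) (i : ℕ) : Vec n :=
  if i = 0 then pv ⟨1, by omega⟩ ⟨2, by omega⟩ 1
  else if i = 1 then pv ⟨0, by omega⟩ ⟨1, by omega⟩ 1
  else if i = 2 then GF4.w ^ 2 • pv ⟨0, by omega⟩ ⟨1, by omega⟩ GF4.w
  else if h : i < n then pv ⟨i - 1, by omega⟩ ⟨i, h⟩ 1
  else xv n

/-- The parents. -/
def parN (n i : ℕ) : ℕ :=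
  if i = 3 then 0 else if i < n then i - 1 else if n = 4 then 2 else if n = 6 then 0 else n - 4

theorem pt_zero (hn : 4 ≤ n) : pt hn 0 = pv ⟨1, by omega⟩ ⟨2, by omega⟩ 1 := rfl

theorem pt_one (hn : 4 ≤ n) : pt hn 1 = pv ⟨0, by omega⟩ ⟨1, by omega⟩ 1 := rfl

theorem pt_two (hn : 4 ≤ n) : pt hn 2 = GF4.w ^ 2 • pv ⟨0, by omega⟩ ⟨1, by omega⟩ GF4.w := rfl

theorem pt_step (hn : 4 ≤ n) {i : ℕ} (h3 : 3 ≤ i) (hi : i < n) :
    pt hn i = pv ⟨i - 1, by omega⟩ ⟨i, hi⟩ 1 := by
  rw [pt, if_neg (by omega), if_neg (by omega), if_neg (by omega), dif_pos hi]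

theorem pt_last (hn : 4 ≤ n) : pt hn n = xv n := by
  rw [pt, if_neg (by omega), if_neg (by omega), if_neg (by omega), dif_neg (lt_irrefl n)]

theorem xv_of_le {k : Fin n} (h : n - 4 ≤ k.1) : xv n k = if n = 4 then GF4.w else 1 := if_pos h

theorem xv_of_lt {k : Fin n} (h : k.1 < n - 4) : xv n k = 0 := if_neg (Nat.not_le.2 h)

theorem xv_ne {k : Fin n} (h : n - 4 ≤ k.1) : xv n k ≠ 0 := by
  rw [xv_of_le h]; split_ifs
  · exact K.w_ne.1
  · exact one_ne_zero

theorem supp_xv (hn : 4 ≤ n) : (supp (xv n)).card = 4 := by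
  have e : supp (xv n) = Finset.univ.image (fun j : Fin 4 => (⟨n - 4 + j.1, by omega⟩ : Fin n)) := by
    ext k
    rw [mem_supp, Finset.mem_image]
    constructor
    · intro h
      have hk : n - 4 ≤ k.1 := Nat.le_of_not_lt fun hlt => h (xv_of_lt hlt)
      exact ⟨⟨k.1 - (n - 4), by omega⟩, Finset.mem_univ _, Fin.ext (by simp; omega)⟩
    · rintro ⟨j, -, rfl⟩
      exact xv_ne (Nat.le_add_right _ _)
  rw [e, Finset.card_image_of_injective _ (fun a b h => by simpa [Fin.ext_iff] using h), Finset.card_univ,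
    Fintype.card_fin]

theorem iso_xv (hn : 4 ≤ n) : Iso (xv n) := by
  refine ⟨fun h => xv_ne (k := (⟨n - 1, by omega⟩ : Fin n)) (by simp; omega) (congrFun h _), ?_⟩
  rw [hf_self, supp_xv hn]; decide +kernel

theorem iso_pt (hn : 4 ≤ n) (i : ℕ) : Iso (pt hn i) := by
  unfold pt
  split_ifs with h0 h1 h2 h3
  · exact iso_pv (by simp [Fin.ext_iff]) one_ne_zero
  · exact iso_pv (by simp [Fin.ext_iff]) one_ne_zero
  · exact (iso_pv (by simp [Fin.ext_iff]) K.w_ne.1).smul K.w_ne.2.2.2.2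
  · exact iso_pv (by simp [Fin.ext_iff]; omega) one_ne_zero
  · exact iso_xv hn

theorem tri_pt (hn : 4 ≤ n) : hf (pt hn 1) (pt hn 0) = 1 ∧ hf (pt hn 2) (pt hn 0) = 1 ∧
    hf (pt hn 2) (pt hn 1) = GF4.w := by
  rw [pt_zero, pt_one, pt_two]
  simp only [hf_pv, Pi.smul_apply, smul_eq_mul, pv_apply, Fin.ext_iff]
  decide +kernel

theorem hf_pt_step (hn : 4 ≤ n) {i j : ℕ} (h3 : 3 ≤ i) (hi : i < n) (hji : j < i) (hp : j ≠ parN n i) :
    hf (pt hn i) (pt hn j) = 0 := by
  rw [pt_step hn h3 hi]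
  unfold parN at hp
  rcases (show j = 0 ∨ j = 1 ∨ j = 2 ∨ 3 ≤ j by omega) with rfl | rfl | rfl | hj
  · have hi3 : i ≠ 3 := fun e => hp (by rw [if_pos e])
    rw [pt_zero]
    exact perp_pv (by simp [Fin.ext_iff]; omega) (by simp [Fin.ext_iff]; omega) (by simp [Fin.ext_iff]; omega)
      (by simp [Fin.ext_iff]; omega) _ _
  · rw [pt_one]
    exact perp_pv (by simp [Fin.ext_iff]; omega) (by simp [Fin.ext_iff]; omega) (by simp [Fin.ext_iff]; omega)
      (by simp [Fin.ext_iff]; omega) _ _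
  · rw [pt_two, hf_smul_right]
    refine mul_eq_zero_of_right _ (perp_pv ?_ ?_ ?_ ?_ _ _) <;> simp [Fin.ext_iff] <;> omega
  · have hji' : j ≠ i - 1 := fun e => hp (by rw [if_neg (by omega), if_pos hi, e])
    rw [pt_step hn hj (hji.trans hi)]
    exact perp_pv (by simp [Fin.ext_iff]; omega) (by simp [Fin.ext_iff]; omega) (by simp [Fin.ext_iff]; omega)
      (by simp [Fin.ext_iff]; omega) _ _

theorem hf_xv_pv (a b : Fin n) (h : n - 4 ≤ a.1 ↔ n - 4 ≤ b.1) : hf (xv n) (pv a b 1) = 0 := by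
  rw [hf_pv, one_pow, one_mul]
  by_cases ha : n - 4 ≤ a.1
  · rw [xv_of_le ha, xv_of_le (h.1 ha), K.add_self]
  · rw [xv_of_lt (Nat.not_le.1 ha), xv_of_lt (Nat.not_le.1 fun k => ha (h.2 k)), add_zero]

theorem hf_pt_last (hn : 4 ≤ n) (h5 : n ≠ 5) {j : ℕ} (hji : j < n) (hp : j ≠ parN n n) :
    hf (pt hn n) (pt hn j) = 0 := by
  rw [pt_last hn]
  rw [parN, if_neg (by omega), if_neg (lt_irrefl n)] at hp
  rcases (show j = 0 ∨ j = 1 ∨ j = 2 ∨ 3 ≤ j by omega) with rfl | rfl | rfl | hj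
  · rw [pt_zero]
    refine hf_xv_pv _ _ ?_
    have : n ≠ 6 := fun e => hp (by rw [if_neg (by omega), if_pos e])
    simp only; omega
  · rw [pt_one]
    exact hf_xv_pv _ _ (by simp only; omega)
  · have h4 : n ≠ 4 := fun e => hp (by rw [if_pos e])
    rw [pt_two, hf_smul_right, hf_pv, xv_of_lt (by simp only; omega), xv_of_lt (by simp only; omega)]
    simp
  · rw [pt_step hn hj hji]
    refine hf_xv_pv _ _ ?_
    have : n = 4 ∨ n = 6 ∨ j ≠ n - 4 := by
      by_cases h4 : n = 4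
      · exact Or.inl h4
      by_cases h6 : n = 6
      · exact Or.inr (Or.inl h6)
      exact Or.inr (Or.inr fun e => hp (by rw [if_neg h4, if_neg h6, e]))
    simp only; omega

theorem hf_pt_par (hn : 4 ≤ n) (h5 : n ≠ 5) {i : ℕ} (h3 : 3 ≤ i) (hi : i ≤ n) :
    parN n i < i ∧ hf (pt hn i) (pt hn (parN n i)) = 1 := by
  by_cases h : i = 3
  · subst h
    refine ⟨by simp [parN], ?_⟩
    rw [parN, if_pos rfl, pt_zero, pt_step hn le_rfl (by omega), hf_pv]
    simp [pv_apply, Fin.ext_iff]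
  by_cases hlt : i < n
  · rw [parN, if_neg h, if_pos hlt]
    refine ⟨by omega, ?_⟩
    rw [pt_step hn h3 hlt, pt_step hn (by omega) (by omega), hf_pv,
      pv_other (k := (⟨i - 1 - 1, by omega⟩ : Fin n)) (by simp [Fin.ext_iff]; omega) (by simp [Fin.ext_iff]; omega),
      pv_left (by simp [Fin.ext_iff]; omega)]
    simp
  have hin : i = n := le_antisymm hi (Nat.le_of_not_lt hlt)
  rw [hin, parN, if_neg (by omega), if_neg (lt_irrefl n), pt_last hn]
  split_ifs with h4 h6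
  · refine ⟨by omega, ?_⟩
    rw [pt_two, hf_smul_right, hf_pv, xv_of_le (by simp only; omega), xv_of_le (by simp only; omega), if_pos h4]
    decide +kernel
  · refine ⟨by omega, ?_⟩
    rw [pt_zero, hf_pv, xv_of_lt (by simp only; omega), xv_of_le (by simp only; omega), if_neg h4]
    simp
  · refine ⟨by omega, ?_⟩
    rw [pt_step hn (by omega) (by omega), hf_pv, xv_of_lt (by simp only; omega), xv_of_le (by simp only; omega),
      if_neg h4]
    simp

/-- The pattern. -/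
def pattern (hn : 4 ≤ n) (h5 : n ≠ 5) : Pattern (n + 1) n where
  p i := pt hn i.1
  par i := ⟨if 3 ≤ i.1 then parN n i.1 else 0, by
    by_cases h : 3 ≤ i.1
    · rw [if_pos h]
      have := (hf_pt_par hn h5 h (Nat.lt_succ_iff.1 i.2)).1
      omega
    · rw [if_neg h]; omega⟩
  three := by omega
  iso i := (iso_pt hn i.1).2
  tri := tri_pt hn
  tree i h := by
    have e : (if 3 ≤ i.1 then parN n i.1 else 0) = parN n i.1 := if_pos h
    simp only [e]
    exact hf_pt_par hn h5 h (Nat.lt_succ_iff.1 i.2)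
  other i j h hji hp := by
    have hp' : j.1 ≠ parN n i.1 := fun e => hp (Fin.ext (by simpa [h] using e))
    rcases Nat.lt_or_eq_of_le (Nat.lt_succ_iff.1 i.2) with hi | hi
    · exact hf_pt_step hn h hi hji hp'
    · rw [hi]; exact hf_pt_last hn h5 (by omega) (fun e => hp' (by rw [hi]; exact e))

theorem tv_swap {k l : Fin n} (h : k ≠ l) (v : Vec n) :
    tv (pv k l 1) v = fun i => v (Equiv.swap k l i) := by
  funext i
  rw [tv_pv h one_ne_zero, one_pow, one_mul, one_mul]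
  by_cases hk : i = k
  · simp [hk]
  by_cases hl : i = l
  · simp [hl, h.symm]
  simp [hk, hl, Equiv.swap_apply_of_ne_of_ne hk hl]

/-- The transvections of the pattern generate. -/
theorem pattern_gen (hn : 4 ≤ n) (h5 : n ≠ 5) :
    Subgroup.closure (Set.range fun i => tEl ((pattern hn h5).p i)) = ⊤ := by
  set M := Subgroup.closure (Set.range fun i => tEl ((pattern hn h5).p i)) with hM
  have hp : ∀ i, i ≤ n → tEl (pt hn i) ∈ M := fun i hi => Subgroup.subset_closure ⟨⟨i, by omega⟩, rfl⟩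
  have hconj : ∀ {a b : Vec n}, Iso a → Iso b → tEl a ∈ M → tEl b ∈ M → tEl (tv a b) ∈ M :=
    fun ha hb h1 h2 => by rw [← conj_tEl_tEl ha.2 hb.2]; exact mul_mem (mul_mem h1 h2) h1
  have hadj : ∀ a : ℕ, (h : a + 1 < n) → tEl (pv (⟨a, by omega⟩ : Fin n) ⟨a + 1, h⟩ 1) ∈ M := by
    intro a h
    rcases (show a = 0 ∨ a = 1 ∨ 2 ≤ a by omega) with rfl | rfl | ha
    · exact hp 1 (by omega)
    · exact hp 0 (by omega)
    · have e := hp (a + 1) (by omega)
      rw [pt_step hn (by omega) h] at e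
      exact e
  have htrans : ∀ d a : ℕ, (h : a + d + 1 < n) →
      tEl (pv (⟨a, by omega⟩ : Fin n) ⟨a + d + 1, h⟩ 1) ∈ M := by
    intro d
    induction d with
    | zero => exact fun a h => hadj a h
    | succ d ih =>
      intro a h
      have h1 : (⟨a, by omega⟩ : Fin n) ≠ ⟨a + d + 1, by omega⟩ := by simp [Fin.ext_iff]; omega
      have h2 : (⟨a + d + 1, by omega⟩ : Fin n) ≠ ⟨a + (d + 1) + 1, h⟩ := by simp [Fin.ext_iff]
      have h3 : (⟨a, by omega⟩ : Fin n) ≠ ⟨a + (d + 1) + 1, h⟩ := by simp [Fin.ext_iff]; omega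
      have e := hconj (iso_pv h2 one_ne_zero) (iso_pv h1 one_ne_zero) (hadj (a + d + 1) h)
        (ih a (by omega))
      rwa [tv_pv_pv h1 h2 h3 one_ne_zero, one_mul] at e
  have hsw : ∀ i j : Fin n, i ≠ j → tEl (pv i j 1) ∈ M := by
    have main : ∀ i j : Fin n, i.1 < j.1 → tEl (pv i j 1) ∈ M := fun i j h => by
      have e := htrans (j.1 - i.1 - 1) i.1 (by omega)
      have ej : (⟨i.1 + (j.1 - i.1 - 1) + 1, by omega⟩ : Fin n) = j := Fin.ext (by simp only; omega)
      rwa [ej] at e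
    intro i j hij
    rcases Nat.lt_or_gt_of_ne (fun e => hij (Fin.ext e)) with h | h
    · exact main i j h
    · have hone : pv i j (1 : GF4) = pv j i 1 := by simp only [pv, one_smul, add_comm]
      rw [hone]
      exact main j i h
  set z0 : Fin n := ⟨0, by omega⟩ with hz0
  set z1 : Fin n := ⟨1, by omega⟩ with hz1
  have h01 : z0 ≠ z1 := by simp [hz0, hz1, Fin.ext_iff]
  have hperm : ∀ k l : Fin n, k ≠ l → ∀ i j : Fin n, i ≠ j → ∀ a : GF4, a ≠ 0 → tEl (pv i j a) ∈ M →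
      tEl (pv (Equiv.swap k l i) (Equiv.swap k l j) a) ∈ M := by
    intro k l hkl i j hij a ha hmem
    have e := hconj (iso_pv hkl one_ne_zero) (iso_pv hij ha) (hsw k l hkl) hmem
    have hvec : tv (pv k l 1) (pv i j a) = pv (Equiv.swap k l i) (Equiv.swap k l j) a := by
      funext m
      simp only [tv_swap hkl, pv_apply, Equiv.swap_apply_eq_iff]
    rwa [hvec] at e
  have hbase : ∀ a : GF4, a ≠ 0 → tEl (pv z0 z1 a) ∈ M := by
    intro a ha
    have hw : tEl (pv z0 z1 GF4.w) ∈ M := by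
      have e := hp 2 (by omega)
      rwa [pt_two, tEl_smul (iso_pv h01 K.w_ne.1).2 K.w_ne.2.2.2.2] at e
    rcases K.cases a with rfl | rfl | rfl | rfl
    · exact absurd rfl ha
    · exact hsw z0 z1 h01
    · exact hw
    · have e := hperm z0 z1 h01 z0 z1 h01 GF4.w K.w_ne.1 hw
      rw [Equiv.swap_apply_left, Equiv.swap_apply_right] at e
      have hflip : pv z0 z1 (GF4.w ^ 2) = GF4.w ^ 2 • pv z1 z0 GF4.w := pv_swap K.w_ne.1
      rwa [hflip, tEl_smul (iso_pv h01.symm K.w_ne.1).2 K.w_ne.2.2.2.2]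
  have hmono : ∀ i j : Fin n, ∀ a : GF4, i ≠ j → a ≠ 0 → tEl (pv i j a) ∈ M := by
    intro i j a hij ha
    have hi : ∃ s1, i ≠ s1 ∧ tEl (pv i s1 a) ∈ M := by
      by_cases hi0 : i = z0
      · exact ⟨z1, hi0 ▸ h01, hi0 ▸ hbase a ha⟩
      have e := hperm z0 i (fun k => hi0 k.symm) z0 z1 h01 a ha (hbase a ha)
      rw [Equiv.swap_apply_left] at e
      exact ⟨_, fun k => h01 ((Equiv.swap z0 i).injective ((Equiv.swap_apply_left z0 i).trans k)), e⟩
    obtain ⟨s1, hs1, e⟩ := hi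
    by_cases hs : s1 = j
    · exact hs ▸ e
    have e' := hperm s1 j hs i s1 hs1 a ha e
    rwa [Equiv.swap_apply_left, Equiv.swap_apply_of_ne_of_ne hs1 hij] at e'
  refine mem_of_monomial hn hmono (iso_xv hn) (supp_xv hn) ?_
  have e := hp n le_rfl
  rwa [pt_last hn] at e

end CfsgLib.TwoRadGen.UG
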