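import Mathlib
import Cfsg.Agent.Lib.TwoRadGen.Interface
import Cfsg.Agent.Lib.TwoRadGen.UnitaryPattern
import Cfsg.Agent.Lib.TwoRadGen.UnitaryLarge
import Cfsg.Agent.Lib.TwoRadGen.UnitaryFour
import Cfsg.Agent.Lib.TwoRadGen.UnitaryFive
import Cfsg.Agent.Lib.TwoRadicalSU.Class
import Cfsg.Agent.Lib.TwoRadicalSU.Transfer
import Cfsg.Agent.Lib.ThreeTrans.Classif.Kinds

/-!
# The radical dichotomy over a projective unitary quotient
-/

set_option autoImplicit false
set_option linter.unusedSectionVars false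

namespace CfsgLib.TwoRadGen

open Cfsg CfsgLib.ThreeTrans CfsgLib.TwoRadical CfsgLib.ClassicalGroups Matrix
open CfsgLib.TwoRadicalSU (Vec SUn hf tv tEl Iso pv)
open CfsgLib.ThreeTrans.Classif (KindPSU)

universe u

/-- The quotient map onto the projective group. -/
abbrev pmk (n : ℕ) : SUn n →* SUn n ⧸ Subgroup.center (SUn n) := QuotientGroup.mk' _

theorem center_cube {n : ℕ} (hn : 1 ≤ n) {z : SUn n} (hz : z ∈ Subgroup.center (SUn n)) : z ^ 3 = 1 := by
  have h : (⟨z, hz⟩ : Subgroup.center (SUn n)) ^ Nat.card (Subgroup.center (SUn n)) = 1 := pow_card_eq_one'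
  rw [card_center_SU (q := 2) TwoRadicalSU.card_eq hn] at h
  have h' : z ^ Nat.gcd n 3 = 1 := congrArg Subtype.val h
  obtain ⟨k, hk⟩ := Nat.gcd_dvd_right n 3
  exact (congrArg (z ^ ·) hk).trans (by show z ^ (Nat.gcd n 3 * k) = 1; rw [pow_mul, h', one_pow])

theorem eq_one_of_inv {n : ℕ} (hn : 1 ≤ n) {z : SUn n} (hz : z ∈ Subgroup.center (SUn n)) (h : z⁻¹ = z) :
    z = 1 := by
  have h3 := center_cube hn hz
  have h2 : z * z = 1 := by nth_rw 1 [← h]; exact inv_mul_cancel z
  rwa [pow_succ, pow_two, h2, one_mul] at h3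

theorem eq_of_pmk {n : ℕ} (hn : 1 ≤ n) {A B : SUn n} (hA : A * A = 1) (hB : B * B = 1)
    (h : pmk n A = pmk n B) : A = B := by
  have hz : A⁻¹ * B ∈ Subgroup.center (SUn n) := QuotientGroup.eq.1 h
  have hA' : A⁻¹ = A := inv_eq_of_mul_eq_one_right hA
  have hB' : B⁻¹ = B := inv_eq_of_mul_eq_one_right hB
  rw [hA'] at hz
  have e : (A * B)⁻¹ = A * B := by
    rw [_root_.mul_inv_rev, hA', hB']
    have hc := Subgroup.mem_center_iff.1 hz A
    calc B * A = A * (A * B) * A := by rw [← mul_assoc, hA, one_mul]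
      _ = A * B := by rw [hc, mul_assoc, hA, mul_one]
  have h1 := eq_one_of_inv hn hz e
  calc A = A * (A * B) := by rw [h1, mul_one]
    _ = B := by rw [← mul_assoc, hA, one_mul]

theorem commute_of_pmk {n : ℕ} (hn : 1 ≤ n) {u v : Vec n} (hu : Iso u) (hv : Iso v)
    (h : Commute (pmk n (tEl u)) (pmk n (tEl v))) : hf u v = 0 := by
  refine TwoRadicalSU.perp_of_commute hu hv ?_
  have e : pmk n (tEl u * tEl v * tEl u) = pmk n (tEl v) := by
    rw [map_mul, map_mul, h.eq, mul_assoc, ← map_mul, TwoRadicalSU.tEl_mul_self hu.2, map_one, mul_one]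
  rw [TwoRadicalSU.conj_tEl_tEl hu.2 hv.2] at e
  have e2 := eq_of_pmk hn (TwoRadicalSU.tEl_mul_self (hv.tv hu.2).2) (TwoRadicalSU.tEl_mul_self hv.2) e
  rw [← TwoRadicalSU.conj_tEl_tEl hu.2 hv.2] at e2
  show tEl u * tEl v = tEl v * tEl u
  calc tEl u * tEl v = tEl u * tEl v * (tEl u * tEl u) := by rw [TwoRadicalSU.tEl_mul_self hu.2, mul_one]
    _ = tEl u * tEl v * tEl u * tEl u := by rw [← mul_assoc]
    _ = _ := by rw [e2]

namespace Img

variable {G : Type u} [Group G] [Finite G] {D : Set G}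
variable {V : Type u} [AddCommGroup V] [DistribMulAction G V]

theorem η_ne_one {X : Type*} [Group X] {E : Set X} (I : Img D X E) (H : Hyp D) {d : G} (hd : d ∈ D) :
    I.η d ≠ 1 := by
  intro h
  obtain ⟨e, he, hne⟩ := H.exists_not_commute hd
  exact hne (I.comm d hd e he (by rw [h]; exact Commute.one_left _))

/-- Images over unitary groups are the transvections. -/
theorem image_transvections {n : ℕ} {E : Set (SUn n ⧸ Subgroup.center (SUn n))}
    (I : Img D (SUn n ⧸ Subgroup.center (SUn n)) E) (H : Hyp D) (hn : 1 ≤ n) :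
    E = pmk n '' {A | ∃ v, Iso v ∧ A = tEl v} := by
  set S : Set (SUn n) := {A | A * A = 1 ∧ pmk n A ∈ E} with hSdef
  have hex : ∀ d ∈ D, ∃ A ∈ S, pmk n A = I.η d := by
    intro d hd
    obtain ⟨A, hA⟩ := QuotientGroup.mk'_surjective (Subgroup.center (SUn n)) (I.η d)
    have hA' : pmk n A = I.η d := hA
    have h2 : pmk n (A * A) = 1 := by rw [map_mul, hA', ← map_mul, mul_self H.set hd, map_one]
    have hz : A * A ∈ Subgroup.center (SUn n) := (QuotientGroup.eq_one_iff _).1 h2
    have h3 : pmk n (A * (A * A)) = I.η d := by rw [map_mul, h2, mul_one, hA']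
    refine ⟨A * (A * A), ⟨?_, ?_⟩, h3⟩
    · have := center_cube hn hz
      rw [← this]; simp only [pow_succ, pow_zero, one_mul, mul_assoc]
    · rw [h3]; exact I.mem hd
  have hS : Cfsg.IsThreeTranspositionSet S := by
    have horder : ∀ A ∈ S, orderOf A = 2 := by
      intro A hA
      refine orderOf_eq_prime (by rw [pow_two]; exact hA.1) fun h => ?_
      obtain ⟨d, hd, e⟩ := (Set.ext_iff.mp I.image _).mpr hA.2
      exact I.η_ne_one H hd (by rw [e, h, map_one])
    refine ⟨horder, fun A hA B hB => ?_⟩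
    obtain ⟨d, hd, ed⟩ := (Set.ext_iff.mp I.image _).mpr hA.2
    obtain ⟨e, he, ee⟩ := (Set.ext_iff.mp I.image _).mpr hB.2
    have hAi : A⁻¹ = A := inv_eq_of_mul_eq_one_right hA.1
    have hBi : B⁻¹ = B := inv_eq_of_mul_eq_one_right hB.1
    have hpow : ∀ k : ℕ, (d * e) ^ k = 1 → (A * B) ^ k = 1 := by
      intro k hk
      have hp : pmk n ((A * B) ^ k) = 1 := by
        rw [map_pow, map_mul, ← ed, ← ee, ← map_mul, ← map_pow, hk, map_one]
      have hz : (A * B) ^ k ∈ Subgroup.center (SUn n) := (QuotientGroup.eq_one_iff _).1 hp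
      refine eq_one_of_inv hn hz ?_
      have e1 : A * (A * B) ^ k * A⁻¹ = (B * A) ^ k := by
        rw [← conj_pow, show A * (A * B) * A⁻¹ = A * A * (B * A⁻¹) by group, hA.1, one_mul, hAi]
      rw [Subgroup.mem_center_iff.1 hz A, mul_inv_cancel_right] at e1
      conv_rhs => rw [e1]
      rw [← inv_pow, _root_.mul_inv_rev, hAi, hBi]
    exact (H.set.2 d hd e he).imp (hpow 2) (hpow 3)
  have hconj : ∀ g, ∀ A ∈ S, g * A * g⁻¹ ∈ S := by
    intro g A hA
    refine ⟨by rw [show g * A * g⁻¹ * (g * A * g⁻¹) = g * (A * A) * g⁻¹ by group, hA.1, mul_one, mul_inv_cancel], ?_⟩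
    obtain ⟨d, hd, ed⟩ := (Set.ext_iff.mp I.image _).mpr hA.2
    obtain ⟨y, hy⟩ := I.surj (pmk n g)
    rw [map_mul, map_mul, map_inv, ← ed, ← hy, ← map_inv, ← map_mul, ← map_mul]
    exact I.mem (H.closed.conj y d hd)
  obtain ⟨d0, hd0, -⟩ := H.cls.2.1
  obtain ⟨A0, hA0, -⟩ := hex d0 hd0
  have heq := TwoRadicalSU.class_eq hS hconj ⟨A0, hA0⟩
  rw [← heq]
  ext x
  constructor
  · intro hx
    obtain ⟨d, hd, rfl⟩ := (Set.ext_iff.mp I.image _).mpr hx
    obtain ⟨A, hA, e⟩ := hex d hd
    exact ⟨A, hA, e⟩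
  · rintro ⟨A, hA, rfl⟩
    exact hA.2

end Img

section

variable {G : Type u} [Group G] [Finite G] {D : Set G}
variable {V : Type u} [AddCommGroup V] [DistribMulAction G V]

/-- A surjection onto `SU(n,2)` with kernel the core. -/
noncomputable def quotCoreEquiv {n : ℕ} (π : G →* SUn n) (hs : Function.Surjective π)
    (hk : π.ker = pCore 2 G) [(pCore 2 G).Normal] : G ⧸ pCore 2 G ≃* SUn n :=
  (QuotientGroup.quotientMulEquivOfEq hk.symm).trans (QuotientGroup.quotientKerEquivOfSurjective π hs)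

/-- Members realising the pattern. -/
theorem exists_framed (W : Space D V) {n : ℕ} (hn : 4 ≤ n) (h5 : n ≠ 5)
    {E : Set (SUn n ⧸ Subgroup.center (SUn n))} (I : Img D (SUn n ⧸ Subgroup.center (SUn n)) E) :
    ∃ F : Framed D V (n + 1) n, F.P = UG.pattern hn h5 ∧ F.Gen ∧
      ∀ i, I.η (F.d i) = pmk n (tEl ((UG.pattern hn h5).p i)) := by
  have hE := I.image_transvections W.hyp (by omega)
  set P := UG.pattern hn h5 with hP
  have hiso : ∀ i, Iso (P.p i) := fun i => UG.iso_pt hn i.1
  have hlift : ∀ i, ∃ d ∈ D, I.η d = pmk n (tEl (P.p i)) := fun i =>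
    I.lift (by rw [hE]; exact ⟨_, ⟨_, hiso i, rfl⟩, rfl⟩)
  choose d hd hη using hlift
  have hcomm : ∀ i j, Commute (d i) (d j) ↔ hf (P.p i) (P.p j) = 0 := by
    intro i j
    rw [← I.comm_iff (hd i) (hd j), hη, hη]
    refine ⟨commute_of_pmk (by omega) (hiso i) (hiso j), fun h => ?_⟩
    exact (TwoRadicalSU.commute_of_perp (P.iso i) (P.iso j) h).map _
  have haff : ¬ Commute (d P.e₂) (d P.o * d P.e₁ * d P.o) := by
    intro k
    have hconjD : d P.o * d P.e₁ * d P.o ∈ D := by
      have := W.hyp.closed.conj (d P.o) _ (hd P.e₁)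
      rwa [ThreeTrans.inv_eq W.hyp.set (hd P.o)] at this
    rw [← I.comm_iff (hd _) hconjD, map_mul, map_mul, hη, hη, hη, ← map_mul, ← map_mul,
      TwoRadicalSU.conj_tEl_tEl (P.iso _) (P.iso _)] at k
    have h0 := commute_of_pmk (by omega) (hiso _) ((hiso _).tv (P.iso _)) k
    rw [TwoRadicalSU.tv, TwoRadicalSU.hf_add_right, TwoRadicalSU.hf_smul_right] at h0
    obtain ⟨t1, t2, t3⟩ : hf (P.p P.e₁) (P.p P.o) = 1 ∧ hf (P.p P.e₂) (P.p P.o) = 1 ∧
      hf (P.p P.e₂) (P.p P.e₁) = GF4.w := P.tri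
    rw [t1, t2, t3] at h0
    revert h0; decide +kernel
  let F : Framed D V (n + 1) n := ⟨W, P, d, ⟨hd, hcomm, haff⟩⟩
  refine ⟨F, rfl, fun e he => ?_, hη⟩
  obtain ⟨g, hg⟩ := class_conj W.hyp.cls (hd P.o) he
  have htop : (Subgroup.closure (Set.range d)).map I.η = ⊤ := by
    rw [MonoidHom.map_closure, ← Set.range_comp, show I.η ∘ d = pmk n ∘ fun i => tEl (P.p i) from funext hη,
      Set.range_comp, ← MonoidHom.map_closure, hP, UG.pattern_gen hn h5,
      Subgroup.map_top_of_surjective _ (QuotientGroup.mk'_surjective _)]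
  obtain ⟨k, hk, e'⟩ := (htop ▸ Subgroup.mem_top (I.η g) : I.η g ∈ (Subgroup.closure (Set.range d)).map I.η)
  refine ⟨k, hk, I.same e he _ (W.hyp.closed.conj k _ (hd P.o)) ?_⟩
  rw [← hg, map_mul, map_mul, map_inv, map_mul, map_mul, map_inv, e']

/-- With kernel the core, three does not divide the dimension. -/
theorem not_three_dvd (W : Space D V) {n : ℕ} (hn : 4 ≤ n) (h5 : n ≠ 5)
    {E : Set (SUn n ⧸ Subgroup.center (SUn n))} (I : Img D (SUn n ⧸ Subgroup.center (SUn n)) E)
    (hker : ∀ z, I.η z = 1 → z ∈ pCore 2 G) : ¬ 3 ∣ n := by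
  intro h3
  obtain ⟨F, hFP, hG, hη⟩ := exists_framed W hn h5 I
  obtain ⟨c, rfl⟩ := h3
  obtain ⟨z, hz⟩ := scalar_mem_SU (F := GF4) (q := 2) (n := 3 * c) (l := GF4.w)
    (by rw [pow_mul, show GF4.w ^ 3 = 1 by decide +kernel, one_pow]) (by decide +kernel)
  have hzx : ∀ x : Vec (3 * c), z.1.1 *ᵥ x = GF4.w • x := fun x => funext fun i => by
    rw [hz, Matrix.mulVec_diagonal]; rfl
  have hzc : z ∈ Subgroup.center (SUn (3 * c)) := Subgroup.mem_center_iff.2 fun g => SU_ext fun x => by
    rw [SU_mul_mulVec, SU_mul_mulVec, hzx, hzx, Matrix.mulVec_smul]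
  have hlist : ∀ z ∈ Submonoid.closure (Set.range fun i => tEl ((UG.pattern hn h5).p i)),
      ∃ l : List (Fin (3 * c + 1)), (l.map fun i => tEl ((UG.pattern hn h5).p i)).prod = z := by
    intro z hz
    induction hz using Submonoid.closure_induction with
    | mem x hx => obtain ⟨i, rfl⟩ := hx; exact ⟨[i], by simp⟩
    | one => exact ⟨[], rfl⟩
    | mul a b _ _ iha ihb =>
      obtain ⟨l, rfl⟩ := iha
      obtain ⟨l', rfl⟩ := ihb
      exact ⟨l ++ l', by simp⟩
  obtain ⟨l, hl⟩ := hlist z (by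
    rw [← Subgroup.closure_toSubmonoid_of_finite, UG.pattern_gen hn h5]; exact Subgroup.mem_top z)
  set k := (l.map F.d).prod with hk
  have hkη : I.η k = 1 := by
    rw [hk, map_list_prod, List.map_map, show (⇑I.η ∘ F.d) = pmk (3 * c) ∘ fun i => tEl ((UG.pattern hn h5).p i)
      from funext hη, ← List.map_map, ← map_list_prod, hl]
    exact (QuotientGroup.eq_one_iff _).2 hzc
  have hfold : ∀ x : Vec (3 * c), l.foldr (fun i y => tv (F.P.p i) y) x = GF4.w • x := by
    intro x
    rw [← hzx, ← hl, hFP]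
    clear hl hk hkη k
    induction l with
    | nil => rw [List.map_nil, List.prod_nil, SU_one_mulVec]; rfl
    | cons i l ih =>
      rw [List.map_cons, List.prod_cons, SU_mul_mulVec, ← ih,
        TwoRadicalSU.tEl_apply ((UG.pattern hn h5).iso i), List.foldr_cons]
  obtain ⟨ζ, h1, h2⟩ := F.central_scalar (I.ker k hkη) (F.acts_list l)
  have hζ : ζ = GF4.w := by
    have e := h1 F.P.e₁
    simp only [hfold, TwoRadicalSU.hf_smul_left] at e
    have hne : hf (F.P.p F.P.o) (F.P.p F.P.e₁) ≠ 0 := fun k0 =>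
      one_ne_zero (α := GF4) (F.P.tri.1.symm.trans (TwoRadicalSU.hf_zero_symm k0))
    exact (mul_right_cancel₀ hne e).symm
  obtain ⟨v, hv, hv0⟩ := F.exists_root_ne
  have e := h2 F.P.o v hv
  rw [F.core_trivial hG (hker k hkη), F.φ_root, AddMonoidHom.id_apply, AddMonoidHom.id_apply, hζ] at e
  have h01 : F.sc 1 v = F.sc GF4.w v := by rw [Framed.sc, F.W.sm_one]; exact e
  exact TwoRadicalSU.K.w_ne.2.1 (F.sc_inj hv hv0 h01).symm

theorem center_bot {n : ℕ} (hn : 1 ≤ n) (h3 : ¬ 3 ∣ n) : Subgroup.center (SUn n) = ⊥ := by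
  rw [← Subgroup.card_eq_one, card_center_SU (q := 2) TwoRadicalSU.card_eq hn]
  exact Nat.Coprime.symm ((Nat.Prime.coprime_iff_not_dvd Nat.prime_three).2 h3)

/-- The equivalence of the projective group with `SU(n,2)` when three does not divide the dimension. -/
noncomputable def pmkEquiv {n : ℕ} (hc : Subgroup.center (SUn n) = ⊥) :
    SUn n ≃* SUn n ⧸ Subgroup.center (SUn n) :=
  MulEquiv.ofBijective (pmk n) ⟨by
    rw [← MonoidHom.ker_eq_bot_iff, QuotientGroup.ker_mk']; exact hc, QuotientGroup.mk'_surjective _⟩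

/-- The data of `UModel`. -/
theorem exists_model (W : Space D V) {n : ℕ} (hn : 4 ≤ n) (h5 : n ≠ 5) (h3 : ¬ 3 ∣ n)
    {E : Set (SUn n ⧸ Subgroup.center (SUn n))} (I : Img D (SUn n ⧸ Subgroup.center (SUn n)) E)
    (hker : ∀ z, I.η z = 1 → z ∈ pCore 2 G) :
    Nonempty (UModel D V (n + 1) n) := by
  obtain ⟨F, hFP, -, hη⟩ := exists_framed W hn h5 I
  have hE := I.image_transvections W.hyp (by omega)
  set e := pmkEquiv (center_bot (by omega) h3)
  have happ : ∀ A, e A = pmk n A := fun A => rfl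
  set π : G →* SUn n := e.symm.toMonoidHom.comp I.η with hπ
  have hπη : ∀ g A, I.η g = pmk n A → π g = A := fun g A h => by
    show e.symm (I.η g) = A
    rw [h, ← happ, e.symm_apply_apply]
  have hηπ : ∀ g, I.η g = pmk n (π g) := fun g => by
    show _ = e (e.symm (I.η g))
    rw [e.apply_symm_apply]
  refine ⟨{ F := F, π := π, surj := e.symm.surjective.comp I.surj, ker := ?_, frame := ?_, gen := ?_,
            exists_vec := ?_, exists_mem := ?_, big := hn }⟩
  · ext z
    rw [MonoidHom.mem_ker]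
    refine ⟨fun h => hker z (by rw [hηπ, h, map_one]), fun h => hπη z 1 (by rw [I.core z h, map_one])⟩
  · intro i
    rw [hFP]; exact hπη _ _ (hη i)
  · rw [hFP]; exact UG.pattern_gen hn h5
  · intro d hd
    have := (Set.ext_iff.mp hE _).mp (I.mem hd)
    obtain ⟨A, ⟨v, hv, rfl⟩, hA⟩ := this
    exact ⟨v, hv, hπη d _ hA.symm⟩
  · intro v hv
    obtain ⟨d, hd, h⟩ := I.lift (show pmk n (tEl v) ∈ E by rw [hE]; exact ⟨_, ⟨v, hv, rfl⟩, rfl⟩)
    exact ⟨d, hd, hπη d _ h⟩

/-- In dimension five the kernel is the core. -/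
theorem exc_five (W : Space D V) {E : Set (SUn 5 ⧸ Subgroup.center (SUn 5))}
    (I : Img D (SUn 5 ⧸ Subgroup.center (SUn 5)) E) : ExcUnitary G := by
  classical
  have hQn : (pCore 2 G).Normal := pCore_normal 2 G
  have H := W.hyp
  have hE := I.image_transvections H (by norm_num)
  set e := pmkEquiv (n := 5) (center_bot (by norm_num) (by norm_num))
  have happ : ∀ A, e A = pmk 5 A := fun A => rfl
  set π : G →* SUn 5 := e.symm.toMonoidHom.comp I.η with hπ
  have hπη : ∀ g A, I.η g = pmk 5 A → π g = A := fun g A h => by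
    show e.symm (I.η g) = A
    rw [h, ← happ, e.symm_apply_apply]
  have hηπ : ∀ g, I.η g = pmk 5 (π g) := fun g => by
    show _ = e (e.symm (I.η g))
    rw [e.apply_symm_apply]
  have hQπ : pCore 2 G ≤ π.ker := fun z h => hπη z 1 (by rw [I.core z h, map_one])
  set πb : G ⧸ pCore 2 G →* SUn 5 := QuotientGroup.lift _ π hQπ with hπb
  have hπb' : ∀ g : G, πb (QuotientGroup.mk g) = π g := fun g => rfl
  have hmem : ∀ v, Iso v → ∃ d ∈ D, π d = tEl v := fun v hv => by
    obtain ⟨d, hd, h⟩ := I.lift (show pmk 5 (tEl v) ∈ E by rw [hE]; exact ⟨_, ⟨v, hv, rfl⟩, rfl⟩)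
    exact ⟨d, hd, hπη d _ h⟩
  have hvec : ∀ d ∈ D, ∃ v, Iso v ∧ π d = tEl v := fun d hd => by
    have := (Set.ext_iff.mp hE _).mp (I.mem hd)
    obtain ⟨A, ⟨v, hv, rfl⟩, hA⟩ := this
    exact ⟨v, hv, hπη d _ hA.symm⟩
  have huniq : ∀ d ∈ D, ∀ d' ∈ D, π d = π d' →
      (QuotientGroup.mk d : G ⧸ pCore 2 G) = QuotientGroup.mk d' := fun d hd d' hd' h =>
    I.same d hd d' hd' (by rw [hηπ, hηπ, h])
  let s : Vec 5 → G ⧸ pCore 2 G := fun v => if h : Iso v then QuotientGroup.mk (hmem v h).choose else 1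
  have hs : ∀ v, Iso v → ∀ d ∈ D, π d = tEl v → s v = QuotientGroup.mk d := fun v hv d hd h => by
    rw [show s v = QuotientGroup.mk (hmem v hv).choose from dif_pos hv]
    exact huniq _ (hmem v hv).choose_spec.1 d hd ((hmem v hv).choose_spec.2.trans h.symm)
  let L : Lift5 (G ⧸ pCore 2 G) :=
    { π := πb
      surj := fun A => by
        obtain ⟨g, hg⟩ := I.surj (pmk 5 A)
        exact ⟨QuotientGroup.mk g, by rw [hπb']; exact hπη g A hg⟩
      central := by
        intro y hy
        obtain ⟨z, rfl⟩ := QuotientGroup.mk_surjective y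
        have hzC : Central D z := I.ker z (by rw [hηπ, show π z = 1 from hy, map_one])
        rw [Subgroup.mem_center_iff]
        intro g
        obtain ⟨g, rfl⟩ := QuotientGroup.mk_surjective g
        have hg : g ∈ Subgroup.closure D := by rw [H.cls.2.2]; exact Subgroup.mem_top g
        induction hg using Subgroup.closure_induction with
        | mem d hd =>
          have h := hzC d hd
          rw [Same, QuotientGroup.mk_mul, QuotientGroup.mk_mul, QuotientGroup.mk_inv,
            mul_inv_eq_iff_eq_mul] at h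
          exact h.symm
        | one => simp
        | mul a b _ _ iha ihb => rw [QuotientGroup.mk_mul]; exact (Commute.mul_left iha ihb).eq
        | inv a _ ih => rw [QuotientGroup.mk_inv]; exact (Commute.inv_left ih).eq
      odd := by
        intro y hy h2
        obtain ⟨z, rfl⟩ := QuotientGroup.mk_surjective y
        rw [QuotientGroup.eq_one_iff]
        have : Fact (Nat.Prime 2) := ⟨Nat.prime_two⟩
        let N := (Subgroup.zpowers (QuotientGroup.mk z : G ⧸ pCore 2 G)).comap (QuotientGroup.mk' (pCore 2 G))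
        have hzC : Central D z := I.ker z (by rw [hηπ, show π z = 1 from hy, map_one])
        have hzcent : ∀ g : G ⧸ pCore 2 G, g * QuotientGroup.mk z = QuotientGroup.mk z * g := by
          intro g
          obtain ⟨g, rfl⟩ := QuotientGroup.mk_surjective g
          have hg : g ∈ Subgroup.closure D := by rw [H.cls.2.2]; exact Subgroup.mem_top g
          induction hg using Subgroup.closure_induction with
          | mem d hd =>
            have h := hzC d hd
            rw [Same, QuotientGroup.mk_mul, QuotientGroup.mk_mul, QuotientGroup.mk_inv,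
              mul_inv_eq_iff_eq_mul] at h
            exact h.symm
          | one => simp
          | mul a b _ _ iha ihb => rw [QuotientGroup.mk_mul]; exact (Commute.mul_left iha ihb).eq
          | inv a _ ih => rw [QuotientGroup.mk_inv]; exact (Commute.inv_left ih).eq
        have hzn : (Subgroup.zpowers (QuotientGroup.mk z : G ⧸ pCore 2 G)).Normal := ⟨fun a ha g => by
          obtain ⟨i, rfl⟩ := Subgroup.mem_zpowers_iff.1 ha
          rw [(Commute.zpow_right (hzcent g) i).eq, mul_inv_cancel_right]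
          exact Subgroup.zpow_mem_zpowers _ i⟩
        refine CfsgLib.PCore.le_pCore (N := N) (Subgroup.Normal.comap hzn _) ?_ (Subgroup.mem_zpowers _)
        rintro ⟨a, ha⟩
        obtain ⟨i, hi⟩ := Subgroup.mem_zpowers_iff.1
          (ha : QuotientGroup.mk' (pCore 2 G) a ∈ Subgroup.zpowers (QuotientGroup.mk z : G ⧸ pCore 2 G))
        have ha2 : a * a ∈ pCore 2 G := by
          rw [← QuotientGroup.eq_one_iff, QuotientGroup.mk_mul]
          rw [show (QuotientGroup.mk a : G ⧸ pCore 2 G) = (QuotientGroup.mk z : G ⧸ pCore 2 G) ^ i from hi.symm,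
            ← Commute.mul_zpow (Commute.refl _), h2, _root_.one_zpow]
        obtain ⟨k, hk⟩ := CfsgLib.PCore.pCore_isPGroup (G := G) (p := 2) ⟨a * a, ha2⟩
        refine ⟨k + 1, Subtype.ext ?_⟩
        have hk' : (a * a) ^ 2 ^ k = 1 := congrArg Subtype.val hk
        show a ^ 2 ^ (k + 1) = 1
        rw [pow_succ', pow_mul, pow_two]
        exact hk'
      s := s
      s_map := fun v hv => by
        obtain ⟨d, hd, h⟩ := hmem v hv
        rw [hs v hv d hd h, hπb', h]
      s_smul := fun v hv c hc => by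
        obtain ⟨d, hd, h⟩ := hmem v hv
        rw [hs v hv d hd h, hs _ (hv.smul hc) d hd (h.trans (TwoRadicalSU.tEl_smul hv.2 hc).symm)]
      s_sq := fun v hv => by
        obtain ⟨d, hd, h⟩ := hmem v hv
        rw [hs v hv d hd h, ← QuotientGroup.mk_mul, mul_self H.set hd, QuotientGroup.mk_one]
      s_conj := fun g v hv => by
        obtain ⟨g, rfl⟩ := QuotientGroup.mk_surjective g
        obtain ⟨d, hd, h⟩ := hmem v hv
        rw [hs v hv d hd h, hs _ (hv.map _) (g * d * g⁻¹) (H.closed.conj g d hd) (by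
          rw [map_mul, map_mul, map_inv, h, TwoRadicalSU.conj_tEl _ hv.2, hπb'])]
        rfl
      s_gen := by
        refine top_unique fun y hy => ?_
        clear hy
        obtain ⟨g, rfl⟩ := QuotientGroup.mk_surjective y
        have hg : g ∈ Subgroup.closure D := by rw [H.cls.2.2]; exact Subgroup.mem_top g
        induction hg using Subgroup.closure_induction with
        | mem d hd =>
          obtain ⟨v, hv, h⟩ := hvec d hd
          exact Subgroup.subset_closure ⟨v, hv, (hs v hv d hd h).symm⟩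
        | one => rw [QuotientGroup.mk_one]; exact one_mem _
        | mul a b _ _ iha ihb => rw [QuotientGroup.mk_mul]; exact mul_mem iha ihb
        | inv a _ ih => rw [QuotientGroup.mk_inv]; exact inv_mem ih }
  refine Or.inl ⟨MulEquiv.ofBijective πb ⟨?_, L.surj⟩⟩
  rw [← MonoidHom.ker_eq_bot_iff, eq_bot_iff]
  exact fun y hy => L.eq_one hy

/-- Piece B on the concrete projective group. -/
theorem goal_psu_aux (W : Space D V) {n : ℕ} (hn : 4 ≤ n) {E : Set (SUn n ⧸ Subgroup.center (SUn n))}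
    (I : Img D (SUn n ⧸ Subgroup.center (SUn n)) E) : Goal G ∨ ExcUnitary G := by
  by_cases h5 : n = 5
  · subst h5; exact Or.inr (exc_five W I)
  obtain ⟨F, -, hG, -⟩ := exists_framed W hn h5 I
  have hel : IsElementaryAbelian 2 (pCore 2 G) := F.elementary hG
  by_cases hker : ∀ z, I.η z = 1 → z ∈ pCore 2 G
  swap
  · push Not at hker
    obtain ⟨z, hz, hzQ⟩ := hker
    exact Or.inl ⟨hel, W.split_of_central (fun q hq v => F.core_trivial hG hq v)
      (fun z hz => F.central_dichotomy hG hz) (I.ker z hz) hzQ⟩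
  have h3 := not_three_dvd W hn h5 I hker
  obtain ⟨M⟩ := exists_model W hn h5 h3 I hker
  by_cases h4 : n = 4
  · subst h4; exact Or.inl ⟨hel, M.split_four⟩
  by_cases h7 : n = 7
  · subst h7
    have : (pCore 2 G).Normal := pCore_normal 2 G
    exact Or.inr (Or.inr ⟨quotCoreEquiv M.π M.surj M.ker⟩)
  have h6 : n ≠ 6 := fun e => h3 (e ▸ ⟨2, rfl⟩)
  exact Or.inl ⟨hel, M.split_large (by omega)⟩

/-- Piece B: projective unitary images. -/
theorem goal_psu (W : Space D V) {X : Type u} [Group X] {E : Set X} (I : Img D X E) {n : ℕ} (hn : 4 ≤ n)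
    (h : KindPSU E n) : Goal G ∨ ExcUnitary G := by
  obtain ⟨F, iF, iT, hF, e, -⟩ := h
  obtain ⟨e'⟩ := TwoRadicalSU.su_congr_n hF n
  exact goal_psu_aux W hn (I.trans (e.trans (QuotientGroup.congr _ _ e' (by
    ext x
    rw [Subgroup.mem_map]
    constructor
    · rintro ⟨y, hy, rfl⟩
      exact Subgroup.mem_center_iff.2 fun g => by
        obtain ⟨g, rfl⟩ := e'.surjective g
        show e' g * e' y = e' y * e' g
        rw [← map_mul, Subgroup.mem_center_iff.1 hy g, map_mul]
    · intro hx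
      refine ⟨e'.symm x, Subgroup.mem_center_iff.2 fun g => e'.injective ?_, e'.apply_symm_apply x⟩
      rw [map_mul, map_mul, e'.apply_symm_apply, Subgroup.mem_center_iff.1 hx]))))

end

end CfsgLib.TwoRadGen
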